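import Cfsg.Agent.Lib.Root.Lines

/-!
# Commutator chains of abstract root subgroups
-/

set_option autoImplicit false
set_option linter.unusedSectionVars false

namespace Cfsg.Lib.Root

open Subgroup Cfsg.Lib.Transfer
open scoped commutatorElement

variable {G : Type*} [Group G] {S : Set (Subgroup G)} {A B C D E M P Q R V W : Subgroup G} {a b c d e x y z : G} {n : ℕ}

theorem comm_sup_le (hW : ∀ x ∈ A ⊔ B, ∀ w ∈ W, x * w * x⁻¹ ∈ W) (h1 : ⁅V, A⁆ ≤ W) (h2 : ⁅V, B⁆ ≤ W) : ⁅V, A ⊔ B⁆ ≤ W :=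
  commutator_le.2 fun v hv x hx => (sup_ind (P := fun x => x ∈ A ⊔ B ∧ ⁅v, x⁆ ∈ W) hx
    (fun a ha => ⟨mem_sup_left ha, h1 (commutator_mem_commutator hv ha)⟩)
    (fun a ha => ⟨mem_sup_right ha, h2 (commutator_mem_commutator hv ha)⟩)
    fun x y hx hy => ⟨mul_mem hx.1 hy.1, comm_mul_right v x y ▸ mul_mem hx.2 (hW x hx.1 _ hy.2)⟩).2

theorem comm_sup_sup_le (hW : ∀ x ∈ A ⊔ B, ∀ w ∈ W, x * w * x⁻¹ ∈ W) (h1 : ⁅A, A⁆ ≤ W) (h2 : ⁅A, B⁆ ≤ W) (h3 : ⁅B, B⁆ ≤ W) :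
    ⁅A ⊔ B, A ⊔ B⁆ ≤ W :=
  comm_sup_le hW (commutator_comm A _ ▸ comm_sup_le hW h1 h2) (commutator_comm B _ ▸ comm_sup_le hW (commutator_comm A B ▸ h2) h3)

theorem class_two (hS : RS S) (hA : A ∈ S) (hB : B ∈ S) (h : ¬ RK A B) : ⁅⁅A ⊔ B, A ⊔ B⁆, A ⊔ B⁆ = ⊥ := by
  have e : ∀ A ∈ S, ⁅A, A⁆ = ⊥ := fun A hA => commutator_self_eq_bot_iff.2 (hS.commutative A hA)
  have h1 : ⁅A ⊔ B, A ⊔ B⁆ ≤ ⁅A, B⁆ := comm_sup_sup_le (fun x hx w hw => (cj_eq_of_mem_normalizer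
    (sup_le (normalizer_commutator_ge_left A B) (normalizer_commutator_ge_right A B) hx)).le (conj_mem_cj.2 hw))
    (e A hA ▸ bot_le) le_rfl (e B hB ▸ bot_le)
  refine Layer.commutator_eq_bot_mono ?_ h1 le_rfl
  obtain h | h := hS.tri' hA hB h
  · rw [h, commutator_bot_left]
  · exact comm_bot_iff.2 fun _ hc _ hx => h.cen hc hx

/-- The upper central series of a subgroup. -/
def uc (R : Subgroup G) (n : ℕ) : Subgroup G := (Subgroup.upperCentralSeries R n).map R.subtype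

theorem mem_uc_succ (hx : x ∈ R) (h : ∀ r ∈ R, ⁅x, r⁆ ∈ uc R n) : x ∈ uc R (n + 1) :=
  ⟨⟨x, hx⟩, Subgroup.mem_upperCentralSeries_succ_iff.2 fun y => by
    obtain ⟨u, hu, e⟩ := h y y.2
    rwa [show u = ⁅(⟨x, hx⟩ : R), y⁆ from Subtype.ext e] at hu, rfl⟩

theorem conj_mem_uc (hx : x ∈ R) (h : y ∈ uc R n) : x * y * x⁻¹ ∈ uc R n :=
  let ⟨_, hu, e⟩ := h
  ⟨_, Normal.conj_mem inferInstance _ hu ⟨x, hx⟩, e ▸ rfl⟩

theorem nil_of_uc (h : R ≤ uc R n) : Group.IsNilpotent R :=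
  ⟨n, eq_top_iff.2 fun x _ => let ⟨_, hu, e⟩ := h x.2; Subtype.ext e ▸ hu⟩

theorem mem_uc_sup (hx : x ∈ A ⊔ B ⊔ C) (h1 : ∀ r ∈ A, ⁅x, r⁆ ∈ uc (A ⊔ B ⊔ C) n) (h2 : ∀ r ∈ B, ⁅x, r⁆ ∈ uc (A ⊔ B ⊔ C) n)
    (h3 : ∀ r ∈ C, ⁅x, r⁆ ∈ uc (A ⊔ B ⊔ C) n) : x ∈ uc (A ⊔ B ⊔ C) (n + 1) :=
  have m : ∀ y z, y ∈ A ⊔ B ⊔ C ∧ ⁅x, y⁆ ∈ uc (A ⊔ B ⊔ C) n → z ∈ A ⊔ B ⊔ C ∧ ⁅x, z⁆ ∈ uc (A ⊔ B ⊔ C) n → _ :=
    fun y z hy hz => And.intro (mul_mem hy.1 hz.1) (comm_mul_right x y z ▸ mul_mem hy.2 (conj_mem_uc hy.1 hz.2))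
  mem_uc_succ hx fun r hr => (sup_ind (P := fun y => y ∈ A ⊔ B ⊔ C ∧ ⁅x, y⁆ ∈ uc (A ⊔ B ⊔ C) n) hr
    (fun a ha => sup_ind (P := fun y => y ∈ A ⊔ B ⊔ C ∧ ⁅x, y⁆ ∈ uc (A ⊔ B ⊔ C) n) ha
      (fun a ha => ⟨mem_sup_left (mem_sup_left ha), h1 a ha⟩) (fun a ha => ⟨mem_sup_left (mem_sup_right ha), h2 a ha⟩) m)
    (fun a ha => ⟨mem_sup_right ha, h3 a ha⟩) m).2

theorem chain_uc (H : CM S A B) (H' : CM S C B) (hM : A ⊔ ⁅A, B⁆ ⊔ (C ⊔ ⁅C, B⁆) ≤ M) (hc : ⁅⁅M, M⁆, M⁆ = ⊥) :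
    ⁅A, B⁆ ≤ uc (A ⊔ B ⊔ C) 3 := fun d hd => by
  have k := fun x hx y hy z hz => comm_eq_one.2 (comm_bot_iff.1 hc _ (commutator_mem_commutator (g₁ := x) (g₂ := y) hx hy) z hz)
  have hA : A ≤ M := le_sup_left.trans (le_sup_left.trans hM)
  have hC : C ≤ M := le_sup_left.trans (le_sup_right.trans hM)
  have hd' := hM (mem_sup_left (mem_sup_right hd))
  have hd'' : d ∈ A ⊔ B ⊔ C := mem_sup_left (commutator_le_sup _ _ hd)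
  have c : ∀ {x y}, x ∈ A ⊔ B ⊔ C → y ∈ A ⊔ B ⊔ C → ⁅x, y⁆ ∈ A ⊔ B ⊔ C := fun hx hy =>
    mul_mem (mul_mem (mul_mem hx hy) (inv_mem hx)) (inv_mem hy)
  refine mem_uc_sup hd'' (fun a ha => comm_eq_one.2 (H.cl hd ha) ▸ one_mem _) (fun a ha => comm_eq_one.2 (H.cr hd ha) ▸ one_mem _)
    fun x hx => mem_uc_sup (c hd'' (mem_sup_right hx)) (fun a ha => k d hd' x (hC hx) a (hA ha) ▸ one_mem _) (fun b hb => ?_)
      fun a ha => k d hd' x (hC hx) a (hC ha) ▸ one_mem _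
  have he : ⁅b, x⁆ ∈ ⁅C, B⁆ := commutator_comm B C ▸ commutator_mem_commutator hb hx
  have he' := hM (mem_sup_right (mem_sup_right he))
  have e : ⁅b, ⁅d, x⁆⁆ = ⁅d, ⁅b, x⁆⁆ := by
    have := comm_mul_right d ⁅b, x⁆ x
    rw [← comm_eq_one.1 (k d hd' x (hC hx) _ he'), mul_inv_cancel_right, ← conj_eq_comm] at this
    rw [← mul_left_inj ⁅d, x⁆, ← conj_eq_comm, ← this, conjugate_commutatorElement, ← H.cr hd hb, mul_inv_cancel_right]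
  rw [← commutatorElement_inv, e]
  refine inv_mem (mem_uc_sup (c hd'' (c (mem_sup_left (mem_sup_right hb)) (mem_sup_right hx)))
    (fun a ha => k d hd' _ he' a (hA ha) ▸ one_mem _) (fun b' hb' => ?_) fun a ha => k d hd' _ he' a (hC ha) ▸ one_mem _)
  have h1 : Commute b' d := (H.cr hd hb').symm
  have h2 : Commute b' ⁅b, x⁆ := (H'.cr he hb').symm
  exact comm_eq_one.2 (((h1.mul_right h2).mul_right h1.inv_right).mul_right h2.inv_right).symm ▸ one_mem _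

theorem not_rk_chain (hS : RS S) (hA : A ∈ S) (hB : B ∈ S) (hC : C ∈ S) (H : CM S A B) (h : ⁅A, C⁆ = ⊥) (hb : b ∈ B) (h1 : b ≠ 1) :
    ¬ RK A (cj b C) := fun k => by
  obtain ⟨d, hd, h2⟩ := hS.exists_ne_one H.mem
  obtain ⟨a, ha, rfl⟩ := H.symm.sl hb h1 (commutator_comm A B ▸ hd)
  have h3 : a ≠ 1 := fun e => h2 (by simp [e])
  refine h3 (conj_eq_one_iff.1 (hS.central_translate k (hS.cj_mem hC b) H.mem (fun x hx => ?_) (inv_mem ha) (inv_ne_one.2 h3) hd))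
  exact comm_bot_iff.1 (Layer.commutator_eq_bot_symm (Layer.commutator_sup_eq_bot
    (hS.cj_comm hA hB (hS.not_rk_of_cm hA hB H) hb) (by rw [← cj_commutator, commutator_comm, h, cj_bot])))
    _ (conj_mem_cj.2 ha) x hx

end Cfsg.Lib.Root
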