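import Cfsg.Agent.Lib.Root.Lines

/-!
# Classes of abstract root subgroups
-/

set_option autoImplicit false
set_option linter.unusedSectionVars false

namespace Cfsg.IsRootSubgroupSet

open Subgroup Cfsg.Lib.Transfer Cfsg.Lib.Root
open scoped commutatorElement

variable {G : Type*} [Group G] {S : Set (Subgroup G)} {A B C D E F P Q R : Subgroup G} {a a' b b' c d e f g p q r x y z : G}
  (hS : RS S)
include hS

theorem exists_line_cm (hA : A ∈ S) (hB : B ∈ S) (h : RK A B) (hl : Ln S A D) :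
    ∃ C, Ln S A C ∧ A ⊔ C = A ⊔ D ∧ CM S C B ∧ CM S A ⁅C, B⁆ ∧ ⁅A, ⁅C, B⁆⁆ = C :=
  let ⟨C, hC, _, h1, h2, h3, h4⟩ := hS.exists_mv hA hB hl h
  ⟨C, Ln.symm (h4 ▸ hS.line_comm hA ⟨B, hB, h⟩ h3) hC, h1, h2, h3, h4⟩

theorem sp_of_line (hA : A ∈ S) (hB : B ∈ S) (h : RK A B) (hl : Ln S A D) : Sp A B := by
  obtain ⟨C, h1, -, H, H', e⟩ := hS.exists_line_cm hA hB h hl
  have := hS.commutative _ h1.1.1
  have := hS.commutative _ H.mem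
  have : IsMulCommutative ↥(C ⊔ ⁅C, B⁆) := ⟨⟨fun x y => Subtype.ext (comm_sup_of_comm H.comm_l x.2 y.2)⟩⟩
  have e3 := fun d => H'.symm.cj_sup (b := d)
  rw [commutator_comm _ A, e, sup_comm] at e3
  obtain ⟨a, ha, h2⟩ := h.exists_ne_one
  obtain ⟨b, hb, h3⟩ := h.symm.exists_ne_one
  obtain ⟨c, hc, h4⟩ := hS.exists_ne_one h1.1.1
  refine sp_of_norm h (N := C ⊔ ⁅C, B⁆) (fun x hx => sup_ind hx e3 (fun _ => H.cj_sup) fun x y hx hy => by rw [cj_mul, hy, hx])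
    (fun a ha a' ha' n hn => ?_) ⟨b, mem_sup_right hb, a, mem_sup_left ha, c, mem_sup_left hc,
      hS.cm_not_commute hA ⟨B, hB, h⟩ H' ha h2 (commutator_comm B C ▸ commutator_mem_commutator hb hc) fun e =>
      hS.cm_not_commute hB ⟨A, hA, h.symm⟩ H.symm hb h3 hc h4 (comm_eq_one.1 e)⟩
  obtain ⟨d, hd, c, hc, rfl⟩ := mem_sup_of_comm H.comm_l hn
  rw [comm_mul_right, comm_eq_one.2 (comm_bot_iff.1 h1.1.2.2 a ha c hc), mul_one, mul_inv_cancel, mul_one,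
    H'.cl (commutator_mem_commutator ha hd) ha']

theorem line_gen (hn : ∀ A ∈ S, NI S A) (hl : ∀ A ∈ S, ∃ D, Ln S A D) (hc : ∀ A ∈ S, ∀ B ∈ S, Cn S A B) (hA : A ∈ S)
    {T : Subgroup G → Prop} (h0 : T A) (hT : ∀ P ∈ S, ∀ Q, T P → Ln S P Q → T Q) (hB : B ∈ S) : T B := by
  have := hc A hA B hB
  clear hB
  induction this with
  | refl => exact h0
  | @tail P Q _ h ih =>
    obtain ⟨D, hD⟩ := hl P h.1
    obtain ⟨C, h1, -, H, -⟩ := hS.exists_line_cm h.1 h.2.1 h.2.2 hD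
    exact hT _ H.mem _ (hT _ h1.1.1 _ (hT _ h.1 _ ih h1) (Ln.symm (hS.line_comm h1.1.1 (hn _ h1.1.1) H) H.mem))
      (commutator_comm Q C ▸ hS.line_comm h.2.1 (hn _ h.2.1) H.symm)

theorem eq_top_of_lines (hn : ∀ A ∈ S, NI S A) (hl : ∀ A ∈ S, ∃ D, Ln S A D) (hc : ∀ A ∈ S, ∀ B ∈ S, Cn S A B)
    (hA : A ∈ S) (hB : B ∈ S) (h : RK A B) (h1 : ∀ C, Ln S A C → C ≤ P) (h2 : B ≤ P) : P = ⊤ := by
  have k1 : ∀ D, Ln S A D → ∃ C, C ≤ A ⊔ D ∧ A ≤ P ∧ ∀ E ∈ membersIn S (A ⊔ D), E ≠ C → ∃ x ∈ P, cj x A = E := fun D hD => by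
    obtain ⟨C, h3, e, H, H', e'⟩ := hS.exists_line_cm hA hB h hD
    have h4 : ⁅C, B⁆ ≤ P := (commutator_le_sup _ _).trans (sup_le (h1 C h3) h2)
    obtain ⟨d, hd, h5⟩ := hS.exists_ne_one H.mem
    obtain ⟨a, ha, h6⟩ := hS.exists_ne_one hA
    refine ⟨C, e ▸ le_sup_right, ?_, fun E hE hne => ?_⟩
    · have := h1 _ (hS.line_of_mem hn hA h3 ⟨hA, le_sup_left⟩ ⟨hS.cj_mem hA d, e' ▸ H'.cj_le hd⟩ fun e1 =>
        h3.1.2.1 (hS.eq_of_mem (a := ⁅d, a⁆) (hn A hA) h3.1.1 (mul_mem (e1.ge (conj_mem_cj.2 ha)) (inv_mem ha))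
          (e'.le (commutator_comm _ A ▸ commutator_mem_commutator hd ha))
          fun e => hS.cm_not_commute hA (hn A hA) H' ha h6 hd h5 (comm_eq_one.1 e).symm)).2
      rwa [cj_le_iff_le_cj_inv, cj_eq_of_mem (inv_mem (h4 hd))] at this
    · obtain ⟨x, hx, rfl⟩ := ((hS.members_comm hA (hn A hA) H').1 (by rwa [e', e])).resolve_right (e'.symm ▸ hne)
      exact ⟨x, h4 hx, rfl⟩
  have k2 : ∀ D, Ln S A D → ∃ x ∈ P, cj x A = D := fun D hD => by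
    obtain ⟨C, -, -, k⟩ := k1 D hD
    by_cases e : D = C
    swap
    · exact k D ⟨hD.1.1, le_sup_right⟩ e
    obtain ⟨E, hE, H, e'⟩ := hS.exists_comm_eq hn hD.1.1 (hD.symm hA)
    obtain ⟨x, hx, h3⟩ := hS.exists_ne_one hE
    obtain ⟨d, hd, h4⟩ := hS.exists_ne_one hD.1.1
    have h5 := h1 E (by simpa only [commutator_comm E, e'] using hS.line_comm hE (hn E hE) H.symm) hx
    obtain ⟨y, hy, e1⟩ := k _ ⟨hS.cj_mem hD.1.1 x, sup_comm D A ▸ e' ▸ H.cj_le hx⟩ fun e1 =>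
      hD.1.2.1 (hS.eq_of_mem (hn A hA) hD.1.1 (e'.le (commutator_comm _ D ▸ commutator_mem_commutator hx hd))
        (mul_mem ((e1.trans e.symm).le (conj_mem_cj.2 hd)) (inv_mem hd))
        fun e => hS.cm_not_commute hE (hn E hE) H.symm hx h3 hd h4 (comm_eq_one.1 e))
    exact ⟨x⁻¹ * y, mul_mem (inv_mem h5) hy, by rw [cj_mul, e1, cj_inv_cj]⟩
  refine hS.eq_top fun E hE => ?_
  obtain ⟨D, hD⟩ := hl A hA
  obtain ⟨-, -, h3, -⟩ := k1 D hD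
  obtain ⟨x, hx, rfl⟩ := hS.line_gen hn hl hc hA (T := fun E => ∃ x ∈ P, cj x A = E) ⟨1, one_mem _, cj_one _⟩ (by
    rintro _ - Q ⟨x, hx, rfl⟩ hQ
    obtain ⟨y, hy, e⟩ := k2 (cj x⁻¹ Q) (by simpa only [cj_inv_cj] using hQ.conj hS x⁻¹)
    exact ⟨x * y, mul_mem hx hy, by rw [cj_mul, e, cj_cj_inv]⟩) hE
  exact (cj_mono x h3).trans (cj_eq_of_mem hx).le

theorem exists_sep (hn : ∀ A ∈ S, NI S A) (hB : B ∈ S) (H : CM S B D) (hd : d ∈ D) (h1 : d ≠ 1) :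
    ∃ F ∈ S, RK (cj d B) F ∧ ¬ RK B F := by
  obtain ⟨F, hF, h2⟩ := hn _ H.mem
  obtain ⟨b, hb, h3⟩ := hS.exists_ne_one hB
  have key : ∀ F ∈ S, RK ⁅B, D⁆ F → ¬ RK B F → RK (cj d B) F := fun F hF h2 h4 =>
    hS.rk_of_mul hF hB (hS.cj_mem hB d) h2 h4 (commutator_comm D B ▸ commutator_mem_commutator hd hb)
      (fun e => hS.cm_not_commute hB (hn B hB) H hb h3 hd h1 (comm_eq_one.1 e).symm) hb (by
        rw [H.symm.cr (commutator_mem_commutator hd hb) hb |>.symm, ← conj_eq_comm]; exact conj_mem_cj.2 hb)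
  by_cases h4 : RK B F
  swap
  · exact ⟨F, hF, key F hF h2 h4, h4⟩
  obtain ⟨p, hp, q, hq, h5, -, h6⟩ := hS.exists_not_rk h4 h2 H.comm_l
  obtain ⟨x, hx, e⟩ := H.exists_cj hq hp h5
  have h7 : ¬ RK B (cj x⁻¹ F) := fun k => h6 _ (e ▸ by simpa using h5) (e ▸ conj_mem_cj.2 hp)
    (by simpa only [cj_cj_inv] using k.conj x)
  exact ⟨_, hS.cj_mem hF _, key _ (hS.cj_mem hF _) (by simpa only [H.cj_comm (inv_mem hx)] using h2.conj x⁻¹) h7, h7⟩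

end Cfsg.IsRootSubgroupSet

namespace Cfsg.Lib.Root

open Subgroup Cfsg.Lib.Transfer
open scoped commutatorElement

variable {G : Type*} [Group G] {S : Set (Subgroup G)} {A B C D E F P Q R : Subgroup G} {a a' b b' c d e f g p q r x y z : G}

/-- The comparison trick: an invariant preorder between two partners of `B`. -/
theorem prec_trick {r : Subgroup G → Subgroup G → Prop} (ht : ∀ {P Q R}, r P Q → r Q R → r P R)
    (hc : ∀ g {P Q}, r P Q → r (cj g P) (cj g Q)) (hA : RK A B) (hC : RK C B) (h : r A C) :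
    ∃ a ∈ A, ∃ c ∈ C, ∃ c' ∈ C, a ≠ 1 ∧ c' ≠ 1 ∧ r (cj (a * c' * a⁻¹) B) (cj a B) ∧ r (cj a B) (cj c B) ∧
      (r (cj c B) (cj a B) → r C A) := by
  obtain ⟨b, hb, h1⟩ := hA.symm.exists_ne_one
  obtain ⟨a, p⟩ := hA.exists_pt' hb h1
  obtain ⟨c, q⟩ := hC.exists_pt' hb h1
  obtain ⟨b', p'⟩ := hA.exists_pt (inv_mem p.l) (inv_ne_one.2 (p.ne_one hA.ne))
  obtain ⟨c', q'⟩ := hC.exists_pt' p'.r (p'.symm.ne_one hA.ne.symm)
  refine ⟨a, p.l, c, q.l, c'⁻¹, inv_mem q'.l, p.ne_one hA.ne, inv_ne_one.2 (q'.ne_one hC.ne), ?_,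
    p.eq ▸ q.eq ▸ hc b h, fun e => by simpa only [← p.eq, ← q.eq, cj_inv_cj] using hc b⁻¹ e⟩
  have := hc (a * c'⁻¹) (hc b' h)
  rwa [p'.eq, q'.eq, ← cj_mul, ← cj_mul, inv_mul_cancel_right] at this

theorem prec_symm {r : Subgroup G → Subgroup G → Prop} (ht : ∀ {P Q R}, r P Q → r Q R → r P R)
    (hc : ∀ g {P Q}, r P Q → r (cj g P) (cj g Q)) (hr : ∀ g g', r (cj g B) (cj g' B) → ¬ RK (cj g B) (cj g' B))
    (hA : RK A B) (hC : RK C B) (h : r A C) (e : ⁅A, C⁆ = ⊥) : r C A := by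
  obtain ⟨a, ha, c, hc', c', hc'', -, -, h1, h2, h3⟩ := prec_trick (r := r) ht hc hA hC h
  rw [comm_bot_iff.1 e a ha c' hc'', mul_inv_cancel_right] at h1
  have u := fun c (hc : c ∈ C) => IsRankOnePair.cj_mem (mem_sup_left hc) hC.right_mem
  exact h3 ((by_contra fun hn => hr _ _ (ht h1 h2) (hC.of_mem (u _ hc'') (u _ hc') hn).1 : cj c' B = cj c B) ▸ h1)

theorem partners_symm (hS : RS S) (hn : ∀ A ∈ S, NI S A) (hA : A ∈ S) (hC : C ∈ S)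
    (h : Cfsg.rankOnePartners S A ⊆ Cfsg.rankOnePartners S C) :
    ⁅A, C⁆ = ⊥ ∧ Cfsg.rankOnePartners S C ⊆ Cfsg.rankOnePartners S A := by
  let r := fun P Q => Cfsg.rankOnePartners S P ⊆ Cfsg.rankOnePartners S Q
  have ht : ∀ {P Q R}, r P Q → r Q R → r P R := Set.Subset.trans
  have hc : ∀ g {P Q}, r P Q → r (cj g P) (cj g Q) := fun g _ _ h F hF =>
    ⟨hF.1, by simpa only [cj_cj_inv] using (h ⟨hS.cj_mem hF.1 g⁻¹, by simpa only [cj_inv_cj] using hF.2.conj g⁻¹⟩).2.conj g⟩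
  have hr : ∀ {P Q}, Q ∈ S → r P Q → ¬ RK P Q := fun hQ h e => (h ⟨hQ, e⟩).2.ne rfl
  obtain ⟨B, hB, h1⟩ := hn A hA
  have h2 := (h ⟨hB, h1⟩).2
  suffices ⁅A, C⁆ = ⊥ from ⟨this, prec_symm (r := r) ht hc (fun g g' => hr (hS.cj_mem hB g')) h1 h2 h this⟩
  refine (hS.tri' hA hC (hr hC h)).resolve_right fun H => ?_
  obtain ⟨a, ha, c, hc', c', hc'', h3, h4, h5, h6, -⟩ := prec_trick (r := r) ht hc h1 h2 h
  have h7 := hc c⁻¹ (ht h5 h6)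
  have hd := commutator_mem_commutator ha hc''
  have h8 : ⁅a, c'⁆ ≠ 1 := fun e => hS.cm_not_commute hA (hn A hA) H ha h3 hc'' h4 (comm_eq_one.1 e)
  rw [cj_inv_cj, ← cj_mul, conj_eq_comm, ← mul_assoc, ← H.cr hd (inv_mem hc'), mul_assoc] at h7
  have h9 : ∀ {R x}, RK R B → x ∈ R → x ≠ 1 → ¬ r (cj x B) B := fun k hx h1 e => hr hB e (k.cj_right hx h1).1.symm
  by_cases e : c⁻¹ * c' = 1
  · rw [e, mul_one] at h7
    obtain k | k | k := hS.tri hB H.mem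
    · obtain ⟨b, hb, h10⟩ := hS.exists_ne_one hB
      obtain ⟨x, -, e⟩ := H.exists_cj hd ha h3
      exact h8 (hS.eq_one_of_commute h1 hB (hS.cj_mem hA x) (fun _ => H.cl hd) ha h3 (e ▸ conj_mem_cj.2 ha) hb h10
        (comm_bot_iff.1 k b hb _ hd).symm)
    · exact h9 k.symm hd h8 h7
    · obtain ⟨F, hF, k1, k2⟩ := hS.exists_sep hn hB k hd h8
      exact k2 (h7 ⟨hF, k1⟩).2
  · obtain ⟨x, hx, e'⟩ := H.symm.exists_cj (commutator_comm A C ▸ hd) (mul_mem (inv_mem hc') hc'') e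
    refine h9 (R := cj x C) ?_ (e' ▸ conj_mem_cj.2 (mul_mem (inv_mem hc') hc'')) (e' ▸ by simpa using e) h7
    simpa only [cj_cj_inv] using (h ⟨hS.cj_mem hB x⁻¹, by simpa only [cj_eq_of_mem (inv_mem hx)] using h1.conj x⁻¹⟩).2.conj x

/-- Non-degenerate classes. -/
structure ND (S : Set (Subgroup G)) : Prop where
  rs : RS S
  ni : ∀ A ∈ S, NI S A
  line : ∀ A ∈ S, ∃ D, Ln S A D
  cn : ∀ A ∈ S, ∀ B ∈ S, Cn S A B

theorem ni_of_class (h : Cfsg.IsRootSubgroupClass S) (hA : A ∈ S) (hn : NI S A) (B : Subgroup G) (hB : B ∈ S) : NI S B :=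
  let ⟨g, e⟩ := h.2.2 A hA B hB
  e ▸ hn.conj h.1 g

theorem nd_of_cm (hS : RS S) (hn : ∀ A ∈ S, NI S A) (hc : ∀ A ∈ S, ∀ B ∈ S, Cn S A B) (hA : A ∈ S) (H : CM S A B) : ND S :=
  ⟨hS, hn, fun C hC => let ⟨g, e⟩ := (hc _ H.mem C hC).exists_cj
    ⟨_, e ▸ Ln.conj hS (hS.line_comm hA (hn A hA) H) g⟩, hc⟩

theorem nd_of (h : Cfsg.IsRootSubgroupClass S) (h' : Cfsg.IsNondegenerateRootSet S) : ND S :=
  let ⟨_, ⟨_, hA, h1⟩, _, hP, _, _, H⟩ := h'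
  have hn := ni_of_class h hA h1
  nd_of_cm h.1 hn (fun A hA B hB => let ⟨g, e⟩ := h.2.2 A hA B hB; e ▸ h.1.cn_cj hA (hn A hA) g) hP (cm_iff.1 H)

theorem ND.sp (h : ND S) (hA : A ∈ S) (hB : B ∈ S) (h1 : RK A B) : Sp A B :=
  let ⟨_, hD⟩ := h.line A hA
  h.rs.sp_of_line hA hB h1 hD

theorem ND.eq_top (h : ND S) (hA : A ∈ S) (hB : B ∈ S) (h1 : RK A B) (h2 : ∀ C, Ln S A C → C ≤ P) (h3 : B ≤ P) : P = ⊤ :=
  h.rs.eq_top_of_lines h.ni h.line h.cn hA hB h1 h2 h3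

theorem mem_cent : E ∈ Cfsg.centralizingMembers S A ↔ E ∈ S ∧ ⁅E, A⁆ = ⊥ :=
  and_congr_right' commutator_eq_bot_iff_le_centralizer.symm

theorem rk_of_cent (hS : RS S) (hA : A ∈ S) (hB : B ∈ S) (hC : C ∈ S)
    (h1 : Cfsg.centralizingMembers S A ⊆ Cfsg.centralizingMembers S C) (h2 : RK C B) : RK A B := by
  have k : ∀ E ∈ S, ⁅E, A⁆ = ⊥ → ⁅E, C⁆ = ⊥ := fun E hE e => (mem_cent.1 (h1 (mem_cent.2 ⟨hE, e⟩))).2
  obtain H | H | H := hS.tri hB hA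
  · exact absurd (k B hB H) h2.symm.comm_ne_bot
  · exact H.symm
  obtain ⟨d, hd, h3⟩ := hS.exists_ne_one H.mem
  obtain ⟨b, hb, h4⟩ := hS.exists_ne_one hB
  obtain ⟨c, hc, h5⟩ := h2.exists_ne_one
  obtain ⟨x, -, e⟩ := H.exists_cj hd hb h4
  exact absurd (hS.eq_one_of_commute h2.symm hC (hS.cj_mem hB x) (fun _ => H.cl hd) hb h4 (e ▸ conj_mem_cj.2 hb) hc h5
    (comm_bot_iff.1 (k _ H.mem (Layer.commutator_eq_bot_symm H.comm_r)) d hd c hc)) h3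

theorem cent_symm (hS : RS S) (hA : A ∈ S) (hC : C ∈ S) (hn : NI S C)
    (h1 : Cfsg.centralizingMembers S A ⊆ Cfsg.centralizingMembers S C) :
    Cfsg.centralizingMembers S C ⊆ Cfsg.centralizingMembers S A := by
  have self : ∀ P ∈ S, P ∈ Cfsg.centralizingMembers S P := fun P hP =>
    mem_cent.2 ⟨hP, commutator_self_eq_bot_iff.2 (hS.commutative P hP)⟩
  obtain ⟨B, hB, h2⟩ := hn
  refine prec_symm (r := fun P Q => Cfsg.centralizingMembers S P ⊆ Cfsg.centralizingMembers S Q) Set.Subset.trans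
    (fun g _ _ h F hF => mem_cent.2 ⟨hF.1, ?_⟩) (fun g g' h k => k.comm_ne_bot (mem_cent.1 (h (self _ (hS.cj_mem hB g)))).2)
    (rk_of_cent hS hA hB hC h1 h2) h2 h1 (mem_cent.1 (h1 (self A hA))).2
  have := (mem_cent.1 (h (mem_cent.2 ⟨hS.cj_mem hF.1 g⁻¹, by
    rw [← cj_eq_bot (g := g), cj_commutator, cj_cj_inv, (mem_cent.1 hF).2]⟩))).2
  rwa [← cj_eq_bot (g := g), cj_commutator, cj_cj_inv] at this

end Cfsg.Lib.Root
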