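import Cfsg.Agent.Lib.Root.Chain
import Cfsg.Agent.Lib.Root.Class

/-!
# Sets of root subgroups in an ambient group and their components
-/

set_option autoImplicit false
set_option linter.unusedSectionVars false

namespace Cfsg.Lib.Root

open Subgroup Cfsg.Lib.Transfer Cfsg.Lib.Layer
open scoped commutatorElement

variable {G : Type*} [Group G] {S : Set (Subgroup G)} {A B C : Subgroup G} {g : G}

theorem qs_of_rs (hS : RS S) (hA : A ∈ S) (hn : ∀ C ∈ S, NI S C) (h1 : ∀ A ∈ S, ∀ B ∈ S, Cn S A B)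
    (h2 : ∀ C ∈ S, ∀ D ∈ S, RK C D → C ⊔ D ≤ ⁅C ⊔ D, C ⊔ D⁆) (h3 : ∀ N : Subgroup G, N.Normal →
      (∀ n ∈ N, ∀ A ∈ S, centralizingMembers S A = centralizingMembers S (cj n A)) → N ≤ center G) : IsQuasisimple G := by
  have k1 : ∀ (N : Subgroup G) [N.Normal], ∀ C ∈ S, C ≤ N → N = ⊤ := fun N _ C hC h => hS.eq_top fun D hD =>
    let ⟨g, e⟩ := Cn.exists_cj (h1 C hC D hD)
    e ▸ (cj_mono g h).trans (cj_eq_of_normal g N).le
  have k2 : ∀ (N : Subgroup G) [N.Normal], ∀ C ∈ S, ∀ D ∈ S, RK C D → ⁅C, D⁆ ≤ N → N = ⊤ := fun N hN C hC D hD h hle =>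
    have e : ∀ A ∈ S, ⁅A, A⁆ ≤ N := fun A hA => commutator_self_eq_bot_iff.2 (hS.commutative A hA) ▸ bot_le
    k1 N C hC (le_sup_left.trans ((h2 C hC D hD h).trans (comm_sup_sup_le (fun x _ w hw => hN.conj_mem w hw x) (e C hC) hle (e D hD))))
  obtain ⟨D, hD, h⟩ := hn A hA
  have := h.nontrivial
  refine isQuasisimple_of_normal ⟨k2 _ A hA D hD h (commutator_mono le_top le_top)⟩ fun N hN => or_iff_not_imp_left.2 fun h5 =>
    h3 N hN fun n hn' A hA => (fun k => Set.Subset.antisymm k (cent_symm hS hA (hS.cj_mem hA n) ((hn A hA).conj hS n) k))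
      fun E hE => by_contra fun h7 => h5 ?_
  have h8 : ⁅E, cj n A⁆ ≤ N := commutator_le.2 fun x hx y hy => by
    have : y = ⁅n, n⁻¹ * y * n⁆ * (n⁻¹ * y * n) := by rw [← conj_eq_comm]; group
    rw [this, comm_mul_right, comm_eq_one.2 (comm_bot_iff.1 (mem_cent.1 hE).2 x hx _ (mem_cj.1 hy)), mul_one, mul_inv_cancel, mul_one]
    exact commutator_le_right ⊤ N (commutator_mem_commutator trivial
      (commutator_le_left N ⊤ (commutator_mem_commutator hn' trivial)))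
  obtain H | H | H := hS.tri hE.1 (hS.cj_mem hA n)
  · exact absurd (mem_cent.2 ⟨hE.1, H⟩) h7
  · exact k2 N _ hE.1 _ (hS.cj_mem hA n) H h8
  · exact k1 N _ H.mem h8

theorem cn_comm (hS : RS S) (hn : ∀ C ∈ S, NI S C) (hA : A ∈ S) (hB : B ∈ S) (H : CM S A B) : Cn S A ⁅A, B⁆ := by
  obtain ⟨b, hb, h1⟩ := hS.exists_ne_one hB
  obtain ⟨c, hc, h2⟩ := hS.exists_ne_one H.mem
  have key : ∀ {E}, (∃ b ∈ B, cj b A = E) ∨ E = ⁅A, B⁆ → E ∈ membersIn S (⁅A, B⁆ ⊔ A) := fun h =>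
    sup_comm A _ ▸ (hS.members_comm hA (hn A hA) H).2 h
  obtain ⟨-, -, -, -, e, -, h⟩ := hS.exists_move hn H.mem (hS.line_comm hA (hn A hA) H) (key (Or.inl ⟨1, one_mem _, cj_one _⟩)) (key (Or.inr rfl))
    (key (Or.inl ⟨b, hb, rfl⟩)) (fun e => hS.ne_comm H (hS.eq_of_mem (hn A hA) H.mem
      (((H.sup_cj hb h1).ge.trans (sup_le le_rfl e.ge)) (mem_sup_right hc)) hc h2))
    fun e => hS.ne_comm H (cj_inj.1 ((H.cj_comm hb).trans e))
  exact h ▸ hS.cn_cj hA (hn A hA) e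

/-- Sets of root subgroups of the group they generate. -/
structure PR (S : Set (Subgroup G)) : Prop where
  comm : ∀ A ∈ S, IsMulCommutative A
  cj : ∀ A ∈ S, ∀ B ∈ S, ∀ b ∈ B, cj b A ∈ S
  tri : ∀ A ∈ S, ∀ B ∈ S, ⁅A, B⁆ = ⊥ ∨ RK A B ∨ CM S A B
  ni : ∀ A ∈ S, NI S A

/-- The generated group. -/
abbrev gn (S : Set (Subgroup G)) : Subgroup G := ⨆ B ∈ S, B

/-- The set inside the generated group. -/
abbrev so (S : Set (Subgroup G)) : Set (Subgroup (gn S)) := (fun A : Subgroup G => A.subgroupOf (gn S)) '' S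

/-- Components. -/
abbrev cp (S : Set (Subgroup G)) (A : Subgroup G) : Set (Subgroup G) := componentOf (FAdj S) S A

theorem le_gn (h : A ∈ S) : A ≤ gn S := le_iSup₂_of_le A h le_rfl

theorem mem_so {C : Subgroup (gn S)} : C ∈ so S ↔ C.map (gn S).subtype ∈ S :=
  ⟨by rintro ⟨A, h, rfl⟩; rwa [map_subgroupOf_eq_of_le (le_gn h)], fun h => ⟨_, h, comap_map_eq_self_of_injective (subtype_injective _) _⟩⟩

theorem cm_map {H : Type*} [Group H] {f : H →* G} (hf : Function.Injective f) {T : Set (Subgroup H)} (h : ∀ C, C ∈ T ↔ C.map f ∈ S)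
    {A B : Subgroup H} : CM T A B ↔ CM S (A.map f) (B.map f) := by
  refine ⟨fun H => ⟨map_commutator A B f ▸ (h _).1 H.mem, ?_, ?_, ?_⟩, fun H => ⟨(h _).2 (map_commutator A B f ▸ H.mem), fun hc hx => hf ?_,
    fun ha h1 hc => ?_, fun ha h1 hc => ?_⟩⟩
  · rw [← map_commutator, ← Subgroup.map_sup]
    rintro _ _ ⟨c, hc, rfl⟩ ⟨x, hx, rfl⟩
    rw [← map_mul, H.cen hc hx, map_mul]
  · rw [← map_commutator]
    rintro _ _ ⟨a, ha, rfl⟩ h1 ⟨c, hc, rfl⟩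
    obtain ⟨b, hb, rfl⟩ := H.sl ha (fun e => h1 (by rw [e, map_one])) hc
    exact ⟨_, ⟨b, hb, rfl⟩, (map_commutatorElement _ _ _).symm⟩
  · rw [← map_commutator]
    rintro _ _ ⟨a, ha, rfl⟩ h1 ⟨c, hc, rfl⟩
    obtain ⟨b, hb, rfl⟩ := H.sr ha (fun e => h1 (by rw [e, map_one])) hc
    exact ⟨_, ⟨b, hb, rfl⟩, (map_commutatorElement _ _ _).symm⟩
  · rw [map_mul, map_mul]
    exact H.cen (map_commutator A B f ▸ mem_map_of_mem f hc) (Subgroup.map_sup A B f ▸ mem_map_of_mem f hx)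
  · obtain ⟨_, ⟨b, hb, rfl⟩, e⟩ := H.sl (mem_map_of_mem f ha) ((map_ne_one_iff f hf).2 h1) (map_commutator A B f ▸ mem_map_of_mem f hc)
    exact ⟨b, hb, hf ((map_commutatorElement _ _ _).trans e)⟩
  · obtain ⟨_, ⟨b, hb, rfl⟩, e⟩ := H.sr (mem_map_of_mem f ha) ((map_ne_one_iff f hf).2 h1) (map_commutator A B f ▸ mem_map_of_mem f hc)
    exact ⟨b, hb, hf ((map_commutatorElement _ _ _).trans e)⟩

theorem cn_of_so {C D : Subgroup (gn S)} (h : Cn (so S) C D) : Cn S (C.map (gn S).subtype) (D.map (gn S).subtype) :=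
  h.lift _ fun _ _ h => ⟨mem_so.1 h.1, mem_so.1 h.2.1, h.2.2.map _ fun e => h.2.2.ne (map_injective (subtype_injective _) e)⟩

theorem cp_eq (h : B ∈ cp S A) : cp S B = cp S A :=
  Set.ext fun _ => and_congr_right fun _ => ⟨h.2.trans, (Cn.symm h.2).trans⟩

theorem mem_cp (h : A ∈ S) : A ∈ cp S A := ⟨h, .refl⟩

theorem cn_so (hA : A ∈ S) (hB : B ∈ cp S A) : Cn (so (cp S A)) (A.subgroupOf _) (B.subgroupOf _) := by
  obtain ⟨-, h⟩ := hB
  induction h with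
  | refl => exact .refl
  | tail h h' ih =>
    have h1 : _ ∈ cp S A := ⟨h'.1, h⟩
    have h2 : _ ∈ cp S A := ⟨h'.2.1, h.tail h'⟩
    exact ih.tail ⟨⟨_, h1, rfl⟩, ⟨_, h2, rfl⟩, h'.2.2.subgroupOf (le_gn h1) (le_gn h2)⟩

namespace PR

variable (h : PR S)
include h

theorem cj_mem (hA : A ∈ S) (hg : g ∈ gn S) : Transfer.cj g A ∈ S := by
  induction hg using iSup_induction' generalizing A with
  | hp B b hb =>
    by_cases e : B ∈ S
    · exact h.cj A hA B e b (by simpa [e] using hb)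
    · obtain rfl : b = 1 := by simpa [e] using hb
      rwa [cj_one]
  | h1 => rwa [cj_one]
  | hmul x y _ _ hx hy => exact cj_mul x y A ▸ hx (hy hA)

theorem ni_so : ∀ C ∈ so S, NI (so S) C := by
  rintro _ ⟨A, hA, rfl⟩
  obtain ⟨B, hB, e⟩ := h.ni A hA
  exact ⟨_, ⟨B, hB, rfl⟩, e.subgroupOf (le_gn hA) (le_gn hB)⟩

theorem rs : RS (so S) := by
  have hf := subtype_injective (gn S)
  refine ⟨?_, fun C hC e => ?_, map_injective hf ?_, fun C hC g => mem_so.2 (map_cj (gn S).subtype g C ▸ h.cj_mem (mem_so.1 hC) g.2), fun C hC D hD =>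
    (h.tri _ (mem_so.1 hC) _ (mem_so.1 hD)).imp (fun e => ?_) (Or.imp (IsRankOnePair.of_map hf) fun e => cm_iff.2 ((cm_map hf fun _ => mem_so).2 e))⟩
  · rintro _ ⟨A, hA, rfl⟩
    have := h.comm A hA
    infer_instance
  · obtain ⟨B, -, e'⟩ := h.ni_so C hC
    obtain ⟨a, ha, h1⟩ := e'.exists_ne_one
    exact h1 (mem_bot.1 (e ▸ ha))
  · rw [iSup_image, ← MonoidHom.range_eq_map, range_subtype]
    simp only [Subgroup.map_iSup]
    exact iSup_congr fun A => iSup_congr fun hA => map_subgroupOf_eq_of_le (le_gn hA)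
  · rwa [← map_commutator, map_eq_bot_iff_of_injective _ hf] at e

theorem cn_cj (hA : A ∈ S) (hg : g ∈ gn S) : Cn S A (Transfer.cj g A) := by
  simpa [map_cj, map_subgroupOf_eq_of_le (le_gn hA)] using cn_of_so (h.rs.cn_cj ⟨A, hA, rfl⟩ (h.ni_so _ ⟨A, hA, rfl⟩) ⟨g, hg⟩)

theorem cn_comm (hA : A ∈ S) (hB : B ∈ S) (H : CM S A B) : Cn S A ⁅A, B⁆ := by
  simpa [map_commutator, map_subgroupOf_eq_of_le (le_gn hA), map_subgroupOf_eq_of_le (le_gn hB)] using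
    cn_of_so (Root.cn_comm h.rs h.ni_so ⟨A, hA, rfl⟩ ⟨B, hB, rfl⟩ ((cm_map (subtype_injective _) fun _ => mem_so).2 (by
      rwa [map_subgroupOf_eq_of_le (le_gn hA), map_subgroupOf_eq_of_le (le_gn hB)])))

theorem comm_bot (hB : B ∈ cp S A) (hC : C ∈ S) (hn : C ∉ cp S A) : ⁅B, C⁆ = ⊥ :=
  (h.tri B hB.1 C hC).resolve_right fun e => hn ⟨hC, hB.2.trans (e.elim (fun e => .single ⟨hB.1, hC, e⟩) fun e =>
    (h.cn_comm hB.1 hC e).trans (Cn.symm (Subgroup.commutator_comm C B ▸ h.cn_comm hC hB.1 e.symm)))⟩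

theorem le_cent (hC : C ∈ S) (hn : C ∉ cp S A) : C ≤ centralizer (gn (cp S A)) :=
  le_centralizer_iff.1 (iSup₂_le fun _ hB => commutator_eq_bot_iff_le_centralizer.1 (h.comm_bot hB hC hn))

theorem gn_le : gn S ≤ gn (cp S A) ⊔ centralizer (gn (cp S A)) :=
  iSup₂_le fun C hC => (em _).elim (fun e => le_sup_of_le_left (le_gn e)) fun e => le_sup_of_le_right (h.le_cent hC e)

theorem comm_gn (hn : cp S A ≠ cp S B) : ⁅gn (cp S A), gn (cp S B)⁆ = ⊥ :=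
  commutator_eq_bot_iff_le_centralizer.2 (iSup₂_le fun _ hC => h.le_cent hC.1 fun e => hn ((cp_eq hC).symm.trans (cp_eq e)))

theorem cp (A : Subgroup G) : PR (cp S A) :=
  ⟨fun B hB => h.comm B hB.1, fun B hB C hC c hc => ⟨h.cj B hB.1 C hC.1 c hc, hB.2.trans (h.cn_cj hB.1 (le_gn hC.1 hc))⟩,
    fun B hB C hC => (h.tri B hB.1 C hC.1).imp_right (Or.imp_right fun e => ⟨⟨e.mem, hB.2.trans (h.cn_comm hB.1 hC.1 e)⟩, e.cen, e.sl, e.sr⟩),
    fun B hB => let ⟨C, hC, e⟩ := h.ni B hB.1; ⟨C, ⟨hC, hB.2.tail ⟨hB.1, hC, e⟩⟩, e⟩⟩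

end PR

theorem cn_so' (hA : A ∈ S) : ∀ C ∈ so (cp S A), ∀ D ∈ so (cp S A), Cn (so (cp S A)) C D := by
  rintro _ ⟨B, hB, rfl⟩ _ ⟨C, hC, rfl⟩
  exact (Cn.symm (cn_so hA hB)).trans (cn_so hA hC)

theorem PR.cls (h : PR S) (hA : A ∈ S) : IsRootSubgroupClass (so (Root.cp S A)) :=
  ⟨(h.cp A).rs, ⟨_, A, mem_cp hA, rfl⟩, fun C hC D hD => Cn.exists_cj (cn_so' hA C hC D hD)⟩

end Cfsg.Lib.Root
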