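import Cfsg.Agent.Lib.Root.RankOne
import Cfsg.Agent.Lib.Chev.A1
import Cfsg.Agent.Lib.Known.GL2Basic

/-!
# `SL₂` as a rank one group
-/

set_option autoImplicit false
set_option linter.unusedSectionVars false

namespace Cfsg.Lib.Root

open Subgroup Cfsg.Lib.Transfer Cfsg.Lib.Chev Cfsg.Lib.Chev.PreSys Matrix

variable {G K : Type*} [Group G] [Field K] {A B : Subgroup G} {a b : G}

theorem mem_upper {g : SpecialLinearGroup (Fin 2) K} : g ∈ upperUnipotentSL2 K ↔ ∃ t, (sl2 K).x true t = g := by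
  rw [← mem_U_singleton]
  refine ⟨fun h => (closure_le _).2 ?_ h, fun h => (closure_le _).2 ?_ h⟩
  · rintro g ⟨h1, h2, h3⟩
    refine subset_closure ⟨_, rfl, g 0 1, Subtype.ext ?_⟩
    ext i j; fin_cases i <;> fin_cases j <;> simp [sl2_true, h1, h2, h3]
  · rintro _ ⟨_, rfl, t, rfl⟩; exact subset_closure ⟨rfl, rfl, rfl⟩

theorem mem_lower {g : SpecialLinearGroup (Fin 2) K} : g ∈ lowerUnipotentSL2 K ↔ ∃ t, (sl2 K).x false t = g := by
  rw [← mem_U_singleton]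
  refine ⟨fun h => (closure_le _).2 ?_ h, fun h => (closure_le _).2 ?_ h⟩
  · rintro g ⟨h1, h2, h3⟩
    refine subset_closure ⟨_, rfl, g 1 0, Subtype.ext ?_⟩
    ext i j; fin_cases i <;> fin_cases j <;> simp [sl2_false, h1, h2, h3]
  · rintro _ ⟨_, rfl, t, rfl⟩; exact subset_closure ⟨rfl, rfl, rfl⟩

open scoped IsMulCommutative in
theorem nil_of_comm (A : Subgroup G) [IsMulCommutative A] : Group.IsNilpotent A := CommGroup.isNilpotent

section St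

variable {S : PreSys rA1 K G} (hA : ∀ {g}, g ∈ A ↔ ∃ t, S.x true t = g) (hB : ∀ {g}, g ∈ B ↔ ∃ t, S.x false t = g)

theorem comm_of_x {r : Bool} (hA : ∀ {g}, g ∈ A ↔ ∃ t, S.x r t = g) : IsMulCommutative A :=
  ⟨⟨fun ⟨_, h⟩ ⟨_, h'⟩ => by
    obtain ⟨t, rfl⟩ := hA.1 h; obtain ⟨u, rfl⟩ := hA.1 h'
    exact Subtype.ext (by simp [← S.x_add, add_comm])⟩⟩

include hA hB

theorem pt_of_st (hS : S.St) {t : K} (ht : t ≠ 0) : Pt A B (S.x true t) (S.x false t⁻¹) := by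
  refine ⟨hA.2 ⟨_, rfl⟩, hB.2 ⟨_, rfl⟩, ?_⟩
  have : cj (S.n true (-t)) A = B := Subgroup.ext fun g => by
    rw [mem_cj, hA, hB]
    refine ⟨fun ⟨u, e⟩ => ⟨_, (hS.n_conj_self true (neg_ne_zero.2 ht) u).symm.trans (by rw [e]; group)⟩, ?_⟩
    rintro ⟨u, rfl⟩
    exact ⟨_, (hS.n_conj_neg true ht u).symm.trans (by rw [n_neg, inv_inv]; rfl)⟩
  rw [← this, n, inv_neg, neg_neg, cj_mul, cj_mul, cj_eq_of_mem (hA.2 ⟨_, rfl⟩), S.x_neg, cj_cj_inv]; rfl

theorem sp_of_st (hS : S.St) (hne : A ≠ B) : Sp A B := by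
  have := comm_of_x hA
  have := comm_of_x hB
  have h : RK A B := by
    refine rk_of hne (nil_of_comm A) (nil_of_comm B) (fun a ha h1 => ?_) fun b hb h1 => ?_
    · obtain ⟨t, rfl⟩ := hA.1 ha
      exact ⟨_, pt_of_st hA hB hS fun e => h1 (by rw [e, x_zero])⟩
    · obtain ⟨t, rfl⟩ := hB.1 hb
      exact ⟨_, by simpa using pt_of_st hA hB hS (inv_ne_zero (a := t) fun e => h1 (by rw [e, x_zero]))⟩
  refine ⟨h, fun p => ?_⟩
  obtain ⟨t, rfl⟩ := hA.1 p.l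
  have ht : t ≠ 0 := fun e => p.ne_one hne (by rw [e, x_zero])
  have := hS.n_neg_root true (inv_ne_zero ht)
  rw [n, n, inv_inv, inv_neg, neg_neg, S.x_neg, S.x_neg] at this
  rw [h.pt_right p (pt_of_st hA hB hS ht)]
  exact this.symm

end St

theorem sl2_sp : Sp (upperUnipotentSL2 K) (lowerUnipotentSL2 K) :=
  sp_of_st mem_upper mem_lower sl2_st fun e => by
    obtain ⟨t, h⟩ := mem_lower.1 (e ▸ mem_upper.2 ⟨(1 : K), rfl⟩)
    simpa [sl2_true, sl2_false] using congrArg (fun g => g.1 0 1) h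

theorem sl2_sup : upperUnipotentSL2 K ⊔ lowerUnipotentSL2 K = ⊤ := by
  rw [eq_top_iff, ← sl2_gen, U, closure_le]
  rintro _ ⟨_ | _, -, t, rfl⟩
  exacts [mem_sup_right (mem_lower.2 ⟨t, rfl⟩), mem_sup_left (mem_upper.2 ⟨t, rfl⟩)]

theorem psl2_of_hom (φ : SpecialLinearGroup (Fin 2) K →* G) (hA : (upperUnipotentSL2 K).map φ = A)
    (hB : (lowerUnipotentSL2 K).map φ = B) (hne : A ≠ B) : IsPSL2PairOver K A B := by
  have hr : φ.range = A ⊔ B := by rw [MonoidHom.range_eq_map, ← sl2_sup, Subgroup.map_sup, hA, hB]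
  refine ⟨φ, hr, (sl2_sp.rk.normal_or sl2_sup φ.ker).resolve_left fun e => hne ?_, hA, hB⟩
  have h1 : φ.range = A := by rw [MonoidHom.range_eq_map, ← e, Subgroup.map_sup, map_ker_self, bot_sup_eq, hA]
  obtain ⟨w, -, e⟩ := (sl2_sp (K := K)).rk.exists_cj
  rw [← hB, ← e, map_cj, hA, cj_eq_of_mem (h1 ▸ ⟨w, rfl⟩)]

theorem psl2_of_st {S : PreSys rA1 K G} (hA : ∀ {g}, g ∈ A ↔ ∃ t, S.x true t = g)
    (hB : ∀ {g}, g ∈ B ↔ ∃ t, S.x false t = g) (hS : S.St) (hM : S.Mult) (hne : A ≠ B) : IsPSL2PairOver K A B := by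
  obtain ⟨φ, hφ⟩ := exists_sl2_hom hS hM
  refine psl2_of_hom φ (Subgroup.ext fun g => ?_) (Subgroup.ext fun g => ?_) hne
  · simp only [mem_map, mem_upper, hA, exists_exists_eq_and, hφ]
  · simp only [mem_map, mem_lower, hB, exists_exists_eq_and, hφ]

theorem sp_of_psl2 (h : IsPSL2PairOver K A B) : Sp A B := by
  obtain ⟨φ, -, hk, rfl, rfl⟩ := h
  refine sl2_sp.map φ fun e => ?_
  obtain ⟨a, ha, h1⟩ := (sl2_sp (K := K)).rk.exists_ne_one
  obtain ⟨b, hb, e'⟩ := e.le (mem_map_of_mem φ ha)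
  have h2 : b⁻¹ * a ∈ center _ := hk (by rw [MonoidHom.mem_ker, map_mul, map_inv, e', inv_mul_cancel])
  exact h1 (sl2_sp.rk.eq_one_of_cj ha (by
    rw [← mul_inv_cancel_left b a, cj_mul, cj_eq_of_commute fun x _ => (mem_center_iff.1 h2 x).symm, cj_eq_of_mem hb]))

theorem iso_of_psl2 (h : IsPSL2PairOver K A B) : Nonempty (↥(A ⊔ B) ≃* SpecialLinearGroup (Fin 2) K) ∨
    ((2 : K) ≠ 0 ∧ Nonempty (↥(A ⊔ B) ≃* ProjectiveSpecialLinearGroup (Fin 2) K)) := by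
  obtain ⟨φ, hr, hk, -⟩ := h
  rw [← hr]
  by_cases e : φ.ker = ⊥
  · exact Or.inl ⟨(MonoidHom.ofInjective ((MonoidHom.ker_eq_bot_iff φ).1 e)).symm⟩
  obtain ⟨⟨z, hz⟩, h1⟩ := ne_bot_iff_exists_ne_one.1 e
  obtain rfl := (Known.SL2_mem_center_iff'.1 (hk hz)).resolve_left fun e => h1 (Subtype.ext e)
  refine Or.inr ⟨fun e => h1 (Subtype.ext (Subtype.ext ?_)), ⟨(QuotientGroup.quotientKerEquivRange φ).symm.trans
    (QuotientGroup.quotientMulEquivOfEq (le_antisymm hk fun g hg => ?_))⟩⟩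
  · show -(1 : Matrix (Fin 2) (Fin 2) K) = 1
    rw [neg_eq_iff_add_eq_zero, ← two_smul K, e, zero_smul]
  · obtain rfl | rfl := Known.SL2_mem_center_iff'.1 hg
    exacts [one_mem _, hz]

section Prime

variable {p : ℕ} [Fact p.Prime]

theorem pow_val_add (h : a ^ p = 1) (t u : ZMod p) : a ^ (t + u).val = a ^ t.val * a ^ u.val := by
  rw [ZMod.val_add, ← pow_eq_pow_mod _ h, pow_add]

theorem pow_val_mul (h : a ^ p = 1) (t u : ZMod p) : a ^ (t * u).val = (a ^ t.val) ^ u.val := by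
  rw [ZMod.val_mul, ← pow_eq_pow_mod _ h, pow_mul]

theorem mem_zpowers_val (h : a ^ p = 1) {g : G} : g ∈ zpowers a ↔ ∃ t : ZMod p, a ^ t.val = g := by
  refine ⟨fun hg => ?_, fun ⟨t, e⟩ => e ▸ pow_mem (mem_zpowers a) _⟩
  obtain ⟨n, rfl⟩ := (isOfFinOrder_iff_pow_eq_one.2 ⟨p, (Fact.out : p.Prime).pos, h⟩).mem_powers_iff_mem_zpowers.2 hg
  exact ⟨n, by rw [ZMod.val_natCast, ← pow_eq_pow_mod _ h]⟩

theorem Sp.psl2_prime (h : Sp A B) (hp : ∀ a ∈ A, a ^ p = 1) (q : Pt A B a b) :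
    IsPSL2PairOver (ZMod p) (zpowers a) (zpowers b) := by
  have ha := hp a q.l
  have hb := h.pow_eq_one q ha
  let S : PreSys rA1 (ZMod p) G := rankOne (fun r t => (if r then a else b) ^ t.val) fun r => pow_val_add (by
    cases r <;> assumption)
  refine psl2_of_st (S := S) (mem_zpowers_val ha) (mem_zpowers_val hb) ?_ (St.mult_of_finite ?_) fun e =>
    q.ne_one h.rk.ne (h.rk.eq_one_of_mem q.l (zpowers_le.2 q.r (e ▸ mem_zpowers a)))
  all_goals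
    refine st_A1 fun t u ht => ?_
    obtain ⟨c, r⟩ := h.rk.exists_pt (pow_mem q.l t.val) (pow_ne_one_of_lt_orderOf ((ZMod.val_eq_zero t).not.2 ht)
      ((orderOf_eq_prime ha (q.ne_one h.rk.ne)).symm ▸ t.val_lt))
    obtain rfl : c = S.x false t⁻¹ := by
      show c = b ^ _
      rw [← Sp.pow _ h q r, ← pow_val_mul (h.pow_eq_one r (hp _ r.l)), mul_inv_cancel₀ ht, ZMod.val_one, pow_one]
    have e := h.w_conj' (h.inv r)
    rw [inv_inv, ← S.x_neg] at e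
    rw [show u = t * (t⁻¹ * u) by field_simp, show -(t⁻¹ ^ 2 * (t * (t⁻¹ * u))) = -t⁻¹ * (t⁻¹ * u) by field_simp]
    show _ * a ^ _ * _ = b ^ _
    rw [pow_val_mul ha, pow_val_mul hb, ← conj_pow]
    exact congrArg (· ^ _) e

end Prime

end Cfsg.Lib.Root
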