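import Cfsg.Agent.Lib.Root.Inv2
import Cfsg.Agent.Lib.BS.Bro

/-!
# Root involutions: the disconnected case and generation
-/

set_option autoImplicit false
set_option linter.unusedSectionVars false

universe u

namespace Cfsg.Lib.RInv

open Subgroup Cfsg.Lib.Invol Cfsg.Lib.BS Relation

variable {G : Type u} [Group G] {D : Set G} {a b c d e f g h j s t v w x y z : G}

theorem RI.image {H : Type*} [Group H] (hD : RI D) (φ : G →* H) (h : ∀ d ∈ D, φ d ≠ 1) : RI (φ '' D) := by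
  refine ⟨?_, ?_, ?_⟩
  · rintro _ ⟨d, hd, rfl⟩
    exact two_of_mul_self (by rw [← map_mul, hD.sq hd, map_one]) (h d hd)
  · rintro _ ⟨d, hd, rfl⟩ _ ⟨e, he, rfl⟩
    exact ⟨_, hD.cj d hd e he, by simp⟩
  · rintro _ ⟨a, ha, rfl⟩ _ ⟨b, hb, rfl⟩
    rw [← map_mul, ← map_mul]
    refine (hD.pair a ha b hb).imp (congrArg φ) (Or.imp (fun k => k.of_dvd_nat (orderOf_map_dvd φ _)) fun k => ⟨?_, _, k.2, by simp⟩)
    have := Fact.mk Nat.prime_two
    exact orderOf_eq_prime_pow (p := 2) (n := 1) (by simpa using h _ k.2) (by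
      rw [← map_pow, show 2 ^ (1 + 1) = 4 from rfl, ← k.1, pow_orderOf_eq_one, map_one])

theorem RI.preimage (hD : RI D) (H : Subgroup G) : RI (H.subtype ⁻¹' D) :=
  ⟨fun d hd => (orderOf_coe d).symm.trans (hD.two _ hd), fun d hd e he => hD.cj _ hd _ he, fun a ha b hb =>
    (hD.pair _ ha _ hb).imp Subtype.ext (Or.imp (fun k => orderOf_coe (a * b) ▸ k) fun k => ⟨orderOf_coe (a * b) ▸ k.1, k.2⟩)⟩

theorem od_coe {H : Subgroup G} {x y : H} : Od (x : G) y ↔ Od x y :=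
  and_congr Subtype.coe_ne_coe (by rw [← orderOf_coe (x * y)]; rfl)

theorem Od.map {H : Type*} [Group H] (h : Od x y) (φ : G →* H) (h1 : φ x ≠ φ y) : Od (φ x) (φ y) :=
  ⟨h1, by rw [← map_mul]; exact h.2.of_dvd_nat (orderOf_map_dvd φ _)⟩

theorem RI.od_quot (hD : RI D) (hx : x ∈ D) (hy : y ∈ D) (h : Od x y) : Od (x : G ⧸ twoZCore G) y :=
  h.map (QuotientGroup.mk' _) fun e => by
    have h0 : ((x⁻¹ * y : G) : G ⧸ pCore 2 G) ∈ center _ := (QuotientGroup.eq (s := twoZCore G)).1 e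
    have h1 := mem_center_iff.1 h0 (x : G ⧸ pCore 2 G)
    refine hD.not_od_of_pgroup (Core.isPGroup_pCore 2 G) hx ((QuotientGroup.eq_one_iff _).1 ?_) (hD.od_cj hx hy h)
    rw [← QuotientGroup.mk_mul, ← QuotientGroup.mk_mul, hD.inv hx, cn (hD.sq hx)] at h1
    rw [← mul_assoc, ← mul_assoc, QuotientGroup.mk_mul, ← h1, ← QuotientGroup.mk_mul, hD.sq hy]; rfl

/-- Non-adjacency in the odd graph. -/
def NO (D : Set G) (x y : G) : Prop := x ∈ D ∧ y ∈ D ∧ ¬ Od x y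

theorem rtg_symm {r : G → G → Prop} (hr : ∀ x y, r x y → r y x) (h : ReflTransGen r x y) : ReflTransGen r y x := by
  induction h with
  | refl => rfl
  | tail _ h ih => exact ih.head (hr _ _ h)

theorem rtg_map {α β : Type*} {r : α → α → Prop} {s : β → β → Prop} (φ : α → β) (hr : ∀ x y, r x y → ReflTransGen s (φ x) (φ y)) {x y : α}
    (h : ReflTransGen r x y) : ReflTransGen s (φ x) (φ y) := by
  induction h with
  | refl => rfl
  | tail _ h ih => exact ih.trans (hr _ _ h)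

theorem RI.blk (hD : RI D) (h : ∀ g, ∀ d ∈ D, g * d * g⁻¹ ∈ D) : Blk D (ReflTransGen (NO D)) :=
  { hD with
    cjg := h
    rfl' := fun _ => .refl
    symm := rtg_symm fun _ _ k => ⟨k.2.1, k.1, fun e => k.2.2 e.symm⟩
    trans := ReflTransGen.trans
    conj := fun g _ _ => rtg_map (fun x => g * x * g⁻¹) fun _ _ k => .single ⟨h g _ k.1, h g _ k.2.1, fun e => k.2.2 (od_conj.1 e)⟩
    cross := fun hx hy k => by_contra fun k' => k (.single ⟨hx, hy, k'⟩) }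

theorem Blk.cl {r : G → G → Prop} (B : Blk D r) (he : e ∈ D) (hf : f ∈ D) (h : ¬ r e f) : CL D := by
  have k := fun a (ha : a ∈ D) b (hb : b ∈ D) h => B.exists_conj ha hb h (subset_closure ha) (subset_closure hb)
  refine B.toRI.cl_of_cls (fun a ha b hb => ?_) he hf (B.cross he hf h)
  by_cases h1 : r a b
  · obtain ⟨c, hc, h2⟩ : ∃ c ∈ D, ¬ r a c := by
      by_cases h2 : r a e
      exacts [⟨f, hf, fun h3 => h (B.trans (B.symm h2) h3)⟩, ⟨e, he, h2⟩]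
    obtain ⟨g, hg, e1⟩ := k a ha c hc h2
    obtain ⟨g', hg', e2⟩ := k c hc b hb fun h3 => h2 (B.trans h1 (B.symm h3))
    exact ⟨g' * g, mul_mem hg' hg, by rw [← e2, ← e1]; group⟩
  · exact k a ha b hb h1

theorem CL.not_mem (hD : CL D) (hG : closure D = ⊤) {N : Subgroup G} [hN : N.Normal] (hne : N ≠ ⊤) (hd : d ∈ D) : d ∉ N := fun k =>
  hne (eq_top_iff.2 (hG ▸ (closure_le _).2 fun e he => by
    obtain ⟨g, -, rfl⟩ := hD.cls d hd e he
    exact hN.conj_mem d k g))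

theorem se_comm [Finite G] [IsSimpleGroup G] {H : Subgroup G} (hH : IsStronglyEmbedded H) (hz : orderOf z = 2) (ha : a * a = 1)
    (hb : b * b = 1) (h1 : a * z = z * a) (h2 : b * z = z * b) : a * b = b * a := by
  obtain ⟨Q, t, h, -, h3⟩ := bro.simple hH
  obtain ⟨s, hs, h4⟩ := se_exists_two hH
  obtain ⟨g, rfl⟩ := isConj_iff.1 (se_isConj hH hz h4)
  have k : ∀ a, a * a = 1 → a * z = z * a → g * a * g⁻¹ ∈ Q0g Q := fun a ha h1 =>
    h.mem_Q0_of_two (se_mem_of_commute hH h4 hs (commute_conj g h1)) (by rw [conj_mul, ha]; simp)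
  have := (h.commute_Q0 h3 (k a ha h1) (Q0g_le Q (k b hb h2))).eq
  simpa only [conj_mul, mul_left_inj, mul_right_inj] using this

section
variable [Finite G] (hA : ASC.{u})
include hA

theorem RI.exists_se (hD : RI D) (hG : closure D = ⊤) (h4 : ∃ a ∈ D, ∃ b ∈ D, a * b ∈ D) (he : e ∈ D) (hf : f ∈ D)
    (h : ¬ ReflTransGen (NO D) e f) :
    IsSimpleGroup (G ⧸ twoZCore G) ∧ (∀ d ∈ D, d ∉ twoZCore G) ∧ ∃ H : Subgroup (G ⧸ twoZCore G), IsStronglyEmbedded H := by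
  have hc : ∀ g, ∀ d ∈ D, g * d * g⁻¹ ∈ D := fun g d hd => hD.cjc (hG.ge (mem_top g)) hd
  have c := (hD.blk hc).cl he hf h
  have := c.simple hG h4
  have h1 : ∀ d ∈ D, d ∉ twoZCore G := fun d => c.not_mem hG (c.not_solvable hG h4 solvable_twoZCore)
  refine ⟨this, h1, Blk.exists_se hA ((hD.image (QuotientGroup.mk' (twoZCore G)) fun d hd k =>
    h1 d hd ((QuotientGroup.eq_one_iff d).1 k)).blk ?_) ⟨e, he, rfl⟩ ⟨f, hf, rfl⟩ fun k => h ?_⟩
  · rintro g _ ⟨d, hd, rfl⟩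
    obtain ⟨g, rfl⟩ := QuotientGroup.mk_surjective g
    exact ⟨_, hc g d hd, rfl⟩
  · generalize e1 : QuotientGroup.mk' (twoZCore G) f = F at k
    induction k generalizing f with
    | refl => exact .single ⟨he, hf, fun k => (hD.od_quot he hf k).1 e1.symm⟩
    | tail _ k ih =>
      obtain ⟨⟨x, hx, rfl⟩, -, k⟩ := k
      by_contra k1
      by_cases k2 : ReflTransGen (NO D) e x
      · exact k1 (k2.tail ⟨hx, hf, fun k3 => k (e1 ▸ hD.od_quot hx hf k3)⟩)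
      · exact k2 (ih hx k2 rfl)

theorem RI.comm_of_disc' (hD : RI D) (hG : closure D = ⊤) (h4 : ∃ a ∈ D, ∃ b ∈ D, a * b ∈ D) (he : e ∈ D) (hf : f ∈ D)
    (h : ¬ ReflTransGen (NO D) e f) (hx : x ∈ D) (hy : y ∈ D) (hz : z ∈ D) (h1 : x * z = z * x) (h2 : y * z = z * y) : x * y = y * x := by
  obtain ⟨_, h5, H, hH⟩ := hD.exists_se hA hG h4 he hf h
  have R := hD.image (QuotientGroup.mk' (twoZCore G)) fun d hd k => h5 d hd ((QuotientGroup.eq_one_iff d).1 k)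
  have m : ∀ {d}, d ∈ D → (d : G ⧸ twoZCore G) ∈ QuotientGroup.mk' (twoZCore G) '' D := fun hd => ⟨_, hd, rfl⟩
  have h6 := se_comm hH (R.two _ (m hz)) (R.sq (m hx)) (R.sq (m hy)) (congrArg QuotientGroup.mk h1) (congrArg QuotientGroup.mk h2)
  by_contra k
  refine R.ne (m (hD.mem hx hy (fun k => R.no (m hx) (m hy) h6 (hD.od_quot hx hy k)) k).2) ?_
  simp only [QuotientGroup.mk_mul]
  rw [mul_assoc, mul_assoc, ← mul_assoc (y : G ⧸ twoZCore G), ← h6, mul_assoc, cn (R.sq (m hx)), R.sq (m hy)]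

theorem RI.comm_of_disc (hD : RI D) (h4 : ∃ a ∈ D, ∃ b ∈ D, a * b ∈ D) (he : e ∈ D) (hf : f ∈ D)
    (h : ¬ ReflTransGen (NO D) e f) (hx : x ∈ D) (hy : y ∈ D) (hz : z ∈ D) (h1 : x * z = z * x) (h2 : y * z = z * y) : x * y = y * x := by
  obtain ⟨a, ha, b, hb, hab⟩ := h4
  exact congrArg Subtype.val ((hD.preimage (closure D)).comm_of_disc' hA closure_closure_coe_preimage
    ⟨⟨a, subset_closure ha⟩, ha, ⟨b, subset_closure hb⟩, hb, hab⟩ (e := ⟨e, subset_closure he⟩) (f := ⟨f, subset_closure hf⟩) he hf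
    (fun k => h (rtg_map Subtype.val (fun _ _ k => .single ⟨k.1, k.2.1, fun e => k.2.2 (od_coe.1 e)⟩) k))
    (x := ⟨x, subset_closure hx⟩) (y := ⟨y, subset_closure hy⟩) (z := ⟨z, subset_closure hz⟩) hx hy hz (Subtype.ext h1) (Subtype.ext h2))

end

theorem RI.conn_of_no (hD : RI D) (h : ReflTransGen (NO D) x y) : ReflTransGen (CommAdj D) x y := by
  refine rtg_map id (fun a b ⟨ha, hb, k⟩ => ?_) h
  have k1 : ∀ a ∈ D, ∀ b ∈ D, a * b = b * a → ReflTransGen (CommAdj D) a b := fun a ha b hb h => by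
    by_cases e : a = b
    exacts [e ▸ .refl, .single ⟨ha, hb, e, h⟩]
  by_cases h1 : a * b = b * a
  · exact k1 a ha b hb h1
  · exact (k1 a ha _ (hD.mem ha hb k h1).2 (hD.c1 ha hb k)).trans (k1 _ (hD.mem ha hb k h1).2 b hb (hD.c2 ha hb k).symm)

/-- Connectedness in the product graph. -/
abbrev PE (D : Set G) : G → G → Prop := ReflTransGen (ProdAdj D)

theorem pe_symm (h : PE D x y) : PE D y x := rtg_symm (fun _ _ k => ⟨k.2.1, k.1, k.2.2.1.symm, k.2.2.2.1.symm, k.2.2.2.1 ▸ k.2.2.2.2⟩) h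

theorem pe_mem (h : PE D x y) (hx : x ∈ D) : y ∈ D := by
  induction h with
  | refl => exact hx
  | tail _ h _ => exact h.2.1

namespace RI

variable (hD : RI D)
include hD

theorem pe (hx : x ∈ D) (hy : y ∈ D) (h : x * y ∈ D) : PE D x y :=
  .single ⟨hx, hy, fun e => hD.ne h (by rw [e, hD.sq hy]), hD.pc hx hy h, h⟩

theorem m1 (hx : x ∈ D) (hy : y ∈ D) : x * (x * y * x * y) ∈ D := by simpa only [mul_assoc, cn (hD.sq hx)] using hD.cj' hx hy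

theorem m2 (hx : x ∈ D) (hy : y ∈ D) (h : ¬ Od x y) : y * (x * y * x * y) ∈ D := by
  rw [hD.c2 hx hy h, mul_assoc, hD.sq hy, mul_one]; exact hD.cj' hy hx

theorem pe_F (hx : x ∈ D) (hy : y ∈ D) (h : ¬ Od x y) (h1 : x * y ≠ y * x) : PE D x y :=
  (hD.pe hx (hD.mem hx hy h h1).2 (hD.m1 hx hy)).trans (pe_symm (hD.pe hy (hD.mem hx hy h h1).2 (hD.m2 hx hy h)))

theorem pe_conj (hg : g ∈ closure D) (h : PE D x y) : PE D (g * x * g⁻¹) (g * y * g⁻¹) :=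
  rtg_map (fun x => g * x * g⁻¹) (fun _ _ k => hD.pe (hD.cjc hg k.1) (hD.cjc hg k.2.1)
    (by rw [conj_mul]; exact hD.cjc hg k.2.2.2.2)) h

theorem pe_closure {T : Set G} (hT : T ⊆ D) (h : ∀ t ∈ T, PE D a (t * a * t⁻¹)) (hg : g ∈ closure T) : PE D a (g * a * g⁻¹) := by
  induction hg using closure_induction'' with
  | mem x hx => exact h x hx
  | inv_mem x hx => simpa only [hD.inv (hT hx)] using h x hx
  | one => simpa using .refl
  | mul x y hx _ h1 h2 => exact h1.trans (by simpa only [mul_assoc, mul_inv_rev] using hD.pe_conj (closure_mono hT hx) h2)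

theorem pe_self (ha : a ∈ D) (h : PE D a b) : PE D a (b * a * b⁻¹) :=
  h.trans (pe_symm (by simpa using hD.pe_conj (subset_closure (pe_mem h ha)) h))

theorem comm_of_not_pe (hx : x ∈ D) (hy : y ∈ D) (h : x * y = y * x) (h1 : ¬ PE D x y) (h2 : PE D x a) : a * y = y * a := by
  have ha := pe_mem h2 hx
  by_contra k
  refine h1 (h2.trans (by_contra fun k1 => k1 (hD.pe_F ha hy (fun k2 => ?_) k)))
  obtain ⟨m, hm⟩ := exists_conj_of_odd (hD.sq ha) (hD.sq hy) k2.2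
  refine k1 (hm ▸ hD.pe_closure (T := {a, y}) (by simp [Set.insert_subset_iff, ha, hy]) ?_
    (pow_mem (mul_mem (subset_closure (by simp)) (subset_closure (by simp))) m))
  rintro t (rfl | rfl)
  · simpa using .refl
  · exact (pe_symm h2).trans (by simpa only [← h, mul_inv_cancel_right] using hD.pe_conj (subset_closure hy) h2)

theorem oc_conj (hg : g ∈ closure D) (h : ReflTransGen (OddAdj D) x y) : ReflTransGen (OddAdj D) (g * x * g⁻¹) (g * y * g⁻¹) :=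
  rtg_map (fun x => g * x * g⁻¹) (fun _ _ k => .single ⟨hD.cjc hg k.1, hD.cjc hg k.2.1, Od.conj k.2.2 g⟩) h

theorem comp_cl (hn : ∀ a ∈ D, ∃ x ∈ D, Od a x) (hx : x ∈ D) : CL (elemComponentOf (OddAdj D) D x) := by
  have k : RI (elemComponentOf (OddAdj D) D x) := ⟨fun d hd => hD.two d hd.1, fun d hd e he => ⟨hD.cj d hd.1 e he.1,
    he.2.trans (by simpa using hD.oc_conj (subset_closure he.1) ((oc_symm he.2).trans hd.2))⟩, fun a ha b hb => by
      by_cases h1 : a * b = b * a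
      · exact .inl h1
      by_cases h2 : Od a b
      · exact .inr (.inl h2.2)
      obtain ⟨h3, h4⟩ := hD.mem ha.1 hb.1 h2 h1
      obtain ⟨u, hu, h5⟩ := hn a ha.1
      obtain ⟨v, hv, h6⟩ := hn _ h4
      rw [pow_two, ← mul_assoc]
      exact .inr (.inr ⟨h3, h4, ha.2.trans (hD.oc_of_prod ha.1 h4 (hD.m1 ha.1 hb.1) hu h5 hv h6)⟩)⟩
  have k1 : ∀ a, ReflTransGen (OddAdj D) x a → ReflTransGen (OddAdj (elemComponentOf (OddAdj D) D x)) x a := fun a h => by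
    induction h with
    | refl => rfl
    | tail h1 h2 ih => exact ih.tail ⟨⟨h2.1, h1⟩, ⟨h2.2.1, h1.tail h2⟩, h2.2.2⟩
  obtain ⟨y, hy, h⟩ := hn x hx
  exact k.cl_of_conn (fun a ha b hb => (oc_symm (k1 a ha.2)).trans (k1 b hb.2)) ⟨hx, .refl⟩ ⟨hy, .single ⟨hx, hy, h⟩⟩ h.1

end RI

/-- There is a pair with product of order four. -/
def HasF (D : Set G) : Prop := ∃ a ∈ D, ∃ b ∈ D, ¬ Od a b ∧ a * b ≠ b * a

theorem HasF.four (hD : RI D) (h : HasF D) : ∃ a ∈ D, ∃ b ∈ D, a * b ∈ D :=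
  let ⟨a, ha, _, hb, h1, h2⟩ := h
  ⟨a, ha, _, (hD.mem ha hb h1 h2).2, hD.m1 ha hb⟩

theorem CL.exists_F (hD : CL D) (h : HasF D) (hd : d ∈ D) : ∃ c ∈ D, ¬ Od d c ∧ d * c ≠ c * d := by
  obtain ⟨a, ha, b, hb, h1, h2⟩ := h
  obtain ⟨g, hg, rfl⟩ := hD.cls a ha d hd
  exact ⟨_, hD.cjc hg hb, fun k => h1 (od_conj.1 k), by simpa only [conj_mul, ne_eq, mul_left_inj, mul_right_inj] using h2⟩

theorem CL.pe_conn [Finite G] (hA : ASC.{u}) (hD : CL D) (hF : HasF D) : IsConnectedSet (ProdAdj D) D := by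
  induction hn : D.ncard using Nat.strong_induction_on generalizing D with
  | _ n ih =>
  have h3 : ∀ x ∈ D, ∀ y ∈ D, ∀ v ∈ D, ¬ PE D v x → ¬ PE D v y → v * x = x * v → v * y = y * v → Od x y → PE D x y := by
    intro x hx y hy v hv h1 h2 h3 h4 h5
    let E := {d | d ∈ D ∧ v * d = d * v ∧ ¬ PE D v d}
    have k0 : ∀ a ∈ E, ∀ b, PE D a b → b ∈ E := fun a ha b h => ⟨pe_mem h ha.1,
      (hD.comm_of_not_pe ha.1 hv ha.2.1.symm (fun k => ha.2.2 (pe_symm k)) h).symm, fun k => ha.2.2 (k.trans (pe_symm h))⟩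
    have k1 : RI E := ⟨fun d hd => hD.two d hd.1, fun d hd e he => ⟨hD.cj d hd.1 e he.1,
      (Commute.mul_right he.2.1 hd.2.1).mul_right (Commute.inv_right he.2.1), fun k => hd.2.2 (by
        simpa only [mul_assoc, hD.inv he.1, cn (hD.sq he.1), hD.sq he.1, mul_one, he.2.1] using hD.pe_conj (subset_closure he.1) k)⟩,
      fun a ha b hb => (hD.pair a ha.1 b hb.1).imp_right (Or.imp_right fun k =>
        ⟨k.1, k0 a ha _ (hD.pe ha.1 k.2 (by simpa only [pow_two, mul_assoc] using hD.m1 ha.1 hb.1))⟩)⟩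
    have k2 : ∀ a ∈ E, ∃ x ∈ E, Od a x := fun a ha => by
      obtain ⟨c, hc, h6, h7⟩ := hD.exists_F hF ha.1
      obtain ⟨u, hu, h8, e, h9, -⟩ := hD.exists_three ha.1 (hD.mem ha.1 hc h6 h7).2 hc h6 rfl
      exact ⟨u, k0 a ha u ((hD.pe_F ha.1 hc h6 h7).trans (pe_symm (hD.pe hu hc (e ▸ hD.m2 (hD.mem ha.1 hc h6 h7).2 hu h8)))), h9⟩
    have hx' : x ∈ E := ⟨hx, h3, h1⟩
    have hy' : y ∈ E := ⟨hy, h4, h2⟩
    obtain ⟨c, hc, h6, h7⟩ := hD.exists_F hF hx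
    have hc' := k0 x hx' c (hD.pe_F hx hc h6 h7)
    have hz := (k1.mem hx' hc' h6 h7).2
    obtain ⟨p, hp, l1⟩ := k2 _ hz
    obtain ⟨q, hq, l2⟩ := k2 _ hc'
    refine ReflTransGen.mono (fun a b k => ⟨k.1.1.1, k.2.1.1.1, k.2.2.1, k.2.2.2.1, k.2.2.2.2.1.1⟩) _ _
      (ih _ (hn ▸ Set.ncard_lt_ncard ⟨fun d hd => hd.1.1, fun k => (k hv).1.2.2 .refl⟩) (k1.comp_cl k2 hx')
        ⟨x, ⟨hx', .refl⟩, c, ⟨hc', (k1.oc_of_prod hx' hz (k1.m1 hx' hc') hy' h5 hp l1).trans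
          (oc_symm (k1.oc_of_prod hc' hz (k1.m2 hx' hc' h6) hq l2 hp l1))⟩, h6, h7⟩ rfl x ⟨hx', .refl⟩ y ⟨hy', .single ⟨hx', hy', h5⟩⟩)
  intro a ha b hb
  have h4 : ∀ x, ReflTransGen (NO D) a x → x ∈ D → PE D a x ∨ a * x = x * a := fun x h => by
    induction h with
    | refl => exact fun _ => .inl .refl
    | @tail u y _ h ih =>
      intro hy
      by_contra! k
      have k1 : ¬ PE D u y ∧ u * y = y * u ∨ PE D u y := by
        by_cases k1 : PE D u y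
        exacts [.inr k1, .inl ⟨k1, by_contra fun k2 => k1 (hD.pe_F h.1 hy h.2.2 k2)⟩]
      have k2 : ¬ PE D u a ∧ u * a = a * u ∨ PE D u a := by
        by_cases k2 : PE D u a
        exacts [.inr k2, .inl ⟨k2, ((ih h.1).resolve_left fun k3 => k2 (pe_symm k3)).symm⟩]
      obtain k1 | k1 := k1 <;> obtain k2 | k2 := k2
      · exact k.1 (h3 a ha y hy u h.1 k2.1 k1.1 k2.2 k1.2 (by_contra fun k3 => k.1 (hD.pe_F ha hy k3 k.2)))
      · exact k.2 (hD.comm_of_not_pe h.1 hy k1.2 k1.1 k2)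
      · exact k.2 (hD.comm_of_not_pe h.1 ha k2.2 k2.1 k1).symm
      · exact k.1 ((pe_symm k2).trans k1)
  obtain ⟨g, hg, rfl⟩ := hD.cls a ha b hb
  refine hD.pe_closure subset_rfl (fun t ht => ?_) hg
  obtain ⟨p, hp, q, hq, h5, h6⟩ := id hF
  obtain k | k := h4 t (by_contra fun k => h6 (hD.comm_of_disc hA (hF.four hD.toRI) ha ht k hp hq (hD.mem hp hq h5 h6).2
    (hD.c1 hp hq h5) (hD.c2 hp hq h5))) ht
  · exact hD.pe_self ha k
  · rw [← k, mul_inv_cancel_right]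

theorem CL.gen [Finite G] (hA : ASC.{u}) (hD : CL D) (hG : ∀ d ∈ D, ∀ g, g * d * g⁻¹ ∈ D) (hF : HasF D) (hd : d ∈ D) (hx : x ∈ D) (h : Od d x)
    {P : Subgroup G}
    (h1 : ∀ a ∈ D, d * a ∈ D → a ∈ P) (h2 : x ∈ P) (he : e ∈ D) : ∃ g ∈ P, g * d * g⁻¹ = e := by
  obtain ⟨b, hb, h3⟩ := hD.exists_prod (hF.four hD.toRI) hd
  have hdP : d ∈ P := by
    simpa only [mul_assoc, hD.sq hb, mul_one] using mul_mem (h1 _ h3 (by rwa [cn (hD.sq hd)])) (h1 b hb h3)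
  have k0 : ∀ a ∈ D, ∀ b ∈ D, a ∈ P → b ∈ P → Od a b → ∃ g ∈ P, g * a * g⁻¹ = b := fun a ha b hb h1 h2 h =>
    let ⟨m, hm⟩ := exists_conj_of_odd (hD.sq ha) (hD.sq hb) h.2
    ⟨_, pow_mem (mul_mem h1 h2) m, hm⟩
  have k1 : ∀ a ∈ D, d * a ∈ D → Od a x → ∃ g ∈ P, g * d * g⁻¹ = a := fun a ha h3 h4 => by
    obtain ⟨g, hg, e1⟩ := k0 d hd x hx hdP h2 h
    obtain ⟨g', hg', e2⟩ := k0 x hx a ha h2 (h1 a ha h3) h4.symm
    exact ⟨g' * g, mul_mem hg' hg, by rw [← e2, ← e1]; group⟩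
  have k2 : ∀ a ∈ D, d * a ∈ D → ∃ g ∈ P, g * d * g⁻¹ = a := fun a ha h3 => by
    by_cases h4 : Od a x
    · exact k1 a ha h3 h4
    obtain ⟨u, hu, h5⟩ : ∃ u ∈ D, Od a u ∧ ¬ Od d u := by
      by_contra! k
      exact h4 (hD.sub_symm ha hd k hx h)
    obtain ⟨c, hc, h6, e1⟩ := hD.exists_c ha hd (hD.pc hd ha h3 ▸ h3) hu h5.1 h5.2
    obtain ⟨g, hg, e2⟩ := k1 _ h3 (by rwa [cn (hD.sq hd)]) ((hD.L hd ha h3 hx h).resolve_left h4)
    have h7 : c ∈ P := h1 c hc (by simpa only [e1, mul_assoc, hD.sq hc, mul_one] using hD.cj' hc ha)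
    refine ⟨c * g, mul_mem h7 hg, ?_⟩
    rw [mul_inv_rev, mul_assoc c, mul_assoc c, ← mul_assoc (g * d), e2, hD.pc hd ha h3, e1, hD.inv hc]
    simp only [mul_assoc, cn (hD.sq ha), cn (hD.sq hc), hD.sq hc, mul_one]
  have := hD.pe_conn hA hF d hd e he
  clear he
  induction this with
  | refl => exact ⟨1, one_mem _, by simp⟩
  | @tail p q _ h3 ih =>
    obtain ⟨g, hg, rfl⟩ := ih
    obtain ⟨g', hg', e1⟩ := k2 _ (hG _ h3.2.1 g⁻¹) (by simpa [mul_assoc] using hG _ h3.2.2.2.2 g⁻¹)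
    exact ⟨g * g', mul_mem hg hg', by rw [mul_inv_rev, mul_assoc g, mul_assoc g, ← mul_assoc (g' * d), e1]; group⟩

theorem nd_cl (hD : IsNondegenerateRootInvolutionSet D) (hcl : IsRootInvolutionClass D) : CL D ∧ HasF D :=
  let ⟨h, _, ⟨_, ha, _, hb, h1⟩, a, ha', b, hb', h2⟩ := hD
  ⟨cl_of_class hcl ha hb h1, a, ha', b, hb', (ri h).not_od_of_four ha' h2, (ri h).nc_of_four ha' hb' h2⟩

theorem mem_pp (hD : RI D) (hd : d ∈ D) : a ∈ productPartners D d ↔ a ∈ D ∧ d * a ∈ D :=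
  ⟨fun h => ⟨h.1.1, h.1.2.1 ▸ h.2⟩, fun h => ⟨⟨h.1, (hD.pc hd h.1 h.2).symm, fun e => hD.ne h.2 (by rw [e, hD.sq hd])⟩,
    hD.pc hd h.1 h.2 ▸ h.2⟩⟩

theorem CL.eq_top [Finite G] (hA : ASC.{u}) (hD : CL D) (hG : IsRootInvolutionSet D) (hF : HasF D) (hd : d ∈ D) (hx : x ∈ D) (h : Od d x)
    {P : Subgroup G} (h1 : ∀ a ∈ D, d * a ∈ D → a ∈ P) (h2 : x ∈ P) : P = ⊤ := by
  obtain ⟨b, hb, h3⟩ := hD.exists_prod (hF.four hD.toRI) hd
  have hdP : d ∈ P := by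
    simpa only [mul_assoc, hD.sq hb, mul_one] using mul_mem (h1 _ h3 (by rwa [cn (hD.sq hd)])) (h1 b hb h3)
  refine eq_top_iff.2 (hG.2 ▸ (closure_le _).2 fun e he => ?_)
  obtain ⟨g, hg, rfl⟩ := hD.gen hA hG.3 hF hd hx h h1 h2 he
  exact mul_mem (mul_mem hg hdP) (inv_mem hg)

theorem s5044 [Finite G] (hA : ASC.{u}) (hD : IsRootInvolutionSet D) (hDD : (D ∩ commutingProducts D).Nonempty)
    (h : ¬ IsConnectedSet (CommAdj D) D) : IsSimpleGroup (G ⧸ twoZCore G) ∧ Bender (G ⧸ twoZCore G) := by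
  simp only [IsConnectedSet, not_forall] at h
  obtain ⟨e, he, f, hf, h⟩ := h
  obtain ⟨_, -, H, hH⟩ := (ri hD).exists_se hA hD.2 (exists_four hDD) he hf fun k => h ((ri hD).conn_of_no k)
  exact ⟨‹_›, bro.bender hH⟩

theorem s5054 [Finite G] (hA : ASC.{u}) (hD : IsNondegenerateRootInvolutionSet D) (hcl : IsRootInvolutionClass D) :
    (∀ d ∈ D, ∀ x ∈ oddPartners D d, closure (productPartners D d ∪ {x}) = ⊤) ∧ IsConnectedSet (ProdAdj D) D :=
  let ⟨h, hF⟩ := nd_cl hD hcl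
  ⟨fun _ hd _ hx => h.eq_top hA hD.1 hF hd hx.1 ⟨hx.2.1.symm, hx.2.2⟩
    (fun _ ha k => subset_closure (.inl ((mem_pp h.toRI hd).2 ⟨ha, k⟩))) (subset_closure (.inr rfl)), h.pe_conn hA hF⟩

theorem s5053 [Finite G] (hA : ASC.{u}) (hD : IsNondegenerateRootInvolutionSet D) (hcl : IsRootInvolutionClass D) {T : Set G}
    (hT : IsWeakTISubsetOfElements D T) (ht : t ∈ T) (hs : s ∈ T) : t * s = s * t := by
  obtain ⟨h, hF⟩ := nd_cl hD hcl
  obtain ⟨h1, -, h2, h3⟩ := hT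
  let N : Subgroup G :=
    { carrier := {g | ∀ t, g * t * g⁻¹ ∈ T ↔ t ∈ T}
      mul_mem' := fun {x y} hx hy t => by rw [← hy t, ← hx (y * t * y⁻¹)]; simp only [mul_assoc, mul_inv_rev]
      one_mem' := by simp
      inv_mem' := fun {x} hx t => by rw [← hx (x⁻¹ * t * x⁻¹⁻¹)]; simp [mul_assoc] }
  have k : ∀ e ∈ D, ∀ t ∈ T, e * t = t * e → e ∈ N := fun e he t ht h4 a => by
    have := (h3 e he).resolve_right fun d => Set.disjoint_left.1 d ⟨t, ht, mul_inv_eq_iff_eq_mul.2 h4⟩ ht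
    exact ⟨fun ha => let ⟨b, hb, e⟩ := this.ge ha; (by simpa using e : b = a) ▸ hb, fun ha => this.le ⟨a, ha, rfl⟩⟩
  have key : ∀ t ∈ T, ∀ x ∈ D, x ∈ N → ¬ Od t x := fun t ht x hx hN h4 => h2 (h1.antisymm fun b hb => by
    obtain ⟨g, rfl⟩ := hcl.2.2 t (h1 ht) b hb
    exact ((h.eq_top hA hD.1 hF (h1 ht) hx h4 (fun a ha k1 => k a ha t ht (h.pc (h1 ht) ha k1).symm) hN).ge (mem_top g) t).2 ht)
  have h4 := key s hs t (h1 ht) (k t (h1 ht) t ht rfl)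
  by_contra h5
  obtain ⟨x, hx, h6, e, h7, -⟩ := h.exists_three (h1 hs) (h.mem (h1 hs) (h1 ht) h4 (Ne.symm h5)).2 (h1 ht) h4 rfl
  exact key s hs x hx (k x hx t ht (e ▸ h.c2 (h.mem (h1 hs) (h1 ht) h4 (Ne.symm h5)).2 hx h6)) h7

end Cfsg.Lib.RInv
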