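import Cfsg.Agent.Lib.Root.SL2
import Cfsg.Agent.S0801

/-!
# Dickson's lemma over arbitrary fields
-/

set_option autoImplicit false
set_option linter.unusedSectionVars false

namespace Cfsg.Lib.Root

open Polynomial Matrix Cfsg.Lib.Chev.PreSys

variable {k : Type*} [Field k] {p q a c u : k[X]} {m n e : ℕ}

/-- First columns of words in the two scalar families. -/
inductive Rch : k[X] → k[X] → Prop
  | one : Rch 1 0
  | up {a c : k[X]} (s : k) : Rch a c → Rch (a + C s * (X * c)) c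
  | lo {a c : k[X]} (s : k) : Rch a c → Rch a (c + C s * a)

/-- No small combination. -/
def Cd (m n e : ℕ) (q p : k[X]) : Prop :=
  ∀ α ∈ degreeLT k m, ∀ β ∈ degreeLT k n, α * p + β * q ∈ degreeLT k e → α = 0 ∧ β = 0

theorem C_mul_mem (s : k) (h : p ∈ degreeLT k n) : C s * p ∈ degreeLT k n := smul_eq_C_mul s ▸ Submodule.smul_mem _ s h

theorem mul_mem_deg (h : p ∈ degreeLT k (m + 1)) (h' : q ∈ degreeLT k n) : p * q ∈ degreeLT k (m + n) := by
  rw [mem_degreeLT] at *
  by_cases hq : q = 0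
  · simp [hq, bot_lt_iff_ne_bot]
  by_cases hp : p = 0
  · simp [hp, bot_lt_iff_ne_bot]
  rw [degree_mul, degree_eq_natDegree hp, degree_eq_natDegree hq] at *
  norm_cast at *; omega

theorem X_mul_mem (h : p ∈ degreeLT k n) : X * p ∈ degreeLT k (n + 1) :=
  add_comm 1 n ▸ mul_mem_deg (mem_degreeLT.2 (by simp)) h

theorem le_of_mul_mem (hp : p ≠ 0) (hq : q ∉ degreeLT k n) (h : p * q ∈ degreeLT k m) : n < m := by
  have hq0 : q ≠ 0 := fun e => hq (e ▸ zero_mem _)
  rw [mem_degreeLT] at *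
  rw [degree_mul, degree_eq_natDegree hp, degree_eq_natDegree hq0] at *
  norm_cast at *; omega

theorem exists_reduce (hp : p ∈ degreeLT k (n + 1)) (hq : q ∈ degreeLT k (n + 1)) (h : q ∉ degreeLT k n) :
    ∃ s : k, p - C s * q ∈ degreeLT k n := by
  simp only [mem_degreeLT, degree_lt_iff_coeff_zero] at *
  have h1 : q.coeff n ≠ 0 := fun e => h fun m hm => hm.eq_or_lt.elim (· ▸ e) (hq m)
  refine ⟨p.coeff n / q.coeff n, fun m hm => ?_⟩
  rw [coeff_sub, coeff_C_mul]
  obtain rfl | hm := hm.eq_or_lt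
  · rw [div_mul_cancel₀ _ h1, sub_self]
  · rw [hp m hm, hq m hm, mul_zero, sub_zero]

theorem C_mem (s : k) : C s ∈ degreeLT k (n + 1) := mem_degreeLT.2 (degree_C_le.trans_lt (by norm_cast; omega))

theorem rch_of_cd (j : ℕ) : ∀ p q : k[X], p.coeff 0 = 1 → p ∈ degreeLT k (j + 1) → q ∈ degreeLT k (j + 1) →
    (∀ i ≤ j, Cd (i + 1) i (j - i) (X * q) p) → (∀ i < j, Cd (i + 1) (i + 1) (j - i - 1) q p) → Rch p q := by
  induction j with
  | zero =>
    intro p q h0 hp hq _ _
    rw [mem_degreeLT, Nat.cast_one, Nat.WithBot.lt_one_iff_le_zero] at hp hq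
    rw [eq_C_of_degree_le_zero hp, eq_C_of_degree_le_zero hq, h0]
    simpa using Rch.one.lo (q.coeff 0)
  | succ j ih =>
    intro p q h0 hp hq h1 h2
    obtain ⟨d, hd⟩ := exists_reduce hq hp fun e => one_ne_zero (h1 0 bot_le 1 (C_mem 1) 0 (zero_mem _) (by simpa using e)).1
    obtain ⟨s, hs⟩ := exists_reduce hp (X_mul_mem hd) fun e => one_ne_zero (h2 0 j.succ_pos (-C d) (neg_mem (C_mem d)) 1 (C_mem 1) (by
      rw [mem_degreeLT, degree_lt_iff_coeff_zero] at e ⊢
      intro m hm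
      rw [← e (m + 1) (by omega), coeff_X_mul]; congr 1; ring)).2
    have := ((ih _ _ (by simpa using h0) hs hd (fun i hi α hα β hβ h => ?_) fun i hi α hα β hβ h => ?_).up s).lo d
    · convert this using 1 <;> ring
    · have h3 := sub_mem (degreeLT_mono i.le_succ hβ) (C_mul_mem s hα)
      obtain ⟨h4, h5⟩ := h1 (i + 1) (by omega) _ (sub_mem (degreeLT_mono (Nat.le_succ _) hα) (C_mul_mem d (X_mul_mem h3))) _ h3
        (by rw [Nat.add_sub_add_right]; convert h using 1; ring)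
      rw [h5, mul_zero, mul_zero, sub_zero] at h4
      exact ⟨h4, by simpa [h4] using h5⟩
    · have h3 := sub_mem (degreeLT_mono (Nat.le_succ _) hβ) (C_mul_mem s (X_mul_mem hα))
      obtain ⟨h4, h5⟩ := h2 (i + 1) (by omega) _ (sub_mem (degreeLT_mono (Nat.le_succ _) hα) (C_mul_mem d h3)) _ h3
        (by rw [Nat.add_sub_add_right]; convert h using 1; ring)
      rw [h5, mul_zero, sub_zero] at h4
      exact ⟨h4, by simpa [h4] using h5⟩

theorem Cd.finite (h : Cd m n e q p) (u : k[X]) : {t : k | ¬ Cd m n e q (p + C t * u)}.Finite := by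
  let φ := fun p q : k[X] => (degreeLT k e).mkQ ∘ₗ ((LinearMap.mulRight k p ∘ₗ (degreeLT k m).subtype).coprod
    (LinearMap.mulRight k q ∘ₗ (degreeLT k n).subtype))
  obtain ⟨g, hg⟩ := (φ p q).exists_leftInverse_of_injective (LinearMap.ker_eq_bot'.2 fun v hv =>
    have := h _ v.1.2 _ v.2.2 ((Submodule.Quotient.mk_eq_zero _).1 hv)
    Prod.ext (Subtype.ext this.1) (Subtype.ext this.2))
  refine ((Module.End.finite_hasEigenvalue (g ∘ₗ φ u 0)).preimage (f := fun t => -t⁻¹)
    (neg_injective.comp inv_injective).injOn).subset fun t ht => ?_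
  simp only [Cd, Set.mem_ofPred_eq, not_forall] at ht
  obtain ⟨α, hα, β, hβ, h1, h2⟩ := ht
  have h3 : φ p q (⟨α, hα⟩, ⟨β, hβ⟩) + t • φ u 0 (⟨α, hα⟩, ⟨β, hβ⟩) = 0 := by
    rw [← (Submodule.Quotient.mk_eq_zero _).2 h1]
    change (degreeLT k e).mkQ (α * p + β * q) + t • (degreeLT k e).mkQ (α * u + β * 0) = (degreeLT k e).mkQ _
    rw [← map_smul, ← map_add, smul_eq_C_mul]
    congr 1; ring
  replace h3 := congrArg g h3
  rw [map_add, map_smul, map_zero, ← LinearMap.comp_apply, hg, LinearMap.id_apply] at h3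
  have h4 : ((⟨α, hα⟩, ⟨β, hβ⟩) : degreeLT k m × degreeLT k n) ≠ 0 := fun e =>
    h2 ⟨congrArg (·.1.1) e, congrArg (·.2.1) e⟩
  have h5 : t ≠ 0 := fun e => h4 (by simpa [e] using h3)
  refine Module.End.hasEigenvalue_of_hasEigenvector ⟨Module.End.mem_eigenspace_iff.2 ?_, h4⟩
  rw [neg_smul, ← smul_neg, eq_inv_smul_iff₀ h5, eq_neg_iff_add_eq_zero, add_comm]
  exact h3

theorem exists_all [Infinite k] {ι : Type*} (s : Finset ι) (P : ι → k[X] → Prop)
    (hP : ∀ i p, P i p → ∀ u, {t : k | ¬ P i (p + C t * u)}.Finite)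
    (h : ∀ i ∈ s, ∃ p, (p.coeff 0 = 1 ∧ p ∈ degreeLT k (n + 1)) ∧ P i p) :
    ∃ p : k[X], (p.coeff 0 = 1 ∧ p ∈ degreeLT k (n + 1)) ∧ ∀ i ∈ s, P i p := by
  classical
  induction s using Finset.induction with
  | empty => exact ⟨1, ⟨by simp, C_mem 1⟩, by simp⟩
  | insert i s _ ih =>
    obtain ⟨p, h1, h2⟩ := ih fun j hj => h j (Finset.mem_insert_of_mem hj)
    obtain ⟨q, h3, h4⟩ := h i (Finset.mem_insert_self _ _)
    obtain ⟨t, ht⟩ := ((s.finite_toSet.biUnion fun j hj => hP j p (h2 j hj) (q - p)).union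
      ((hP i q h4 (p - q)).preimage (f := fun t => 1 - t) sub_right_injective.injOn)).exists_notMem
    simp only [Set.mem_union, Set.mem_iUnion, Set.mem_preimage, Set.mem_ofPred_eq, not_or, not_exists, not_not] at ht
    refine ⟨p + C t * (q - p), ⟨by simp [h1.1, h3.1], add_mem h1.2 (C_mul_mem t (sub_mem h3.2 h1.2))⟩, fun j hj => ?_⟩
    obtain rfl | hj := Finset.mem_insert.1 hj
    · convert ht.2 using 1; simp; ring
    · exact ht.1 j hj

theorem exists_rch [Infinite k] (hq : q ∈ degreeLT k (n + 1)) (hq' : q ∉ degreeLT k n) :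
    ∃ p : k[X], ∀ u ∈ degreeLT k n, {t : k | ¬ Rch (p + C t * (X * u)) q}.Finite := by
  have ex : ∀ e ≤ n, ∀ P : k[X] → Prop, (∀ p, p ∈ degreeLT k (e + 1) → p ∉ degreeLT k e → P p) →
      ∃ p, (p.coeff 0 = 1 ∧ p ∈ degreeLT k (n + 1)) ∧ P p := fun e he P h => by
    have : ((X + C 1 : k[X]) ^ e).degree = e := by rw [degree_pow, degree_X_add_C]; simp
    have h1 : (X + C 1 : k[X]) ^ e ∈ degreeLT k (e + 1) := mem_degreeLT.2 (by rw [this]; norm_cast; omega)
    exact ⟨(X + C 1) ^ e, ⟨by simp [coeff_zero_eq_eval_zero], degreeLT_mono (by omega) h1⟩,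
      h _ h1 (by rw [mem_degreeLT, this]; exact lt_irrefl _)⟩
  let P : ℕ ⊕ ℕ → k[X] → Prop := Sum.elim (fun i => Cd (i + 1) i (n - i) (X * q)) fun i => Cd (i + 1) (i + 1) (n - i - 1) q
  have hP : ∀ i p, P i p → ∀ u, {t : k | ¬ P i (p + C t * u)}.Finite := by
    rintro (i | i) p h <;> exact h.finite
  have key : ∀ {m n' e q p}, q ∉ degreeLT k (m + e) → p ∈ degreeLT k (e + 1) → p ∉ degreeLT k e → Cd m n' e q p := by
    intro m n' e q p h1 h2 h3 α hα β _ h
    obtain rfl : β = 0 := by_contra fun hb => (le_of_mul_mem hb h1 (by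
      have := sub_mem (degreeLT_mono (Nat.le_add_right e m) h) (mul_mem_deg h2 hα)
      rwa [add_comm e, mul_comm p, add_sub_cancel_left] at this)).false
    exact ⟨by_contra fun hb => (le_of_mul_mem hb h3 (by simpa using h)).false, rfl⟩
  obtain ⟨p, h1, h2⟩ := exists_all (n := n) ((Finset.range (n + 1)).disjSum (Finset.range n)) P hP (by
    rintro (i | i) hi <;> simp only [Finset.inl_mem_disjSum, Finset.inr_mem_disjSum, Finset.mem_range] at hi
    · refine ex (n - i) (by omega) _ fun p => key fun e => hq' ?_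
      rw [mem_degreeLT, degree_lt_iff_coeff_zero] at e ⊢
      exact fun m hm => coeff_X_mul q m ▸ e _ (by omega)
    · exact ex (n - i - 1) (by omega) _ fun p => key (by rwa [show i + 1 + (n - i - 1) = n by omega]))
  refine ⟨p, fun u hu => ((Finset.finite_toSet _).biUnion fun j hj => hP j p (h2 j hj) (X * u)).subset fun t ht => ?_⟩
  by_contra hn
  simp only [Set.mem_iUnion, Set.mem_ofPred_eq, not_exists, not_not] at hn
  exact ht (rch_of_cd n _ _ (by simpa using h1.1) (add_mem h1.2 (C_mul_mem t (X_mul_mem hu))) hq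
    (fun i hi => hn (.inl i) (by simpa using Nat.lt_succ_of_le hi)) fun i hi => hn (.inr i) (by simpa using hi))

theorem exists_sq_ne (h2 : (2 : k) ≠ 0) (h3 : Nat.card k ≠ 3) : ∃ c : k, c ≠ 0 ∧ c ^ 2 ≠ 1 := by
  by_contra! h
  refine h3 (Set.ncard_univ k ▸ Set.ncard_eq_three.2 ⟨0, 1, -1, zero_ne_one, by simp, fun e => h2 (by linear_combination e), ?_⟩)
  exact (Set.eq_univ_of_forall fun c => by_cases Or.inl fun e => Or.inr (sq_eq_one_iff.1 (h c e))).symm

variable {K : Type*} [Field K] [Algebra k K] {lam : K} {g : SpecialLinearGroup (Fin 2) K}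

variable (k) in
/-- The group generated by the two scalar families. -/
def dk (lam : K) : Subgroup (SpecialLinearGroup (Fin 2) K) :=
  Subgroup.closure ({g | ∃ c : k, g.1 = !![1, algebraMap k K c; 0, 1]} ∪ {g | ∃ c : k, g.1 = !![1, 0; algebraMap k K c * lam, 1]})

theorem x_mem_dk (c : k) : (sl2 K).x true (algebraMap k K c) ∈ dk k lam := Subgroup.subset_closure (Or.inl ⟨c, rfl⟩)
theorem y_mem_dk (c : k) : (sl2 K).x false (algebraMap k K c * lam) ∈ dk k lam := Subgroup.subset_closure (Or.inr ⟨c, rfl⟩)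

theorem Rch.exists_mem (h : Rch a c) : ∃ g ∈ dk k lam, g 0 0 = aeval lam a ∧ g 1 0 = lam * aeval lam c := by
  induction h with
  | one => exact ⟨1, one_mem _, by simp⟩
  | up s _ ih =>
    obtain ⟨g, h, h1, h2⟩ := ih
    exact ⟨_, mul_mem (x_mem_dk s) h, by simp [sl2_true, mul_apply, h1, h2]⟩
  | lo s _ ih =>
    obtain ⟨g, h, h1, h2⟩ := ih
    exact ⟨_, mul_mem (y_mem_dk s) h, by simp [sl2_false, mul_apply, h1, h2]; ring⟩

theorem exists_rch_of_mem (hg : g ∈ dk k lam) : ∃ a c : k[X], Rch a c ∧ g 0 0 = aeval lam a ∧ g 1 0 = lam * aeval lam c := by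
  have key : ∀ (b : Bool) (s : k) (g x : SpecialLinearGroup (Fin 2) K), x.1 = ((sl2 K).x b (algebraMap k K s * if b then 1 else lam)).1 →
      (∃ a c : k[X], Rch a c ∧ g 0 0 = aeval lam a ∧ g 1 0 = lam * aeval lam c) →
      ∃ a c : k[X], Rch a c ∧ (x * g) 0 0 = aeval lam a ∧ (x * g) 1 0 = lam * aeval lam c := by
    rintro (_ | _) s g x e ⟨a, c, h, h1, h2⟩
    · exact ⟨_, _, h.lo s, by simp [e, sl2_false, mul_apply, h1, h2]; ring⟩
    · exact ⟨_, _, h.up s, by simp [e, sl2_true, mul_apply, h1, h2]⟩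
  induction hg using Subgroup.closure_induction_left with
  | one => exact ⟨_, _, .one, by simp⟩
  | mul_left x hx y _ ih =>
    obtain ⟨s, e⟩ | ⟨s, e⟩ := hx
    · exact key true s y _ (by simp [e, sl2_true]) ih
    · exact key false s y _ (by simp [e, sl2_false]) ih
  | inv_mul_cancel x hx y _ ih =>
    obtain ⟨s, e⟩ | ⟨s, e⟩ := hx
    · exact key true (-s) y _ (by simp [e, sl2_true, adjugate_fin_two]) ih
    · exact key false (-s) y _ (by simp [e, sl2_false, adjugate_fin_two]) ih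

theorem exists_twist {F : Type*} [Field F] (f : F →+* K) (h0 : lam ≠ 0) :
    ∃ θ : SpecialLinearGroup (Fin 2) F →* SpecialLinearGroup (Fin 2) K, ∀ g,
      (θ g).1 = !![f (g 0 0), f (g 0 1) / lam; f (g 1 0) * lam, f (g 1 1)] :=
  ⟨MonoidHom.mk' (fun g => Cfsg.Lib.Linear.slMat (f (g 0 0)) (f (g 0 1) / lam) (f (g 1 0) * lam) (f (g 1 1)) (by
    have := congrArg f (det_fin_two g.1 ▸ g.det_coe)
    field_simp; simpa using this)) fun g h => Subtype.ext (by simp [mul_apply]; field_simp; simp), fun _ => rfl⟩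

theorem dk_eq_top (h2 : (2 : k) ≠ 0) (h3 : Nat.card k ≠ 3) (hl : IsAlgebraic k lam) (h0 : lam ≠ 0)
    (ht : Algebra.adjoin k {lam} = ⊤) : dk k lam = ⊤ := by
  let L : Subalgebra k K :=
    { carrier := {l | ∀ r : K, (∀ c : k, (sl2 K).x true (c • r) ∈ dk k lam) → ∀ c : k, (sl2 K).x true (c • (l * r)) ∈ dk k lam}
      mul_mem' := fun ha hb r hr => mul_assoc _ _ r ▸ ha _ (hb r hr)
      add_mem' := fun ha hb r hr c => by
        rw [add_mul, smul_add, (sl2 K).x_add]; exact mul_mem (ha r hr c) (hb r hr c)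
      algebraMap_mem' := fun s r hr c => by rw [← Algebra.smul_def, smul_smul]; exact hr _ }
  have h1 : ∀ g ∈ dk k lam, g 1 0 = 0 → g 0 0 ^ 2 ∈ L := fun g hg e r hr c => by
    convert mul_mem (mul_mem hg (hr c)) (inv_mem hg) using 1
    have := g.det_coe
    rw [det_fin_two, e, mul_zero, sub_zero] at this
    rw [eq_mul_inv_iff_mul_eq]
    ext i j
    fin_cases i <;> fin_cases j <;> simp [sl2_true, mul_apply, e, Algebra.smul_def]
    linear_combination (algebraMap k K c * r * g 0 0) * this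
  have h4 : ∀ μ : K, μ ^ 2 ∈ L → (μ + 1) ^ 2 ∈ L → μ ∈ L := fun μ ha hb => by
    convert L.smul_mem (sub_mem (sub_mem hb ha) L.one_mem) 2⁻¹ using 1
    rw [eq_inv_smul_iff₀ h2, two_smul]; ring
  suffices L = ⊤ by
    have h5 : upperUnipotentSL2 K ≤ dk k lam := fun g hg => by
      obtain ⟨t, rfl⟩ := mem_upper.1 hg
      simpa using (this.ge trivial : t ∈ L) 1 (fun c => by simpa [Algebra.smul_def] using x_mem_dk c) 1
    refine top_le_iff.1 (sl2_sup.ge.trans (sup_le h5 (sl2_sp.rk.symm.le_of_mem_of_le (mem_lower.2 ⟨_, rfl⟩) ?_ (y_mem_dk 1) h5)))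
    exact fun e => h0 (by simpa [sl2_false] using congrArg (· 1 0) e)
  cases finite_or_infinite k
  · have : Module.Finite k K := ⟨⟨_, (Algebra.top_toSubmodule (R := k) (A := K) ▸ ht ▸ hl.isIntegral.fg_adjoin_singleton).choose_spec⟩⟩
    have := Module.finite_of_finite k (M := K)
    obtain ⟨c, hc, hc'⟩ : ∃ c : k, c ≠ 0 ∧ (c • lam) ^ 2 ≠ -1 := by
      obtain ⟨c, hc, hc'⟩ := exists_sq_ne h2 h3
      by_cases e : lam ^ 2 = -1
      · refine ⟨c, hc, fun e' => hc' ((algebraMap k K).injective ?_)⟩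
        rwa [_root_.smul_pow, e, smul_neg, neg_inj, ← Algebra.algebraMap_eq_smul_one, ← map_one (algebraMap k K)] at e'
      · exact ⟨1, one_ne_zero, by rwa [one_smul]⟩
    let F := Subfield.closure {c • lam}
    let ν : F := ⟨c • lam, Subfield.subset_closure rfl⟩
    obtain ⟨θ, hθ⟩ := exists_twist F.subtype h0
    have h5 := (Cfsg.Agent.S0801.main (F := F) (fun e => h2 ((algebraMap k K).injective (by rw [map_ofNat, map_zero]; exact congrArg Subtype.val e))) ν
      (fun e => smul_ne_zero hc h0 (congrArg Subtype.val e)) (by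
        rw [← Subfield.comap_map F.subtype (Subfield.closure _), RingHom.map_field_closure, Set.image_singleton]
        exact top_le_iff.1 fun x _ => x.2)).resolve_right fun e => hc' (by simpa using congrArg Subtype.val e.2.1)
    have h6 : ∀ g, θ g ∈ dk k lam := fun g => (h5.ge.trans ((Subgroup.closure_le ((dk k lam).comap θ)).2 (by
      rintro _ (rfl | rfl)
      · exact Subgroup.subset_closure (Or.inr ⟨1, by simp [hθ]⟩)
      · exact Subgroup.subset_closure (Or.inl ⟨c, by simp [hθ, ν, Algebra.smul_def, h0]⟩)))) trivial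
    have h7 : ∀ a : F, (a : K) ^ 2 ∈ L := fun a => by
      by_cases e : a = 0
      · simp [e]
      simpa [hθ, sl2_h e] using h1 _ (h6 ((sl2 F).h true a)) (by simp [hθ, sl2_h e])
    refine top_le_iff.1 (ht.ge.trans (Algebra.adjoin_le (Set.singleton_subset_iff.2 ?_)))
    simpa [hc, ν] using L.smul_mem (h4 _ (h7 ν) (h7 (ν + 1))) c⁻¹
  have hm := minpoly.ne_zero hl.isIntegral
  obtain ⟨p, hp⟩ := exists_rch (q := minpoly k lam) (n := (minpoly k lam).natDegree)
    (mem_degreeLT.2 (degree_le_natDegree.trans_lt (by norm_cast; omega))) (by rw [mem_degreeLT, degree_eq_natDegree hm]; exact lt_irrefl _)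
  have h5 : ∀ μ : K, μ ^ 2 ∈ L := fun μ => by
    obtain ⟨u, hu⟩ : ∃ u : k[X], aeval lam u = μ / lam := by
      simpa [Algebra.adjoin_singleton_eq_range_aeval] using ht.ge (Algebra.mem_top (x := μ / lam))
    have h6 := hp (u %ₘ minpoly k lam) (mem_degreeLT.2 (degree_eq_natDegree hm ▸ degree_modByMonic_lt _ (minpoly.monic hl.isIntegral)))
    have h7 : ∀ t : k, Rch (p + C t * (X * (u %ₘ minpoly k lam))) (minpoly k lam) → (aeval lam p + t • μ) ^ 2 ∈ L := fun t h => by
      obtain ⟨g, hg, e1, e2⟩ := h.exists_mem (lam := lam)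
      convert h1 g hg (by simp [e2]) using 2
      simp [e1, hu, mul_div_cancel₀, h0, Algebra.smul_def]
    obtain ⟨t, ht⟩ := h6.exists_notMem
    obtain ⟨s, hs⟩ := (h6.insert t).exists_notMem
    obtain ⟨r, hr⟩ := ((h6.insert t).insert s).exists_notMem
    simp only [Set.mem_insert_iff, Set.mem_ofPred_eq, not_or, not_not] at ht hs hr
    have h8 := L.smul_mem (add_mem (add_mem (L.smul_mem (h7 t ht) (s - r)) (L.smul_mem (h7 s hs.2) (r - t))) (L.smul_mem (h7 r hr.2.2) (t - s)))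
      ((s - r) * (s - t) * (r - t))⁻¹
    convert h8 using 1
    rw [eq_inv_smul_iff₀ (by simp [sub_eq_zero, hs.1, hr.2.1, Ne.symm hr.1])]
    simp only [Algebra.smul_def, map_mul, map_sub]; ring
  exact top_le_iff.1 fun μ _ => h4 μ (h5 _) (h5 _)

theorem exists_rch_eq (h2 : (2 : k) ≠ 0) (h3 : Nat.card k ≠ 3) (hl : IsAlgebraic k lam) (h0 : lam ≠ 0) (hp : aeval lam p ≠ 0) :
    ∃ a c : k[X], Rch a c ∧ aeval lam a = aeval lam p ∧ aeval lam c = 0 := by
  let ν := IntermediateField.AdjoinSimple.gen k lam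
  have e : ∀ p : k[X], ((aeval ν p :) : K) = aeval lam p := fun p => (aeval_algHom_apply (IntermediateField.val _) ν p).symm
  have h4 : aeval ν p ≠ 0 := fun h => hp (by rw [← e, h]; rfl)
  have h5 : ν ≠ 0 := fun h => h0 (congrArg Subtype.val h)
  obtain ⟨a, c, h, h6, h7⟩ := exists_rch_of_mem ((dk_eq_top h2 h3 (IntermediateField.isAlgebraic_iff.2 hl) h5
    (IntermediateField.adjoin.powerBasis hl.isIntegral).adjoin_gen_eq_top).ge (Subgroup.mem_top ((sl2 _).h true (aeval ν p))))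
  simp only [sl2_h h4, of_apply, cons_val', cons_val_zero, cons_val_one, cons_val_fin_one, zero_eq_mul, h5, false_or] at h6 h7
  exact ⟨a, c, h, by rw [← e, ← h6, e], by rw [← e, h7]; rfl⟩

end Cfsg.Lib.Root
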