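import Cfsg.Agent.Lib.Root.Parts
import Cfsg.Agent.Lib.Root.SL2

/-!
# Families of square-zero elements give `k`-root subgroups
-/

set_option autoImplicit false
set_option linter.unusedSectionVars false

namespace Cfsg.Lib.Root

open Subgroup Cfsg.Lib.Transfer Cfsg.Lib.Chev Cfsg.Lib.Chev.PreSys
open scoped commutatorElement

variable {k R G : Type*} [Field k] [Ring R] [Algebra k R] [Group G] {ρ : G →* R} {X : Set R} {x y : R} {g h : G}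

variable (k ρ) in
/-- The group of the elements `1 + c x`. -/
def Ax (x : R) : Subgroup G := closure {g | ∃ c : k, ρ g = 1 + c • x}

theorem map_inv_of (hx : x * x = 0) {c : k} (h : ρ g = 1 + c • x) : ρ g⁻¹ = 1 + (-c) • x := by
  have : (1 + c • x) * (1 + (-c) • x) = 1 := by simp only [mul_add, add_mul, smul_mul_assoc, mul_smul_comm, hx, one_mul, mul_one]; module
  rw [← h] at this
  calc ρ g⁻¹ = ρ g⁻¹ * (ρ g * (1 + (-c) • x)) := by rw [this, mul_one]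
    _ = _ := by rw [← mul_assoc, ← map_mul, inv_mul_cancel, map_one, one_mul]

theorem mem_Ax (hx : x * x = 0) : g ∈ Ax k ρ x ↔ ∃ c : k, ρ g = 1 + c • x := by
  refine ⟨fun hg => ?_, fun h => subset_closure h⟩
  induction hg using closure_induction with
  | mem _ h => exact h
  | one => exact ⟨0, by simp⟩
  | mul a b _ _ h1 h2 =>
    obtain ⟨c, h1⟩ := h1
    obtain ⟨d, h2⟩ := h2
    exact ⟨c + d, by simp only [map_mul, h1, h2, mul_add, add_mul, smul_mul_assoc, mul_smul_comm, hx, one_mul, mul_one]; module⟩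
  | inv a _ h1 => exact let ⟨c, h1⟩ := h1; ⟨-c, map_inv_of hx h1⟩

theorem Ax_smul (hx : x * x = 0) {c : k} (hc : c ≠ 0) : Ax k ρ (c • x) = Ax k ρ x := Subgroup.ext fun g => by
  rw [mem_Ax hx, mem_Ax (by simp [hx])]
  exact ⟨fun ⟨d, h⟩ => ⟨d * c, by rw [h, smul_smul]⟩, fun ⟨d, h⟩ => ⟨d * c⁻¹, by rw [h, smul_smul, inv_mul_cancel_right₀ hc]⟩⟩

theorem rr (g : G) : ρ g⁻¹ * ρ g = 1 := by rw [← map_mul, inv_mul_cancel, map_one]
theorem rr' (g : G) : ρ g * ρ g⁻¹ = 1 := by rw [← map_mul, mul_inv_cancel, map_one]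

theorem cj_Ax (hx : x * x = 0) (g : G) : cj g (Ax k ρ x) = Ax k ρ (ρ g * x * ρ g⁻¹) := Subgroup.ext fun a => by
  rw [mem_cj, mem_Ax hx, mem_Ax (by rw [mul_assoc, mul_assoc, mul_assoc, ← mul_assoc (ρ g⁻¹), rr, one_mul, ← mul_assoc x, hx]; simp)]
  refine exists_congr fun c => ⟨fun h => ?_, fun h => ?_⟩
  · rw [show a = g * (g⁻¹ * a * g) * g⁻¹ by group, map_mul, map_mul, h]
    simp only [mul_add, add_mul, mul_one, rr', smul_mul_assoc, mul_smul_comm]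
  · rw [map_mul, map_mul, h]
    simp only [mul_add, add_mul, mul_one, rr, smul_mul_assoc, mul_smul_comm, ← mul_assoc, one_mul]
    rw [mul_assoc, rr, mul_one]

theorem exists_sl2' (xx : x * x = 0) (yy : y * y = 0) (e1 : x * y * x = x) (e2 : y * x * y = y) :
    ∃ ψ : Matrix.SpecialLinearGroup (Fin 2) k →* R, ∀ c : k, ψ ((sl2 k).x true c) = 1 + c • x ∧ ψ ((sl2 k).x false c) = 1 + c • y := by
  rw [mul_assoc] at e1 e2
  have s : (∀ t, x * (x * t) = 0) ∧ (∀ t, y * (y * t) = 0) ∧ (∀ t, x * (y * (x * t)) = x * t) ∧ (∀ t, y * (x * (y * t)) = y * t) :=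
    ⟨fun t => by rw [← mul_assoc, xx, zero_mul], fun t => by rw [← mul_assoc, yy, zero_mul],
      fun t => by rw [← mul_assoc y, ← mul_assoc, e1], fun t => by rw [← mul_assoc x, ← mul_assoc, e2]⟩
  refine ⟨{ toFun := fun g => 1 - x * y - y * x + (g 0 0 • (x * y) + g 0 1 • x + g 1 0 • y + g 1 1 • (y * x))
            map_one' := by simp
            map_mul' := fun g h => by
              simp only [Matrix.SpecialLinearGroup.coe_mul, Matrix.mul_apply, Fin.sum_univ_two, mul_add, add_mul, mul_sub, sub_mul,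
                smul_mul_assoc, mul_assoc, mul_smul_comm, s, xx, yy, e1, e2, mul_one, one_mul, mul_zero, smul_zero]
              module }, fun c => ⟨?_, ?_⟩⟩ <;> simp [sl2_true, sl2_false] <;> abel

variable (k ρ) in
/-- A family of square-zero elements with the trichotomy of root elements. -/
structure TF (X : Set R) : Prop where
  inj : Function.Injective ρ
  sq : ∀ x ∈ X, x * x = 0
  ne : ∀ x ∈ X, x ≠ 0
  ex : ∀ x ∈ X, ∀ c : k, ∃ g, ρ g = 1 + c • x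
  cj : ∀ g, ∀ x ∈ X, ρ g * x * ρ g⁻¹ ∈ X
  tri : ∀ x ∈ X, ∀ y ∈ X, ∃ l : k, x * y * x = l • x ∧ y * x * y = l • y ∧ (l = 0 → x * y = y * x ∨ x * y - y * x ∈ X)
  ni : ∀ x ∈ X, ∃ y ∈ X, x * y * x ≠ 0

namespace TF

variable (T : TF k ρ X)
include T

theorem comm (hx : x ∈ X) (hy : y ∈ X) (h : x * y = y * x) : ⁅Ax k ρ x, Ax k ρ y⁆ = ⊥ := comm_bot_iff.2 fun a ha b hb => T.inj (by
  obtain ⟨c, h1⟩ := (mem_Ax (T.sq x hx)).1 ha
  obtain ⟨d, h2⟩ := (mem_Ax (T.sq y hy)).1 hb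
  simp only [map_mul, h1, h2, mul_add, add_mul, smul_mul_assoc, mul_smul_comm, h, one_mul, mul_one]; module)

theorem eq_one_iff (hx : x ∈ X) {c : k} (h : ρ g = 1 + c • x) : g = 1 ↔ c = 0 :=
  ⟨fun e => by rw [e, map_one, left_eq_add, smul_eq_zero] at h; exact h.resolve_right (T.ne x hx),
    fun e => T.inj (by rw [h, e, map_one, zero_smul, add_zero])⟩

theorem psl2 (hx : x ∈ X) (hy : y ∈ X) (h : x * y * x ≠ 0) : IsPSL2PairOver k (Ax k ρ x) (Ax k ρ y) := by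
  obtain ⟨l, h1, h2, -⟩ := T.tri x hx y hy
  have hl : l ≠ 0 := fun e => h (by rw [h1, e, zero_smul])
  have yy : l⁻¹ • y * l⁻¹ • y = 0 := by simp [T.sq y hy]
  obtain ⟨ψ, h3⟩ := exists_sl2' (k := k) (T.sq x hx) yy (by simp [h1, smul_smul, hl]) (by simp [h2, smul_smul, hl])
  have h4 : ∀ g, ψ.toHomUnits g ∈ ρ.toHomUnits.range := fun g => by
    refine (show ⊤ ≤ ρ.toHomUnits.range.comap ψ.toHomUnits from sl2_sup (K := k) ▸ sup_le (fun g hg => ?_) fun g hg => ?_) (mem_top g)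
    · obtain ⟨t, rfl⟩ := mem_upper.1 hg
      obtain ⟨a, ha⟩ := T.ex x hx t
      exact ⟨a, Units.ext (ha.trans (h3 t).1.symm)⟩
    · obtain ⟨t, rfl⟩ := mem_lower.1 hg
      obtain ⟨a, ha⟩ := T.ex y hy (t * l⁻¹)
      exact ⟨a, Units.ext (ha.trans (by rw [← smul_smul]; exact (h3 t).2.symm))⟩
  have h5 : Function.Injective ρ.toHomUnits := fun a b e => T.inj (congrArg Units.val e)
  let φ := (MonoidHom.ofInjective h5).symm.toMonoidHom.comp (ψ.toHomUnits.codRestrict _ h4)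
  have h6 : ∀ g, ρ (φ g) = ψ g := fun g => congrArg Units.val (MonoidHom.apply_ofInjective_symm h5 ⟨_, h4 g⟩)
  refine psl2_of_hom φ (Subgroup.ext fun a => ?_) (Subgroup.ext fun a => ?_) fun e => ?_
  · simp only [mem_map, mem_upper, mem_Ax (T.sq x hx), exists_exists_eq_and]
    exact exists_congr fun c => by rw [← T.inj.eq_iff, h6, (h3 c).1, eq_comm]
  · simp only [mem_map, mem_lower, ← Ax_smul (T.sq y hy) (inv_ne_zero hl), mem_Ax yy, exists_exists_eq_and]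
    exact exists_congr fun c => by rw [← T.inj.eq_iff, h6, (h3 c).2, eq_comm]
  · obtain ⟨a, ha⟩ := T.ex y hy 1
    obtain ⟨c, hc⟩ := (mem_Ax (T.sq x hx)).1 (e.ge ((mem_Ax (T.sq y hy)).2 ⟨1, ha⟩))
    rw [ha, one_smul, add_right_inj] at hc
    exact h (by simp [hc, T.sq x hx])

theorem rk (hx : x ∈ X) (hy : y ∈ X) (h : x * y * x ≠ 0) : RK (Ax k ρ x) (Ax k ρ y) := (sp_of_psl2 (T.psl2 hx hy h)).rk

theorem cm (hx : x ∈ X) (hy : y ∈ X) (h1 : x * y * x = 0) (h2 : y * x * y = 0) (h3 : x * y - y * x ∈ X) :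
    ⁅Ax k ρ x, Ax k ρ y⁆ = Ax k ρ (x * y - y * x) ∧ CM (Ax k ρ '' X) (Ax k ρ x) (Ax k ρ y) := by
  have xx := T.sq x hx
  have yy := T.sq y hy
  rw [mul_assoc] at h1 h2
  have s : (∀ t, x * (x * t) = 0) ∧ (∀ t, y * (y * t) = 0) ∧ (∀ t, x * (y * (x * t)) = 0) :=
    ⟨fun t => by rw [← mul_assoc, xx, zero_mul], fun t => by rw [← mul_assoc, yy, zero_mul],
      fun t => by rw [← mul_assoc y, ← mul_assoc, h1, zero_mul]⟩
  have k1 : ∀ {a b c d}, ρ a = 1 + (c : k) • x → ρ b = 1 + (d : k) • y → ρ ⁅a, b⁆ = 1 + (c * d) • (x * y - y * x) := fun ha hb => by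
    rw [commutatorElement_def, map_mul, map_mul, map_mul, map_inv_of xx ha, map_inv_of yy hb, ha, hb]
    simp only [mul_add, add_mul, smul_mul_assoc, mul_smul_comm, mul_assoc, xx, yy, h1, h2, one_mul, mul_one, smul_zero, smul_add,
      zero_mul, mul_zero]
    module
  have k2 : ∀ {a c}, a ∈ Ax k ρ x → a ≠ 1 → c ∈ Ax k ρ (x * y - y * x) → ∃ b ∈ Ax k ρ y, ⁅a, b⁆ = c := fun ha h4 hc => by
    obtain ⟨s, ha⟩ := (mem_Ax xx).1 ha
    obtain ⟨t, hc⟩ := (mem_Ax (T.sq _ h3)).1 hc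
    obtain ⟨b, hb⟩ := T.ex y hy (s⁻¹ * t)
    exact ⟨b, (mem_Ax yy).2 ⟨_, hb⟩, T.inj (by rw [k1 ha hb, hc, mul_inv_cancel_left₀ (mt (T.eq_one_iff hx ha).2 h4)])⟩
  have k3 : ∀ {b c}, b ∈ Ax k ρ y → b ≠ 1 → c ∈ Ax k ρ (x * y - y * x) → ∃ a ∈ Ax k ρ x, ⁅a, b⁆ = c := fun hb h4 hc => by
    obtain ⟨s, hb⟩ := (mem_Ax yy).1 hb
    obtain ⟨t, hc⟩ := (mem_Ax (T.sq _ h3)).1 hc
    obtain ⟨a, ha⟩ := T.ex x hx (t * s⁻¹)
    exact ⟨a, (mem_Ax xx).2 ⟨_, ha⟩, T.inj (by rw [k1 ha hb, hc, inv_mul_cancel_right₀ (mt (T.eq_one_iff hy hb).2 h4)])⟩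
  have e : ⁅Ax k ρ x, Ax k ρ y⁆ = Ax k ρ (x * y - y * x) := le_antisymm (commutator_le.2 fun a ha b hb =>
    let ⟨_, ha⟩ := (mem_Ax xx).1 ha; let ⟨_, hb⟩ := (mem_Ax yy).1 hb; (mem_Ax (T.sq _ h3)).2 ⟨_, k1 ha hb⟩) fun c hc => by
      obtain ⟨a, ha⟩ := T.ex x hx 1
      obtain ⟨b, hb, rfl⟩ := k2 ((mem_Ax xx).2 ⟨_, ha⟩) (mt (T.eq_one_iff hx ha).1 one_ne_zero) hc
      exact commutator_mem_commutator ((mem_Ax xx).2 ⟨_, ha⟩) hb
  refine ⟨e, e ▸ ⟨_, h3, rfl⟩, fun hc ha => ?_, fun ha h4 hc => k2 ha h4 (e ▸ hc), fun ha h4 hc => k3 ha h4 (e ▸ hc)⟩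
  rw [e] at hc
  exact commutator_eq_bot_iff_le_centralizer.1 (Layer.commutator_eq_bot_symm (commutator_eq_bot_iff_le_centralizer.2 (le_centralizer_iff.1
    (sup_le (commutator_eq_bot_iff_le_centralizer.1 (T.comm hx h3 (by simp [mul_sub, sub_mul, mul_assoc, s, xx, h1])))
      (commutator_eq_bot_iff_le_centralizer.1 (T.comm hy h3 (by simp [mul_sub, sub_mul, mul_assoc, s, yy, h2]))))))) ha _ hc

theorem pr : PR (Ax k ρ '' X) := by
  refine ⟨?_, ?_, ?_, ?_⟩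
  · rintro _ ⟨x, hx, rfl⟩
    exact commutator_self_eq_bot_iff.1 (T.comm hx hx rfl)
  · rintro _ ⟨x, hx, rfl⟩ _ - b -
    exact ⟨_, T.cj b x hx, (cj_Ax (T.sq x hx) b).symm⟩
  · rintro _ ⟨x, hx, rfl⟩ _ ⟨y, hy, rfl⟩
    obtain ⟨l, h1, h2, h3⟩ := T.tri x hx y hy
    by_cases hl : l = 0
    · rw [hl, zero_smul] at h1 h2
      exact (h3 hl).imp (T.comm hx hy) fun h => .inr (T.cm hx hy h1 h2 h).2
    · exact .inr (.inl (T.rk hx hy (h1 ▸ smul_ne_zero hl (T.ne x hx))))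
  · rintro _ ⟨x, hx, rfl⟩
    obtain ⟨y, hy, h⟩ := T.ni x hx
    exact ⟨_, ⟨y, hy, rfl⟩, T.rk hx hy h⟩

theorem rs (hg : gn (Ax k ρ '' X) = ⊤) : RS (Ax k ρ '' X) :=
  ⟨T.pr.comm, fun A hA => let ⟨_, _, h⟩ := T.pr.ni A hA; let ⟨_, ha, h1⟩ := h.exists_ne_one; fun e => h1 (e.le ha), hg,
    fun _ hA g => T.pr.cj_mem hA (hg.ge (mem_top g)), fun A hA B hB => (T.pr.tri A hA B hB).imp_right (Or.imp_right cm_iff.2)⟩

theorem krs (hg : gn (Ax k ρ '' X) = ⊤) : IsKRootSubgroupSet k (Ax k ρ '' X) := by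
  refine ⟨T.rs hg, ?_⟩
  rintro _ ⟨x, hx, rfl⟩ _ ⟨y, hy, rfl⟩ h
  obtain ⟨l, h1, h2, h3⟩ := T.tri x hx y hy
  refine T.psl2 hx hy fun e => ?_
  have hl : l = 0 := by rw [h1, smul_eq_zero] at e; exact e.resolve_right (T.ne x hx)
  rw [hl, zero_smul] at h1 h2
  exact (h3 hl).elim (fun k => h.comm_ne_bot (T.comm hx hy k))
    fun k => (T.rs hg).not_rk_of_cm ⟨x, hx, rfl⟩ ⟨y, hy, rfl⟩ (T.cm hx hy h1 h2 k).2 h

theorem degenerate (hg : gn (Ax k ρ '' X) = ⊤) (h : ∀ x ∈ X, ∀ y ∈ X, x * y * x = 0 → x * y = y * x) :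
    IsDegenerateRootSet (Ax k ρ '' X) := by
  rintro _ ⟨x, hx, rfl⟩ _ ⟨y, hy, rfl⟩ H
  by_cases e : x * y * x = 0
  · exact (T.rs hg).ne_bot _ H.1 (T.comm hx hy (h x hx y hy e))
  · exact (T.rs hg).not_rk_of_cm ⟨x, hx, rfl⟩ ⟨y, hy, rfl⟩ (cm_iff.1 H) (T.rk hx hy e)

theorem cn2 (h : ∀ x ∈ X, ∀ y ∈ X, ∃ z ∈ X, x * z * x ≠ 0 ∧ y * z * y ≠ 0) : IsConnectedFamily (FAdj (Ax k ρ '' X)) (Ax k ρ '' X) := by
  rintro _ ⟨x, hx, rfl⟩ _ ⟨y, hy, rfl⟩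
  obtain ⟨z, hz, h1, h2⟩ := h x hx y hy
  exact .tail (.single ⟨⟨x, hx, rfl⟩, ⟨z, hz, rfl⟩, T.rk hx hz h1⟩) ⟨⟨z, hz, rfl⟩, ⟨y, hy, rfl⟩, (T.rk hy hz h2).symm⟩

theorem sub : TF k (ρ.comp (gn (Ax k ρ '' X)).subtype) X :=
  ⟨T.inj.comp (subtype_injective _), T.sq, T.ne, fun x hx c => let ⟨g, hg⟩ := T.ex x hx c
    ⟨⟨g, le_gn (Set.mem_image_of_mem _ hx) ((mem_Ax (T.sq x hx)).2 ⟨c, hg⟩)⟩, hg⟩, fun g => T.cj g, T.tri, T.ni⟩

theorem so_eq : so (Ax k ρ '' X) = Ax k (ρ.comp (gn (Ax k ρ '' X)).subtype) '' X := by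
  rw [so, Set.image_image]
  exact Set.image_congr fun x hx => Subgroup.ext fun g => by rw [mem_subgroupOf, mem_Ax (T.sq x hx), mem_Ax (T.sq x hx)]; rfl

theorem gn_sub : gn (Ax k (ρ.comp (gn (Ax k ρ '' X)).subtype) '' X) = ⊤ := T.so_eq ▸ T.pr.rs.generates

end TF

theorem cls_of_conn {S : Set (Subgroup G)} (hS : RS S) (hne : S.Nonempty) (h : IsConnectedFamily (FAdj S) S) : IsRootSubgroupClass S :=
  ⟨hS, hne, fun A hA B hB => Cn.exists_cj (h A hA B hB)⟩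

end Cfsg.Lib.Root
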