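import Cfsg.Agent.Lib.Root.Ex
import Cfsg.Agent.Lib.Linear.TvConj
import Cfsg.Agent.Lib.Invol.Basic

/-!
# Root involutions from root subgroups; the transvection subgroups of `SL`
-/

set_option autoImplicit false
set_option linter.unusedSectionVars false

namespace Cfsg.Lib.Root

open Subgroup Cfsg.Lib.Transfer Cfsg.Lib.Chev Cfsg.Lib.Chev.PreSys Cfsg.Lib.Linear Cfsg.Lib.Invol
open scoped commutatorElement

variable {k R G : Type*} [Field k] [Ring R] [Algebra k R] [Group G] {ρ : G →* R} {X : Set R} {x y : R} {a b g h : G}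

theorem sl2_odd [Finite k] [CharP k 2] {s t : k} (hs : s ≠ 0) (ht : t ≠ 0) : Odd (orderOf ((sl2 k).x true s * (sl2 k).x false t)) := by
  by_contra h
  have h2 : ∀ c : k, c + c = 0 := CharTwo.add_self_eq_zero
  obtain ⟨h1, h3, h4⟩ := exists_central_of_even (x := (sl2 k).x true s) (y := (sl2 k).x false t)
    (Subtype.ext (by show (_ : Matrix _ _ k) * _ = 1; simp [sl2_true, h2, Matrix.one_fin_two]))
    (Subtype.ext (by show (_ : Matrix _ _ k) * _ = 1; simp [sl2_false, h2, Matrix.one_fin_two])) (Nat.not_odd_iff_even.1 h)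
  generalize ((sl2 k).x true s * (sl2 k).x false t) ^ (orderOf ((sl2 k).x true s * (sl2 k).x false t) / 2) = z at h1 h3 h4
  have e1 : z.1 * !![1, s; 0, 1] = !![1, s; 0, 1] * z.1 := congrArg Subtype.val h3
  have e2 : z.1 * !![1, 0; t, 1] = !![1, 0; t, 1] * z.1 := congrArg Subtype.val h4
  have e3 := z.2
  have f1 := congrFun₂ e1 0 0
  have f2 := congrFun₂ e1 0 1
  have f3 := congrFun₂ e2 0 0
  simp [Matrix.mul_apply, Fin.sum_univ_two, hs, ht] at f1 f2 f3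
  rw [Matrix.det_fin_two, f1, mul_zero, sub_zero] at e3
  have f4 : z.1 0 0 = z.1 1 1 := mul_left_cancel₀ hs (by linear_combination f2)
  have f5 : z.1 1 1 = 1 := eq_one_of_pow_char (p := 2) (by rw [pow_two]; rwa [f4] at e3)
  have : z = 1 := Subtype.ext (by ext i j; fin_cases i <;> fin_cases j <;> simp [f1, f3, f4, f5])
  simp [this] at h1

namespace TF

variable (T : TF k ρ X)
include T

theorem exists_hom (hx : x ∈ X) (hy : y ∈ X) (h : x * y * x ≠ 0) (ha : a ∈ Ax k ρ x) (hb : b ∈ Ax k ρ y) (h1 : a ≠ 1) (h2 : b ≠ 1) :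
    ∃ (φ : Matrix.SpecialLinearGroup (Fin 2) k →* G) (s t : k), s ≠ 0 ∧ t ≠ 0 ∧ φ ((sl2 k).x true s * (sl2 k).x false t) = a * b := by
  obtain ⟨φ, -, -, h3, h4⟩ := T.psl2 hx hy h
  obtain ⟨_, h5, rfl⟩ := h3.ge ha
  obtain ⟨_, h6, rfl⟩ := h4.ge hb
  obtain ⟨s, rfl⟩ := mem_upper.1 h5
  obtain ⟨t, rfl⟩ := mem_lower.1 h6
  exact ⟨φ, s, t, fun e => h1 (by rw [e, x_zero, map_one]), fun e => h2 (by rw [e, x_zero, map_one]), map_mul _ _ _⟩

theorem mul_self [CharP k 2] (hx : x ∈ X) (ha : a ∈ Ax k ρ x) : a * a = 1 := T.inj (by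
  obtain ⟨c, h⟩ := (mem_Ax (T.sq x hx)).1 ha
  simp only [map_mul, map_one, h, mul_add, add_mul, smul_mul_assoc, mul_smul_comm, T.sq x hx, one_mul, mul_one, smul_zero, add_zero]
  rw [add_assoc, ← add_smul, CharTwo.add_self_eq_zero, zero_smul, add_zero])

theorem tri' [Finite k] [CharP k 2] (hg : gn (Ax k ρ '' X) = ⊤) (ha : a ∈ rootElements (Ax k ρ '' X))
    (hb : b ∈ rootElements (Ax k ρ '' X)) : a * b = b * a ∨ (Odd (orderOf (a * b)) ∧ (Nat.card k = 2 → (a * b) ^ 3 = 1)) ∨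
      (orderOf (a * b) = 4 ∧ (a * b) ^ 2 ∈ rootElements (Ax k ρ '' X)) := by
  obtain ⟨h1, _, ⟨x, hx, rfl⟩, ha⟩ := ha
  obtain ⟨h2, _, ⟨y, hy, rfl⟩, hb⟩ := hb
  by_cases h : x * y * x = 0
  · have hn := T.ni x hx
    rcases (T.rs hg).tri ⟨x, hx, rfl⟩ ⟨y, hy, rfl⟩ with H | H | H
    · exact .inl (comm_bot_iff.1 H a ha b hb)
    · obtain ⟨l, h3, h4, h5⟩ := T.tri x hx y hy
      have hl : l = 0 := by rw [h3, smul_eq_zero] at h; exact h.resolve_right (T.ne x hx)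
      rw [hl, zero_smul] at h4
      exact ((h5 hl).elim (fun k => H.comm_ne_bot (T.comm hx hy k))
        fun k => (T.rs hg).not_rk_of_cm ⟨x, hx, rfl⟩ ⟨y, hy, rfl⟩ (T.cm hx hy h h4 k).2 H).elim
    · by_cases e : a * b = b * a
      · exact .inl e
      have e1 : (a * b) ^ 2 = ⁅a, b⁆ := by
        rw [commutatorElement_def, inv_eq_of_mul_eq_one_right (T.mul_self hx ha), inv_eq_of_mul_eq_one_right (T.mul_self hy hb), pow_two,
          mul_assoc (a * b)]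
      have e2 : (a * b) ^ 2 ≠ 1 := e1 ▸ mt comm_eq_one.1 e
      obtain ⟨z, hz, e3⟩ := H.mem
      have e4 : (a * b) ^ 2 ∈ Ax k ρ z := by rw [e1, e3]; exact commutator_mem_commutator ha hb
      exact .inr (.inr ⟨orderOf_eq_prime_pow (p := 2) (n := 1) e2 (by
        rw [show 2 ^ (1 + 1) = 2 + 2 from rfl, pow_add, T.mul_self hz e4]), e2, _, ⟨z, hz, rfl⟩, e4⟩)
  · obtain ⟨φ, s, t, hs, ht, e⟩ := T.exists_hom hx hy h ha hb h1 h2
    refine .inr (.inl ⟨e ▸ (sl2_odd hs ht).of_dvd_nat (orderOf_map_dvd φ _), fun hk => ?_⟩)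
    have h3 : ∀ c : k, c ≠ 0 → c = 1 := fun c hc => by
      obtain ⟨d, -, hd⟩ := (Nat.card_eq_two_iff' (0 : k)).1 hk
      exact (hd c hc).trans (hd 1 one_ne_zero).symm
    rw [← e, ← map_pow, h3 s hs, h3 t ht, show ((sl2 k).x true 1 * (sl2 k).x false 1) ^ 3 = 1 from Subtype.ext ?_, map_one]
    rw [sl_coe_pow, sl_coe_mul, sl2_true, sl2_false, pow_three]
    simp only [Matrix.mul_fin_two, mul_one, one_mul, mul_zero, add_zero, zero_add, CharTwo.add_self_eq_zero]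
    exact Matrix.one_fin_two.symm

theorem ris [Finite k] [CharP k 2] (hg : gn (Ax k ρ '' X) = ⊤) : IsRootInvolutionSet (rootElements (Ax k ρ '' X)) := by
  refine ⟨?_, (T.rs hg).eq_top fun A hA a ha => ?_, ?_, fun a ha b hb => (T.tri' hg ha hb).imp_right (Or.imp_left And.left)⟩
  · rintro d ⟨h1, _, ⟨x, hx, rfl⟩, hd⟩
    exact orderOf_eq_prime (by rw [pow_two, T.mul_self hx hd]) h1
  · by_cases h : a = 1
    · exact h ▸ one_mem _
    · exact subset_closure ⟨h, A, hA, ha⟩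
  · rintro d ⟨h1, A, hA, hd⟩ g
    exact ⟨mt conj_eq_one_iff.1 h1, _, (T.rs hg).cj_mem hA g, mem_map_of_mem _ hd⟩

end TF

section SL

open Matrix

variable {ι : Type} [Fintype ι] [DecidableEq ι] {v w φ ψ : ι → k}

theorem vv_mul (v φ w ψ : ι → k) : vecMulVec v φ * vecMulVec w ψ = (φ ⬝ᵥ w) • vecMulVec v ψ := by
  rw [vecMulVec_mul_vecMulVec, vecMulVec_smul]

theorem vv_three (v φ w ψ : ι → k) : vecMulVec v φ * vecMulVec w ψ * vecMulVec v φ = (φ ⬝ᵥ w * ψ ⬝ᵥ v) • vecMulVec v φ := by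
  rw [vv_mul, smul_mul_assoc, vv_mul, smul_smul]

variable (ι k) in
/-- Square zero matrices of rank one. -/
def slX : Set (Matrix ι ι k) := {x | ∃ v φ, v ≠ 0 ∧ φ ≠ 0 ∧ φ ⬝ᵥ v = 0 ∧ x = vecMulVec v φ}

theorem exists_dot {φ : ι → k} (h : φ ≠ 0) : ∃ w, φ ⬝ᵥ w = 1 := let ⟨w, hw⟩ := exists_dotProduct_eq_one h; ⟨w, dotProduct_comm w φ ▸ hw⟩

theorem sl_tf : TF k (SpecialLinearGroup.coeMonoidHom (ι := ι)) (slX k ι) := by
  refine ⟨SpecialLinearGroup.coeMonoidHom_injective, ?_, ?_, ?_, ?_, ?_, ?_⟩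
  · rintro _ ⟨v, φ, -, -, h, rfl⟩
    rw [vv_mul, h, zero_smul]
  · rintro _ ⟨v, φ, h1, h2, -, rfl⟩
    exact vecMulVec_ne_zero h1 h2
  · rintro _ ⟨v, φ, -, -, h, rfl⟩ c
    exact ⟨slTv v (c • φ) (by simp [h]), by simp [vecMulVec_smul]⟩
  · rintro g _ ⟨v, φ, h1, h2, h, rfl⟩
    refine ⟨g.1 *ᵥ v, φ ᵥ* (g⁻¹).1, fun e => h1 ?_, fun e => h2 ?_, ?_, by rw [← vecMulVec_mul, ← mul_vecMulVec]; rfl⟩
    · rw [← one_mulVec v, ← sl_coe_inv_mul g, ← mulVec_mulVec, e, mulVec_zero]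
    · rw [← vecMul_one φ, ← sl_coe_inv_mul g, ← vecMul_vecMul, e, zero_vecMul]
    · rw [← dotProduct_mulVec, mulVec_mulVec, sl_coe_inv_mul, one_mulVec, h]
  · rintro _ ⟨v, φ, h1, h2, h, rfl⟩ _ ⟨w, ψ, h3, h4, h', rfl⟩
    refine ⟨_, vv_three .., by rw [vv_three, mul_comm], fun e => ?_⟩
    rw [vv_mul, vv_mul]
    by_cases e1 : φ ⬝ᵥ w = 0
    · by_cases e2 : ψ ⬝ᵥ v = 0
      · exact .inl (by simp [e1, e2])
      · exact .inr ⟨w, -(ψ ⬝ᵥ v) • φ, h3, smul_ne_zero (neg_ne_zero.2 e2) h2, by simp [e1], by simp [e1, vecMulVec_smul]⟩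
    · have e2 := (mul_eq_zero.1 e).resolve_left e1
      exact .inr ⟨v, (φ ⬝ᵥ w) • ψ, h1, smul_ne_zero e1 h4, by simp [e2], by simp [e2, vecMulVec_smul]⟩
  · rintro _ ⟨v, φ, h1, h2, h, rfl⟩
    obtain ⟨w, hw⟩ := exists_dot h2
    obtain ⟨ψ, hψ⟩ := exists_dotProduct_eq_one h1
    have e : (ψ - (ψ ⬝ᵥ w) • φ) ⬝ᵥ v = 1 := by simp [h, hψ]
    refine ⟨_, ⟨w, ψ - (ψ ⬝ᵥ w) • φ, fun e => by simp [e] at hw, fun k => by simp [k] at e, by simp [hw], rfl⟩, ?_⟩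
    rw [vv_three, hw, e, one_mul, one_smul]
    exact vecMulVec_ne_zero h1 h2

theorem single_mem {i j : ι} (h : i ≠ j) : single i j (1 : k) ∈ slX k ι :=
  ⟨_, _, by simp, by simp, by simp [h.symm], single_eq_vecMulVec i j 1⟩

theorem sl_gn : gn (Ax k (SpecialLinearGroup.coeMonoidHom (ι := ι)) '' slX k ι) = ⊤ :=
  sl_eq_top_of_transvection_mem _ fun i j h c => le_gn (Set.mem_image_of_mem _ (single_mem h))
    (subset_closure ⟨c, by rw [smul_single, smul_eq_mul, mul_one]; rfl⟩)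

theorem sl_conj (hι : 3 ≤ Fintype.card ι) {i j : ι} (h : i ≠ j) {x : Matrix ι ι k} (hx : x ∈ slX k ι) {c : k} (hc : c ≠ 0) :
    ∃ g : SpecialLinearGroup ι k, g.1 * single i j 1 * (g⁻¹).1 = c • x := by
  obtain ⟨v, φ, h1, h2, h3, rfl⟩ := hx
  obtain ⟨g, hg⟩ := isConj_iff.1 (IsTv.isConj_transvection hι (s := slTv v (c • φ) (by simp [h3])) (isTv_of_coe_eq rfl)
    (fun e => by simpa [h1, h2, hc] using congrArg Subtype.val e) h).symm
  have := congrArg Subtype.val hg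
  rw [sl_coe_mul, sl_coe_mul, coe_slTv, vecMulVec_smul, show (SpecialLinearGroup.transvection h (1 : k)).1 = 1 + single i j 1 from rfl,
    mul_add, add_mul, mul_one, sl_coe_mul_inv, add_right_inj] at this
  exact ⟨g, this⟩

theorem sl_eq (hι : 3 ≤ Fintype.card ι) {i j : ι} (h : i ≠ j) : {A | ∃ g : SpecialLinearGroup ι k, A = conjBy
    (closure {t : SpecialLinearGroup ι k | ∃ c : k, t.1 = transvection i j c}) g} = Ax k SpecialLinearGroup.coeMonoidHom '' slX k ι := by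
  have e : closure {t : SpecialLinearGroup ι k | ∃ c : k, t.1 = transvection i j c} =
      Ax k SpecialLinearGroup.coeMonoidHom (single i j (1 : k)) := by simp [Ax, transvection]
  rw [e]
  refine Set.ext fun A => ⟨?_, ?_⟩
  · rintro ⟨g, rfl⟩
    exact (sl_tf.rs sl_gn).cj_mem (Set.mem_image_of_mem _ (single_mem h)) g
  · rintro ⟨x, hx, rfl⟩
    obtain ⟨g, hg⟩ := sl_conj hι h hx one_ne_zero
    exact ⟨g, by rw [← one_smul k x, ← hg]; exact (cj_Ax (sl_tf.sq _ (single_mem h)) g).symm⟩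

theorem sl_eq' (hι : 3 ≤ Fintype.card ι) {i j : ι} (h : i ≠ j) : {t : SpecialLinearGroup ι k | ∃ c : k, c ≠ 0 ∧
    ∃ g : SpecialLinearGroup ι k, (g⁻¹ * t * g).1 = transvection i j c} = rootElements (Ax k SpecialLinearGroup.coeMonoidHom '' slX k ι) := by
  refine Set.ext fun t => ⟨?_, ?_⟩
  · rintro ⟨c, hc, g, hg⟩
    have e : SpecialLinearGroup.coeMonoidHom (g⁻¹ * t * g) = 1 + c • single i j 1 := hg.trans (by simp [transvection])
    refine ⟨fun k => hc ((sl_tf.eq_one_iff (single_mem h) e).1 (by simp [k])), _,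
      (sl_tf.rs sl_gn).cj_mem (Set.mem_image_of_mem _ (single_mem h)) g, mem_cj.2 (subset_closure ⟨c, e⟩)⟩
  · rintro ⟨h1, _, ⟨x, hx, rfl⟩, ht⟩
    obtain ⟨c, ht⟩ := (mem_Ax (sl_tf.sq _ hx)).1 ht
    obtain ⟨g, hg⟩ := sl_conj hι h hx (mt (sl_tf.eq_one_iff hx ht).2 h1)
    refine ⟨1, one_ne_zero, g, ?_⟩
    rw [sl_coe_mul, sl_coe_mul, show t.1 = _ from ht, ← hg, mul_add, add_mul, mul_one, sl_coe_inv_mul]
    simp only [mul_assoc, sl_coe_inv_mul, mul_one]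
    rw [← mul_assoc, sl_coe_inv_mul, one_mul, transvection]

end SL

end Cfsg.Lib.Root
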