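import Cfsg.Agent.Lib.Root.Ex
import Cfsg.Agent.Lib.Forms.Std

/-!
# Transvection and Siegel subgroups of isometry groups
-/

set_option autoImplicit false
set_option linter.unusedSectionVars false

namespace Cfsg.Lib.Root

open Subgroup Cfsg.Lib.Transfer Cfsg.Lib.Forms Module

variable {k F V G : Type*} [Field k] [Field F] [Algebra k F] [AddCommGroup V] [Module F V] [Module k V] [IsScalarTower k F V]
  [FiniteDimensional F V] [Group G]

section Rk1

variable {σ : F →+* F} {K : Kind σ} {D : Form K V} {π : G →* D.isom} {θ : F} {p r s t : V}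

variable (π) in
/-- The linear action. -/
def act : G →* End F V := LinearEquiv.automorphismGroup.toLinearMapMonoidHom.comp (D.isom.subtype.comp π)

theorem act_apply (g : G) (v : V) : act π g v = (π g).1 v := rfl

theorem act_inj (h : Function.Injective π) : Function.Injective (act π) := fun _ _ e =>
  h (Form.isom_ext fun v => LinearMap.congr_fun e v)

variable (D θ) in
/-- The map `v ↦ θ B(p, v) p`. -/
def tx (p : V) : End F V := (θ • D.B p).smulRight p

theorem tx_apply (v : V) : tx D θ p v = (θ * D.B p v) • p := rfl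

theorem tx_three : tx D θ p * tx D θ r * tx D θ p = (θ * θ * (D.B p r * D.B r p)) • tx D θ p := LinearMap.ext fun v => by
  simp only [End.mul_apply, tx_apply, D.B_smul_right, LinearMap.smul_apply, smul_smul]
  congr 1; ring

theorem tx_ne (hD : D.Nondeg) (hθ : θ ≠ 0) (hp : p ≠ 0) : tx D θ p ≠ 0 := fun e =>
  let ⟨v, hv⟩ := hD.exists_ne_zero hp; smul_ne_zero (mul_ne_zero hθ hv) hp (LinearMap.congr_fun e v)

theorem tx_three_ne (hD : D.Nondeg) (hθ : θ ≠ 0) (hp : p ≠ 0) (h : D.B p r ≠ 0) : tx D θ p * tx D θ r * tx D θ p ≠ 0 :=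
  tx_three (D := D) ▸ smul_ne_zero (mul_ne_zero (mul_ne_zero hθ hθ) (mul_ne_zero h (D.ne_zero_symm h))) (tx_ne hD hθ hp)

theorem tx_comm (h : D.B p r = 0) : tx D θ p * tx D θ r = tx D θ r * tx D θ p := LinearMap.ext fun v => by
  simp [tx_apply, h, D.eq_zero_symm h]

variable (D θ) in
/-- The nilpotent parts of the transvections. -/
def tX : Set (End F V) := tx D θ '' {p | p ≠ 0 ∧ D.Q p = 0}

theorem exists_partner (hD : D.Nondeg) (hθ : θ ≠ 0) (h1 : K.tr (θ * K.ε) = 0) (hp : p ≠ 0) (hp' : D.Q p = 0) (hr : r ≠ 0)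
    (hr' : D.Q r = 0) : ∃ z, D.Q z = 0 ∧ D.B p z ≠ 0 ∧ D.B r z ≠ 0 := by
  by_cases h : D.B p r = 0
  · obtain ⟨u, h2, h3⟩ : ∃ u, D.B p u ≠ 0 ∧ D.B r u ≠ 0 := by
      obtain ⟨u, hu⟩ := hD.exists_ne_zero hp
      obtain ⟨w, hw⟩ := hD.exists_ne_zero hr
      by_cases e : D.B r u = 0
      · by_cases e' : D.B p w = 0
        · exact ⟨u + w, by simpa [e'], by simpa [e]⟩
        · exact ⟨w, e', hw⟩
      · exact ⟨u, hu, e⟩
    obtain ⟨c, hc⟩ := D.exists_Q_add_smul_eq_zero hp' h2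
    exact ⟨_, hc, by simpa [D.B_self_of_Q hp'], by simpa [D.eq_zero_symm h]⟩
  · refine ⟨p + (θ * K.ε * (D.B p r)⁻¹) • r, by rw [D.Q_add_smul hr', hp', inv_mul_cancel_right₀ h, h1, add_zero], ?_, ?_⟩
    · simp [D.B_self_of_Q hp', h, hθ, K.ε_ne_zero]
    · simpa [D.B_self_of_Q hr'] using D.ne_zero_symm h

theorem tx_tf (hD : D.Nondeg) (hθ : θ ≠ 0) (hπ : Function.Injective π) (hex : ∀ p c h, D.Q p = 0 → D.rk1 p c h ∈ π.range)
    (h1 : ∀ c : k, K.tr (algebraMap k F c * θ * K.ε) = 0) (h2 : ∀ a : F, ∃ l : k, algebraMap k F l = θ * θ * (a * (K.ε * σ a))) :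
    TF k (act π) (tX D θ) := by
  refine ⟨act_inj hπ, ?_, ?_, ?_, ?_, ?_, ?_⟩
  · rintro _ ⟨p, hp, rfl⟩
    exact LinearMap.ext fun v => by simp [tx_apply, D.B_self_of_Q hp.2]
  · rintro _ ⟨p, hp, rfl⟩
    exact tx_ne hD hθ hp.1
  · rintro _ ⟨p, hp, rfl⟩ c
    obtain ⟨g, hg⟩ := hex p (algebraMap k F c * θ) (by rw [Form.IsRk1, h1, hp.2, mul_zero, add_zero]) hp.2
    exact ⟨g, LinearMap.ext fun v => by
      rw [act_apply, hg, D.rk1_apply, ← algebraMap_smul F c, LinearMap.add_apply, LinearMap.smul_apply, tx_apply, smul_smul, mul_assoc]; rfl⟩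
  · rintro g _ ⟨p, hp, rfl⟩
    exact ⟨(π g).1 p, ⟨by simpa using hp.1, by simpa using hp.2⟩, LinearMap.ext fun v => by
      simp [tx_apply, act_apply, Form.B_isom_left]⟩
  · rintro _ ⟨p, hp, rfl⟩ _ ⟨r, hr, rfl⟩
    obtain ⟨l, hl⟩ := h2 (D.B p r)
    rw [← D.symm] at hl
    refine ⟨l, by rw [tx_three, ← hl, algebraMap_smul], by rw [tx_three, mul_comm (D.B r p), ← hl, algebraMap_smul], fun e => .inl ?_⟩
    by_contra h
    refine tx_three_ne hD hθ hp.1 (fun k => h (tx_comm k)) ?_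
    rw [tx_three, ← hl, e, map_zero, zero_smul]
  · rintro _ ⟨p, hp, rfl⟩
    obtain ⟨r, hr⟩ := hD.exists_isHyp hp.2 hp.1
    exact ⟨_, ⟨r, ⟨hr.f_ne_zero, hr.Q_f⟩, rfl⟩, tx_three_ne hD hθ hp.1 (by rw [hr.B_ef]; exact one_ne_zero)⟩

theorem tx_deg (hD : D.Nondeg) (hθ : θ ≠ 0) : ∀ x ∈ tX D θ, ∀ y ∈ tX D θ, x * y * x = 0 → x * y = y * x := by
  rintro _ ⟨p, hp, rfl⟩ _ ⟨r, hr, rfl⟩ h
  exact tx_comm (by_contra fun k => tx_three_ne hD hθ hp.1 k h)

theorem tx_cn (hD : D.Nondeg) (hθ : θ ≠ 0) (h1 : K.tr (θ * K.ε) = 0) :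
    ∀ x ∈ tX D θ, ∀ y ∈ tX D θ, ∃ z ∈ tX D θ, x * z * x ≠ 0 ∧ y * z * y ≠ 0 := by
  rintro _ ⟨p, hp, rfl⟩ _ ⟨r, hr, rfl⟩
  obtain ⟨z, h2, h3, h4⟩ := exists_partner hD hθ h1 hp.1 hp.2 hr.1 hr.2
  exact ⟨_, ⟨z, ⟨fun e => h3 (by simp [e]), h2⟩, rfl⟩, tx_three_ne hD hθ hp.1 h3, tx_three_ne hD hθ hr.1 h4⟩

theorem tx_iff (hD : D.Nondeg) (hp : p ≠ 0) (hp' : D.Q p = 0) (h3 : ∀ c : F, K.tr (c * K.ε) = 0 → ∃ l : k, c = algebraMap k F l * θ)
    (g : G) : ((∀ v, ∃ c : F, (π g).1 v = v + c • p) ∧ ∀ v, D.B p v = 0 → (π g).1 v = v) ↔ ∃ c : k, act π g = 1 + c • tx D θ p := by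
  refine ⟨fun ⟨h1, h2⟩ => ?_, fun ⟨c, h⟩ => ?_⟩
  · obtain ⟨r, hr⟩ := hD.exists_isHyp hp' hp
    obtain ⟨c, hc⟩ := h1 r
    obtain ⟨l, rfl⟩ := h3 c (by
      have := Form.Q_isom (π g) r
      rwa [hc, D.Q_add_smul hp', hr.B_fe, add_eq_left] at this)
    refine ⟨l, LinearMap.ext fun v => ?_⟩
    have := h2 (v - D.B p v • r) (by simp [hr.B_ef])
    rw [map_sub, map_smul, hc, sub_eq_iff_eq_add] at this
    rw [act_apply, this, ← algebraMap_smul F l]
    simp only [LinearMap.add_apply, End.one_apply, LinearMap.smul_apply, tx_apply]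
    module
  · have : ∀ v, (π g).1 v = v + (algebraMap k F c * (θ * D.B p v)) • p := fun v => by
      rw [← act_apply, h, ← algebraMap_smul F c, LinearMap.add_apply, LinearMap.smul_apply, tx_apply, smul_smul]; rfl
    exact ⟨fun v => ⟨_, this v⟩, fun v hv => by simp [this, hv]⟩

end Rk1

section Siegel

variable {D : Form (quadKind F) V} {π : G →* D.isom} {p r s t u z : V}

variable (D) in
/-- The map `v ↦ B(p, v) r - B(r, v) p`. -/
def wx (p r : V) : End F V := (D.B p).smulRight r - (D.B r).smulRight p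

theorem wx_apply (v : V) : wx D p r v = D.B p v • r - D.B r v • p := rfl

theorem wx_swap : wx D r (-p) = wx D p r := LinearMap.ext fun v => by simp [wx_apply]; abel
theorem wx_neg : wx D r p = (-1 : F) • wx D p r := LinearMap.ext fun v => by simp [wx_apply]

theorem wx_three : wx D p r * wx D s t * wx D p r = (D.B p t * D.B r s - D.B p s * D.B r t) • wx D p r := LinearMap.ext fun v => by
  simp only [End.mul_apply, wx_apply, D.B_lin, LinearMap.smul_apply, quad_symm D s, quad_symm D t]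
  module

variable (D) in
/-- Singular lines. -/
structure SLn (p r : V) : Prop where
  p0 : D.Q p = 0
  r0 : D.Q r = 0
  pr : D.B p r = 0
  ne : wx D p r ≠ 0

variable (D) in
/-- The nilpotent parts of the Siegel elements. -/
def wX : Set (End F V) := {x | ∃ p r, SLn D p r ∧ x = wx D p r}

theorem SLn.mem (h : SLn D p r) : wx D p r ∈ wX D := ⟨p, r, h, rfl⟩
theorem SLn.pp (h : SLn D p r) : D.B p p = 0 := D.B_self_of_Q h.p0
theorem SLn.rr (h : SLn D p r) : D.B r r = 0 := D.B_self_of_Q h.r0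
theorem SLn.rp (h : SLn D p r) : D.B r p = 0 := D.eq_zero_symm h.pr
theorem SLn.swap (h : SLn D p r) : SLn D r (-p) := ⟨h.r0, by simp [h.p0], by simp [h.rp], by rw [wx_swap]; exact h.ne⟩
theorem SLn.symm (h : SLn D p r) : SLn D r p := ⟨h.r0, h.p0, h.rp, wx_neg (D := D) ▸ smul_ne_zero (by simp) h.ne⟩
theorem SLn.p_ne (h : SLn D p r) : p ≠ 0 := fun e => h.ne (LinearMap.ext fun v => by simp [wx_apply, e])
theorem SLn.not_mem (h : SLn D p r) : r ∉ F ∙ p := fun e => h.ne (by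
  obtain ⟨c, rfl⟩ := Submodule.mem_span_singleton.1 e
  exact LinearMap.ext fun v => by simp [wx_apply, smul_smul, mul_comm])

theorem SLn.Q_comb (h : SLn D p r) (a b : F) : D.Q (a • p + b • r) = 0 := by
  simp [quad_Q_add, quad_Q_smul, h.p0, h.r0, h.pr]

theorem wx_ne (hD : D.Nondeg) (hp : p ≠ 0) (h : r ∉ F ∙ p) : wx D p r ≠ 0 := fun e => h (by
  obtain ⟨v, hv⟩ := hD.exists_ne_zero hp
  have := LinearMap.congr_fun e v
  rw [wx_apply, LinearMap.zero_apply, sub_eq_zero] at this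
  exact Submodule.mem_span_singleton.2 ⟨(D.B p v)⁻¹ * D.B r v, by rw [← smul_smul, ← this, inv_smul_smul₀ hv]⟩)

theorem wx_tri (h : SLn D p r) (h' : SLn D s t) (hl : D.B p t * D.B r s - D.B p s * D.B r t = 0) (ha : D.B p s ≠ 0) :
    wx D p r * wx D s t = wx D s t * wx D p r ∨ wx D p r * wx D s t - wx D s t * wx D p r ∈ wX D := by
  have hd : D.B r t = D.B p t * D.B r s * (D.B p s)⁻¹ := by field_simp; linear_combination -hl
  have e : wx D p r * wx D s t - wx D s t * wx D p r =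
      wx D ((-(D.B r s * (D.B p s)⁻¹)) • p + (1 : F) • r) ((-D.B p t) • s + D.B p s • t) := LinearMap.ext fun v => by
    simp only [LinearMap.sub_apply, End.mul_apply, wx_apply, D.B_lin, quad_symm D s, quad_symm D t, RingHom.id_apply, map_sub, map_smul, hd,
      LinearMap.smul_apply, smul_eq_mul]
    match_scalars <;> field_simp <;> ring
  by_cases k : wx D p r * wx D s t - wx D s t * wx D p r = 0
  · exact .inl (sub_eq_zero.1 k)
  · refine .inr ⟨_, _, ⟨h.Q_comb _ _, h'.Q_comb _ _, ?_, e ▸ k⟩, e⟩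
    simp only [D.B_lin, RingHom.id_apply, hd]
    field_simp; ring

theorem SLn.exists_dual (hD : D.Nondeg) (h : SLn D p r) :
    ∃ s t, D.Q s = 0 ∧ D.Q t = 0 ∧ D.B s t = 0 ∧ D.B p s = 1 ∧ D.B r s = 0 ∧ D.B p t = 0 ∧ D.B r t = 1 := by
  obtain ⟨e, h1, h2⟩ := hD.exists_perp_B_eq' h.symm.not_mem 1
  obtain ⟨f, h3, h4⟩ := hD.exists_perp_B_eq' h.not_mem 1
  rw [D.mem_perp_span_singleton] at h1 h3
  obtain ⟨c, hc⟩ := D.exists_Q_add_smul_eq_zero (w := e) h.p0 (by simp [h2])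
  obtain ⟨d, hd⟩ := D.exists_Q_add_smul_eq_zero (w := f - D.B (e + c • p) f • p) h.r0 (by simp [h4, h.rp])
  exact ⟨_, _, hc, hd, by simp [quad_symm D e p, quad_symm D e r, h1, h2, h.pp, h.pr], by simp [h2, h.pp], by simp [h1, h.rp],
    by simp [h3, h.pp, h.pr], by simp [h4, h.rp, h.rr]⟩

theorem wx_tf (hD : D.Nondeg) (hπ : Function.Bijective π) : TF F (act π) (wX D) := by
  refine ⟨act_inj hπ.1, ?_, ?_, ?_, ?_, ?_, ?_⟩
  · rintro _ ⟨p, r, h, rfl⟩
    exact LinearMap.ext fun v => by simp [wx_apply, h.pp, h.rr, h.pr, h.rp]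
  · rintro _ ⟨p, r, h, rfl⟩
    exact h.ne
  · rintro _ ⟨p, r, h, rfl⟩ c
    obtain ⟨g, hg⟩ := hπ.2 (D.eich r (c • p) 0 (isEich_siegel h.p0 h.r0 h.pr c))
    exact ⟨g, LinearMap.ext fun v => by
      rw [act_apply, hg, D.eich_apply]
      simp only [LinearMap.add_apply, End.one_apply, LinearMap.smul_apply, wx_apply, D.B_lin, RingHom.id_apply, quadKind_ε]
      module⟩
  · rintro g _ ⟨p, r, h, rfl⟩
    have e : act π g * wx D p r * act π g⁻¹ = wx D ((π g).1 p) ((π g).1 r) := LinearMap.ext fun v => by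
      simp [wx_apply, act_apply, Form.B_isom_left]
    refine ⟨_, _, ⟨by simp [h.p0], by simp [h.r0], by simp [h.pr], fun k => h.ne ?_⟩, e⟩
    rw [← one_mul (wx D p r), ← mul_one (1 * _), ← rr (ρ := act π) g, mul_assoc, mul_assoc, ← mul_assoc (act π g), ← mul_assoc (_ * _), e, k]
    simp
  · rintro _ ⟨p, r, h, rfl⟩ _ ⟨s, t, h', rfl⟩
    refine ⟨_, wx_three, by rw [wx_three, quad_symm D s, quad_symm D t, quad_symm D s, quad_symm D t, mul_comm], fun e => ?_⟩
    by_cases a : D.B p s = 0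
    · by_cases b : D.B p t = 0
      · by_cases c : D.B r s = 0
        · by_cases d : D.B r t = 0
          · exact .inl (LinearMap.ext fun v => by simp [wx_apply, quad_symm D s, quad_symm D t, a, b, c, d])
          · simpa only [wx_swap] using wx_tri h.swap h'.swap (by simp [a, b]) d
        · simpa only [wx_swap] using wx_tri h.swap h' (by simp [a, b]) c
      · simpa only [wx_swap] using wx_tri h h'.swap (by simp only [D.B_lin]; linear_combination e) b
    · exact wx_tri h h' e a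
  · rintro _ ⟨p, r, h, rfl⟩
    obtain ⟨s, t, h1, h2, h3, h4, h5, h6, h7⟩ := h.exists_dual hD
    have e : wx D p r * wx D s t * wx D p r ≠ 0 := by simpa [wx_three, h4, h5, h6, h7] using h.ne
    exact ⟨_, ⟨s, t, ⟨h1, h2, h3, fun k => e (by simp [k])⟩, rfl⟩, e⟩

theorem wx_iff (hD : D.Nondeg) (h : SLn D p r) (g : G) :
    (∀ v, D.B p v = 0 → D.B r v = 0 → (π g).1 v = v) ↔ ∃ c : F, act π g = 1 + c • wx D p r := by
  refine ⟨fun h0 => ?_, fun ⟨c, e⟩ v h1 h2 => by rw [← act_apply, e]; simp [wx_apply, h1, h2]⟩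
  obtain ⟨s, t, h1, h2, h3, h4, h5, h6, h7⟩ := h.exists_dual hD
  have k : ∀ v, ∃ a b : F, (π g).1 v = v + (a • p + b • r) := fun v => by
    obtain ⟨a, b, e⟩ := Submodule.mem_span_pair.1 ((hD.perp_perp _).le (D.mem_perp.2 fun w hw => by
      rw [D.mem_perp_span_pair] at hw
      rw [D.B_sub_right, sub_eq_zero, ← Form.B_isom (π g) w v, h0 w hw.1 hw.2] : (π g).1 v - v ∈ D.perp (D.perp (.span F {p, r}))))
    exact ⟨a, b, by rw [e, add_sub_cancel]⟩
  obtain ⟨a, b, e1⟩ := k s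
  obtain ⟨c, d, e2⟩ := k t
  have f1 := Form.Q_isom (π g) s
  have f2 := Form.Q_isom (π g) t
  have f3 := Form.B_isom (π g) s t
  rw [e1, quad_Q_add, h.Q_comb] at f1
  rw [e2, quad_Q_add, h.Q_comb] at f2
  rw [e1, e2] at f3
  simp [quad_symm D s p, quad_symm D s r, quad_symm D t p, quad_symm D t r, h3, h4, h5, h6, h7, h.pp, h.pr, h.rp, h.rr] at f1 f2 f3
  refine ⟨b, LinearMap.ext fun v => ?_⟩
  have := h0 (v - D.B p v • s - D.B r v • t) (by simp [h4, h6]) (by simp [h5, h7])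
  rw [map_sub, map_sub, map_smul, map_smul, e1, e2, sub_sub, sub_eq_iff_eq_add, f1, f2, eq_neg_of_add_eq_zero_left f3] at this
  rw [act_apply, this]
  simp only [LinearMap.add_apply, End.one_apply, LinearMap.smul_apply, wx_apply]
  module

theorem exists_third (hD : D.Nondeg) (hT : D.HasTS 3) (hs : D.Q s = 0) (ht : D.Q t = 0) (h : D.B s t ≠ 0) (p : V) :
    ∃ z, D.Q z = 0 ∧ D.B s z = 0 ∧ D.B t z = 0 ∧ D.B p z = 0 ∧ z ∉ F ∙ p := by
  have H := Form.exists_isHyp_smul hs ht h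
  obtain ⟨U, hU, hU'⟩ := (H.hasTS_succ_iff hD).1 hT
  have k : ∀ z : D.hp s ((D.B s t)⁻¹ • t), z ∈ U → D.B p z = 0 → z.1 ∉ F ∙ p → ∃ z, D.Q z = 0 ∧ D.B s z = 0 ∧ D.B t z = 0 ∧ D.B p z = 0 ∧
      z ∉ F ∙ p := fun z hz h1 h2 => ⟨z, hU'.1 z hz, (D.mem_hp.1 z.2).1, by simpa [h] using (D.mem_hp.1 z.2).2, h1, h2⟩
  obtain ⟨z, hz, h0⟩ : ∃ z ∈ LinearMap.ker ((D.B p).comp ((D.hp s ((D.B s t)⁻¹ • t)).subtype.comp U.subtype)), z ≠ 0 :=
    Submodule.exists_mem_ne_zero_of_ne_bot (LinearMap.ker_ne_bot_of_finrank_lt (by simp [hU]))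
  by_cases e : z.1.1 ∈ F ∙ p
  · obtain ⟨c, hc⟩ := Submodule.mem_span_singleton.1 e
    have hc0 : c ≠ 0 := fun k => h0 (Subtype.ext (Subtype.ext (by simp [← hc, k])))
    obtain ⟨w, hw, h1⟩ : ∃ w ∈ U, w ∉ F ∙ z.1 := by
      by_contra! k
      have := (Submodule.finrank_mono k).trans (finrank_span_le_card {z.1})
      simp [hU] at this
    refine k w hw ?_ fun k => h1 ?_
    · have := hU'.2 z z.2 w hw
      rw [Form.restrict_B, ← hc, D.B_smul_left] at this
      exact (mul_eq_zero.1 this).resolve_left hc0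
    · obtain ⟨d, hd⟩ := Submodule.mem_span_singleton.1 k
      exact Submodule.mem_span_singleton.2 ⟨d * c⁻¹, Subtype.ext (by simp [← hc, ← hd, smul_smul, hc0])⟩
  · exact k z z.2 hz e

variable (hD : D.Nondeg) (hπ : Function.Bijective π)
include hD hπ

theorem cn_perp (h : SLn D p r) (h' : SLn D p s) (e : D.B r s = 0) :
    Cn (Ax F (act π) '' wX D) (Ax F (act π) (wx D p r)) (Ax F (act π) (wx D p s)) := by
  have T := wx_tf hD hπ
  by_cases h0 : s = r
  · exact h0 ▸ .refl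
  by_cases k : r ∈ Submodule.span F {p, s - r}
  · obtain ⟨a, b, k⟩ := Submodule.mem_span_pair.1 k
    have hb : b ≠ 0 := fun e => h.not_mem (Submodule.mem_span_singleton.2 ⟨a, by simpa [e] using k⟩)
    have e1 : s = b⁻¹ • ((1 + b) • r - a • p) := by rw [eq_inv_smul_iff₀ hb]; linear_combination (norm := module) k
    have e2 : wx D p s = (b⁻¹ * (1 + b)) • wx D p r := LinearMap.ext fun v => by
      simp only [e1, wx_apply, D.B_lin, LinearMap.smul_apply, RingHom.id_apply]; module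
    rw [e2, Ax_smul (T.sq _ h.mem) fun k => h'.ne (by rw [e2, k, zero_smul])]
  · obtain ⟨u, h1, h2⟩ := hD.exists_perp_B_eq' k 1
    rw [D.mem_perp_span_pair] at h1
    obtain ⟨c, hc⟩ := D.exists_Q_add_smul_eq_zero (w := u) h.r0 (by simp [h2])
    have h3 : D.B (s - r) r = 0 := by simp [h.rr, D.eq_zero_symm e]
    have h4 : wx D (u + c • r) (s - r) r = s - r := by rw [wx_apply, h3]; simp [quad_symm D u, h2, h.rr]
    have h5 : wx D (u + c • r) (s - r) p = 0 := by simp [wx_apply, quad_symm D u, h1.1, h.rp, h'.rp]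
    have H : SLn D (u + c • r) (s - r) := ⟨hc, by simp [quad_Q_sub, h.r0, h'.r0, D.eq_zero_symm e],
      by rw [quad_symm, D.B_add_right, D.B_smul_right, h1.2, h3]; simp, fun e => h0 (by
        rwa [e, LinearMap.zero_apply, eq_comm, sub_eq_zero] at h4)⟩
    obtain ⟨g, hg⟩ := T.ex _ H.mem 1
    have := T.pr.cn_cj (Set.mem_image_of_mem _ h.mem) (le_gn (Set.mem_image_of_mem _ H.mem) ((mem_Ax (T.sq _ H.mem)).2 ⟨1, hg⟩))
    rwa [cj_Ax (T.sq _ h.mem), show act π g * wx D p r * act π g⁻¹ = wx D (act π g p) (act π g r) from LinearMap.ext fun v => by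
      simp [wx_apply, act_apply, Form.B_isom_left], hg, one_smul, LinearMap.add_apply, LinearMap.add_apply, h4, h5, End.one_apply,
      End.one_apply, add_zero, add_sub_cancel] at this

theorem cn_pt (hT : D.HasTS 3) (h : SLn D p r) (h' : SLn D p s) :
    Cn (Ax F (act π) '' wX D) (Ax F (act π) (wx D p r)) (Ax F (act π) (wx D p s)) := by
  by_cases e : D.B r s = 0
  · exact cn_perp hD hπ h h' e
  · obtain ⟨z, h1, h2, h3, h4, h5⟩ := exists_third hD hT h.r0 h'.r0 e p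
    have H : SLn D p z := ⟨h.p0, h1, h4, wx_ne hD h.p_ne h5⟩
    exact (cn_perp hD hπ h H h2).trans (cn_perp hD hπ H h' (D.eq_zero_symm h3))

theorem wx_cn (hT : D.HasTS 3) : IsConnectedFamily (FAdj (Ax F (act π) '' wX D)) (Ax F (act π) '' wX D) := by
  rintro _ ⟨_, ⟨p, r, h, rfl⟩, rfl⟩ _ ⟨_, ⟨s, t, h', rfl⟩, rfl⟩
  have T := wx_tf hD hπ
  have k : ∀ {p r}, SLn D p r → Ax F (act π) (wx D r p) = Ax F (act π) (wx D p r) := fun h => by
    rw [wx_neg, Ax_smul (T.sq _ h.mem) (by simp)]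
  have k' : ∀ {p r s t}, SLn D p r → SLn D s t → D.B p s = 0 →
      Cn (Ax F (act π) '' wX D) (Ax F (act π) (wx D p r)) (Ax F (act π) (wx D s t)) := fun {p r s t} h h' e => by
    by_cases e' : s ∈ F ∙ p
    · obtain ⟨c, rfl⟩ := Submodule.mem_span_singleton.1 e'
      have hc : c ≠ 0 := fun k => h'.p_ne (by simp [k])
      have e2 : wx D (c • p) t = c • wx D p t := LinearMap.ext fun v => by
        simp only [wx_apply, D.B_lin, LinearMap.smul_apply, RingHom.id_apply]; module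
      have H : SLn D p t := ⟨h.p0, h'.r0, by simpa [hc] using h'.pr, fun k => h'.ne (by rw [e2, k, smul_zero])⟩
      rw [e2, Ax_smul (T.sq _ H.mem) hc]
      exact cn_pt hD hπ hT h H
    · have H : SLn D p s := ⟨h.p0, h'.p0, e, wx_ne hD h.p_ne e'⟩
      exact (cn_pt hD hπ hT h H).trans (k H ▸ cn_pt hD hπ hT H.symm h')
  by_cases e : D.B p s = 0
  · exact k' h h' e
  · obtain ⟨z, h1, h2, h3, -, h5⟩ := exists_third hD hT h.p0 h'.p0 e 0
    have H : SLn D p z := ⟨h.p0, h1, h2, wx_ne hD h.p_ne fun k => by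
      obtain ⟨c, rfl⟩ := Submodule.mem_span_singleton.1 k
      rw [D.B_smul_right, mul_eq_zero, or_iff_left (D.ne_zero_symm e)] at h3
      simp [h3] at h5⟩
    exact (cn_pt hD hπ hT h H).trans (k H ▸ k' H.symm h' (D.eq_zero_symm h3))

end Siegel

end Cfsg.Lib.Root
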