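import Cfsg.Prelude.Def_RootSubgroups
import Cfsg.Prelude.Def_QuasithinSetup
import Cfsg.Agent.Lib.Invol.Basic
import Cfsg.Agent.Lib.Core.Subnormal

/-!
# Root involutions: elementary theory
-/

set_option autoImplicit false
set_option linter.unusedSectionVars false

namespace Cfsg.Lib.RInv

open Subgroup Cfsg.Lib.Invol

variable {G : Type*} [Group G] {D : Set G} {a b c d e g h t u v w x y z : G}

/-- Different elements with product of odd order. -/
def Od (x y : G) : Prop := x ≠ y ∧ Odd (orderOf (x * y))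

theorem Od.symm (h : Od x y) : Od y x := ⟨h.1.symm, orderOf_mul_comm x y ▸ h.2⟩

theorem Od.conj (h : Od x y) (g : G) : Od (g * x * g⁻¹) (g * y * g⁻¹) :=
  ⟨fun e => h.1 (by simpa using e), by rw [conj_mul, orderOf_conj]; exact h.2⟩

theorem od_conj : Od (g * x * g⁻¹) (g * y * g⁻¹) ↔ Od x y :=
  ⟨fun h => by simpa [mul_assoc] using h.conj g⁻¹, fun h => h.conj g⟩

theorem not_od_self : ¬ Od x x := fun h => h.1 rfl

theorem eq_one_of_odd (h : Odd (orderOf g)) {k : ℕ} (h1 : g ^ 2 ^ k = 1) : g = 1 :=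
  orderOf_eq_one_iff.1 (Nat.eq_one_of_self_dvd_coprime h1 h)
where Nat.eq_one_of_self_dvd_coprime {g : G} {k : ℕ} (h1 : g ^ 2 ^ k = 1) (h : Odd (orderOf g)) : orderOf g = 1 :=
  Nat.Coprime.eq_one_of_dvd (Nat.Coprime.pow_right k (Nat.coprime_two_right.2 h)) (orderOf_dvd_of_pow_eq_one h1)

theorem odd_of_pow {n : ℕ} (hn : Odd n) (h : g ^ n = 1) : Odd (orderOf g) := hn.of_dvd_nat (orderOf_dvd_of_pow_eq_one h)

theorem pow_odd_of_sq (h : b * b = 1) {n : ℕ} (hn : Odd n) : b ^ n = b := by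
  obtain ⟨k, rfl⟩ := hn
  rw [pow_succ, pow_mul, pow_two, h, one_pow, one_mul]

theorem cn (h : x * x = 1) (y : G) : x * (x * y) = y := by rw [← mul_assoc, h, one_mul]

theorem sw (h : x * y = y * x) (z : G) : x * (y * z) = y * (x * z) := by rw [← mul_assoc, h, mul_assoc]

theorem Od.not_comm (h : Od x y) (hx : x * x = 1) (hy : y * y = 1) : x * y ≠ y * x := fun e =>
  h.1 (by
    have := eq_one_of_odd h.2 (k := 1) (by rw [pow_one, pow_two, mul_assoc, ← sw e, cn hx, hy])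
    rw [← cn hx y, this, mul_one])

/-- An element of odd order inverted by `a`. -/
theorem od_of_inv (ha : a * a = 1) (h1 : a * h * a = h⁻¹) (h2 : Odd (orderOf h)) (h3 : h ≠ 1) : Od a (h * a * h⁻¹) := by
  have e : a * (h * a * h⁻¹) = (h ^ 2)⁻¹ := by rw [← mul_assoc, ← mul_assoc, h1]; group
  refine ⟨fun e1 => h3 (eq_one_of_odd h2 (k := 1) ?_), ?_⟩
  · rw [← e1, ha, eq_comm, inv_eq_one] at e; simpa using e
  · rw [e, orderOf_inv]; exact h2.of_dvd_nat (orderOf_pow_dvd 2)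

/-- The middle involution. -/
theorem exists_mid (hx : x * x = 1) (hy : y * y = 1) (h : Odd (orderOf (x * y))) :
    ∃ k : ℕ, (x * y) ^ k * x * ((x * y) ^ k)⁻¹ * x * ((x * y) ^ k * x * ((x * y) ^ k)⁻¹) = y := by
  obtain ⟨m, hm⟩ := h
  have h1 : (x * y) ^ (2 * m + 1) = 1 := hm ▸ pow_orderOf_eq_one _
  have h2 := conj_of_odd_pow hx hy h1
  have h3 := left_inverts hx hy
  have h4 : x⁻¹ = x := inv_eq_of_mul_eq_one_right hx
  generalize x * y = r at *
  refine ⟨m * (m + 1), ?_⟩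
  have h5 : ∀ k : ℕ, x * (r ^ k)⁻¹ = r ^ k * x := fun k => by rw [← conj_pow_of_inv h3 k, h4]; simp [← mul_assoc, hx]
  have h6 : r ^ (m * (m + 1)) * r ^ (m * (m + 1)) = r ^ m := by
    rw [← pow_add, show m * (m + 1) + m * (m + 1) = (2 * m + 1) * m + m by ring, pow_add, pow_mul, h1, one_pow, one_mul]
  have h7 : r ^ (m * (m + 1)) * x * (r ^ (m * (m + 1)))⁻¹ = r ^ m * x := by rw [mul_assoc, h5, ← mul_assoc, h6]
  rw [h7, ← h2, mul_assoc (r ^ m) x x, hx, mul_one, mul_assoc (r ^ m) x, h5]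

theorem eq_bot_of_perfect {K : Subgroup G} (hK : ⁅K, K⁆ = K) (hH : Group.IsSolvable K) : K = ⊥ := by
  by_contra hne
  have := Subgroup.isPerfect_iff.2 hK
  have := (Subgroup.nontrivial_iff_ne_bot K).2 hne
  exact Group.IsPerfect.not_isSolvable K hH

/-- Sets of root involutions of the group they generate. -/
structure RI (D : Set G) : Prop where
  two : ∀ d ∈ D, orderOf d = 2
  cj : ∀ d ∈ D, ∀ e ∈ D, e * d * e⁻¹ ∈ D
  pair : ∀ a ∈ D, ∀ b ∈ D, a * b = b * a ∨ Odd (orderOf (a * b)) ∨ (orderOf (a * b) = 4 ∧ (a * b) ^ 2 ∈ D)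

theorem ri (h : IsRootInvolutionSet D) : RI D := ⟨h.1, fun d hd e _ => h.3 d hd e, h.4⟩

namespace RI

variable (hD : RI D)
include hD

theorem sq (h : d ∈ D) : d * d = 1 := mul_self_of_two (hD.two d h)
theorem ne (h : d ∈ D) : d ≠ 1 := ne_one_of_two (hD.two d h)
theorem inv (h : d ∈ D) : d⁻¹ = d := inv_of_two (hD.two d h)
theorem cj' (h : d ∈ D) (he : e ∈ D) : e * d * e ∈ D := by simpa only [hD.inv he] using hD.cj d h e he

theorem cjc (hg : g ∈ closure D) : ∀ {d}, d ∈ D → g * d * g⁻¹ ∈ D := by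
  induction hg using closure_induction'' with
  | mem x hx => exact fun h => hD.cj _ h x hx
  | inv_mem x hx => exact fun h => by simpa only [hD.inv hx] using hD.cj' h hx
  | one => simp
  | mul x y _ _ h1 h2 => exact fun h => by simpa only [mul_assoc, mul_inv_rev] using h1 (h2 h)

theorem inter (H : Subgroup G) : RI (D ∩ H) :=
  ⟨fun d h => hD.two d h.1, fun d h e he => ⟨hD.cj d h.1 e he.1, H.mul_mem (H.mul_mem he.2 h.2) (H.inv_mem he.2)⟩,
    fun a ha b hb => (hD.pair a ha.1 b hb.1).imp_right (Or.imp_right fun h => ⟨h.1, h.2, H.pow_mem (H.mul_mem ha.2 hb.2) 2⟩)⟩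

theorem nc (h : Od x y) (hx : x ∈ D) (hy : y ∈ D) : x * y ≠ y * x := h.not_comm (hD.sq hx) (hD.sq hy)

theorem no (hx : x ∈ D) (hy : y ∈ D) (h : x * y = y * x) : ¬ Od x y := fun k => hD.nc k hx hy h

theorem mem (hx : x ∈ D) (hy : y ∈ D) (h : ¬ Od x y) (h1 : x * y ≠ y * x) : orderOf (x * y) = 4 ∧ x * y * x * y ∈ D := by
  obtain h2 | h2 | h2 := hD.pair x hx y hy
  · exact absurd h2 h1
  · exact absurd ⟨fun e => h1 (by rw [e]), h2⟩ h
  · exact ⟨h2.1, by simpa only [pow_two, mul_assoc] using h2.2⟩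

theorem pow4 (hx : x ∈ D) (hy : y ∈ D) (h : ¬ Od x y) : (x * y) ^ 2 ^ 2 = 1 := by
  by_cases h1 : x * y = y * x
  · rw [show 2 ^ 2 = 2 * 2 from rfl, pow_mul, pow_two (x * y), mul_assoc, ← sw h1, cn (hD.sq hx), hD.sq hy, one_pow]
  · exact (orderOf_dvd_iff_pow_eq_one.1 (hD.mem hx hy h h1).1.dvd :)

theorem not_od_of_pow (hx : x ∈ D) {k : ℕ} (h : (x * y) ^ 2 ^ k = 1) : ¬ Od x y := fun h1 =>
  h1.1 (by rw [← cn (hD.sq hx) y, eq_one_of_odd h1.2 h, mul_one])

theorem not_od_of_four (hx : x ∈ D) (h : orderOf (x * y) = 4) : ¬ Od x y :=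
  hD.not_od_of_pow hx (k := 2) (orderOf_dvd_iff_pow_eq_one.1 h.dvd :)

theorem nc_of_four (hx : x ∈ D) (hy : y ∈ D) (h : orderOf (x * y) = 4) : x * y ≠ y * x := fun e => by
  have := orderOf_dvd_of_pow_eq_one (show (x * y) ^ 2 = 1 by rw [pow_two, mul_assoc, ← sw e, cn (hD.sq hx), hD.sq hy])
  rw [h] at this; omega

/-- `(xy)⁴ = 1` in symmetric form. -/
theorem four (hx : x ∈ D) (hy : y ∈ D) (h : ¬ Od x y) : x * y * x * y = y * x * y * x := by
  have := hD.pow4 hx hy h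
  rw [show 2 ^ 2 = 2 + 2 from rfl, pow_add, mul_eq_one_iff_eq_inv, pow_two, mul_inv_rev, mul_inv_rev, hD.inv hx, hD.inv hy] at this
  simpa only [mul_assoc] using this

theorem c1 (hx : x ∈ D) (hy : y ∈ D) (h : ¬ Od x y) : x * (x * y * x * y) = x * y * x * y * x := by
  rw [hD.four hx hy h, ← mul_assoc, ← mul_assoc, ← mul_assoc, mul_assoc _ x x, hD.sq hx, mul_one, hD.four hx hy h, mul_assoc _ x x,
    hD.sq hx, mul_one]

theorem c2 (hx : x ∈ D) (hy : y ∈ D) (h : ¬ Od x y) : y * (x * y * x * y) = x * y * x * y * y := by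
  rw [hD.four hx hy h]; exact hD.c1 hy hx fun k => h k.symm

theorem c3 (hx : x ∈ D) (hy : y ∈ D) (h : ¬ Od x y) : x * (y * x * y) = y * x * y * x := by
  simpa only [mul_assoc] using hD.four hx hy h

/-- Lemma K. -/
theorem K (ha : a ∈ D) (hz : z * z = 1) (hzb : z * b ∈ D) (h1 : b ≠ 1) (h2 : b * a = a * b) (h3 : b * z = z * b) : ¬ Od a z := fun h => by
  have hb : b * b = 1 := by have := hD.sq hzb; rwa [mul_assoc, sw h3, cn hz] at this
  have c : Commute (a * z) b := (Commute.mul_right h2 h3).symm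
  by_cases k : Od a (z * b)
  · have := c.mul_pow (orderOf (a * (z * b)) * orderOf (a * z))
    rw [mul_assoc, pow_mul, pow_orderOf_eq_one, one_pow, mul_comm, pow_mul, pow_orderOf_eq_one, one_pow, one_mul,
      pow_odd_of_sq hb (h.2.mul k.2)] at this
    exact h1 this.symm
  · have := hD.pow4 ha hzb k
    rw [← mul_assoc, c.mul_pow, show 2 ^ 2 = 2 * 2 from rfl, pow_mul b, pow_two b, hb, one_pow, mul_one] at this
    exact hD.not_od_of_pow ha (k := 2) this h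

theorem od_cj (hx : x ∈ D) (hy : y ∈ D) (h : Od x y) : Od x (y * x * y) := by
  have e : x * (y * x * y) = (x * y) ^ 2 := by rw [pow_two]; simp only [mul_assoc]
  refine ⟨fun e1 => ?_, e ▸ h.2.of_dvd_nat (orderOf_pow_dvd 2)⟩
  rw [← e1, hD.sq hx] at e
  exact hD.not_od_of_pow hx (k := 1) e.symm h

/-- Lemma L. -/
theorem L (ha : a ∈ D) (hb : b ∈ D) (hab : a * b ∈ D) (hx : x ∈ D) (h : Od a x) : Od b x ∨ Od (a * b) x := by
  by_contra k
  rw [not_or] at k
  have hc : a * b = b * a := by rw [← hD.inv hab, mul_inv_rev, hD.inv ha, hD.inv hb]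
  have h1 := (hD.od_cj hx ha h.symm).conj b
  have e : b * (a * x * a) * b⁻¹ = a * b * x * (a * b) := by rw [hD.inv hb]; simp only [mul_assoc, sw hc]
  rw [e, hD.inv hb] at h1
  have h4 := hD.c3 hx hb fun e => k.1 e.symm
  have h5 := hD.c3 hx hab fun e => k.2 e.symm
  generalize a * b = c at *
  by_cases h6 : c * x = x * c
  · refine hD.nc h1 (hD.cj' hx hb) (hD.cj' hx hab) ?_
    rw [h6, mul_assoc x, hD.sq hab, mul_one, h4]
  refine hD.K (hD.cj' hx hb) (hD.sq (hD.cj' hx hab)) (b := x) ?_ (hD.ne hx) h4 h5 h1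
  exact (hD.mem hab hx k.2 h6).2

theorem pc (ha : a ∈ D) (hb : b ∈ D) (hab : a * b ∈ D) : a * b = b * a := by
  rw [← hD.inv hab, mul_inv_rev, hD.inv ha, hD.inv hb]

theorem T_nc (ha : a ∈ D) (hy : y ∈ D) (h : Od a y) (hb : b ∈ D) (hab : a * b ∈ D) : y * b ≠ b * y := fun e =>
  hD.K hy (hD.sq ha) hab (hD.ne hb) e.symm (hD.pc ha hb hab).symm h.symm

theorem T_map (ha : a ∈ D) (hy : y ∈ D) (h : Od a y) (hb : b ∈ D) (hab : a * b ∈ D) (hn : ¬ Od b y) :
    y * b * y * b ∈ D ∧ y * (y * b * y * b) ∈ D ∧ ¬ Od (y * b * y * b) a := by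
  have h1 := (hD.mem hy hb (fun e => hn e.symm) (hD.T_nc ha hy h hb hab)).2
  refine ⟨h1, by simpa only [mul_assoc, cn (hD.sq hy)] using hD.cj' hy hb, fun k => ?_⟩
  exact hD.K ha (hD.sq h1) (b := b) (by simpa only [mul_assoc, hD.sq hb, mul_one] using hD.cj' hb hy) (hD.ne hb)
    (hD.pc ha hb hab).symm (hD.c2 hy hb fun e => hn e.symm) k.symm

theorem T_inj (ha : a ∈ D) (hy : y ∈ D) (h : Od a y) (hb : b ∈ D) (hab : a * b ∈ D) (hn : ¬ Od b y) (hc : c ∈ D) (hac : a * c ∈ D)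
    (e : y * b * y * b = y * c * y * c) : b = c := by
  have h1 := (hD.L ha hb hab hy h).resolve_left hn
  have h2 := hD.pc ha hb hab
  have h3 := hD.pc ha hc hac
  have h4 : b * c * y = y * (b * c) := by
    simp only [mul_assoc, mul_right_inj] at e
    rw [← cn (hD.sq hb) (y * (b * c)), ← mul_assoc y b c, ← mul_assoc b (y * b) c, e]
    simp only [mul_assoc, hD.sq hc, mul_one]
  have h5 : ¬ Od b c := fun k => hD.K hc (hD.sq hb) (h2 ▸ hab) (hD.ne ha) h3 h2 k.symm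
  by_contra h6
  by_cases h7 : b * c = c * b
  · refine hD.K hy (hD.sq hab) (b := b * c) (by simpa only [mul_assoc, cn (hD.sq hb)] using hac) (fun e => h6 ?_) h4 ?_ h1.symm
    · rw [← cn (hD.sq hb) c, e, mul_one]
    · rw [mul_assoc, sw h3.symm, sw h2.symm, ← h7]; simp only [mul_assoc]
  · refine hD.K hy (hD.sq hab) (b := b * c * b * c) ?_ (hD.ne (hD.mem hb hc h5 h7).2) ?_ ?_ h1.symm
    · simpa only [mul_assoc, cn (hD.sq hb), sw h3] using hD.cj' hab hc
    · rw [mul_assoc (b * c) b, mul_assoc, h4, ← mul_assoc, h4, mul_assoc]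
    · rw [← mul_assoc, mul_assoc a, hD.c1 hb hc h5]
      simp only [mul_assoc, ← h2, ← h3, sw h2.symm, sw h3.symm]

/-- The bijection lemma. -/
theorem exists_comm [Finite G] (ha : a ∈ D) (hy : y ∈ D) (h : Od a y) (hc : c ∈ D) (hyc : y * c ∈ D) (hn : ¬ Od c a) :
    ∃ b ∈ D, a * b ∈ D ∧ ¬ Od b y ∧ c = y * b * y * b := by
  let T : G → G → Set G := fun a y => {b | b ∈ D ∧ a * b ∈ D ∧ ¬ Od b y}
  have k1 : ∀ {a y}, a ∈ D → y ∈ D → Od a y → Set.MapsTo (fun b => y * b * y * b) (T a y) (T y a) := fun ha hy h b hb =>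
    hD.T_map ha hy h hb.1 hb.2.1 hb.2.2
  have k2 : ∀ {a y}, a ∈ D → y ∈ D → Od a y → Set.InjOn (fun b => y * b * y * b) (T a y) := fun ha hy h b hb c hc e =>
    hD.T_inj ha hy h hb.1 hb.2.1 hb.2.2 hc.1 hc.2.1 e
  obtain ⟨b, hb, e⟩ := Set.surj_on_of_inj_on_of_ncard_le (fun b _ => y * b * y * b) (k1 ha hy h)
    (fun _ _ h1 h2 => k2 ha hy h h1 h2) (Set.ncard_le_ncard_of_injOn _ (k1 hy ha h.symm) (k2 hy ha h.symm)) (Set.toFinite _) c
    (show c ∈ T y a from ⟨hc, hyc, hn⟩)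
  exact ⟨b, hb.1, hb.2.1, hb.2.2, e⟩

/-- The order three lemma. -/
theorem three (ha : a ∈ D) (hx : x ∈ D) (hab : a * b ∈ D) (hb : b ≠ 1) (h1 : a * b = b * a) (h2 : x * c = c * x)
    (h3 : a * c * a = c * b) (h4 : x * b * x = b * c) (h5 : b * c = c * b) : Od a x ∧ orderOf (a * x) = 3 := by
  have sa := hD.sq ha
  have sx := hD.sq hx
  have sb : b * b = 1 := by have := hD.sq hab; rwa [mul_assoc, sw h1.symm, cn sa] at this
  have sc : c * c = 1 := by
    have : x * b * x * (x * b * x) = 1 := by simp only [mul_assoc, cn sx, cn sb, sx]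
    rwa [h4, mul_assoc, sw h5.symm, cn sb] at this
  have e1 : a * c = c * (b * a) := by rw [← mul_assoc, ← h3, mul_assoc, sa, mul_one]
  have e2 : x * b = b * (c * x) := by rw [← mul_assoc, ← h4, mul_assoc, sx, mul_one]
  have k1 : a * x * b = c * (a * x) := by rw [mul_assoc, e2, sw h1, ← mul_assoc a c, e1, mul_assoc, sw h5, mul_assoc, cn sb]
  have k2 : a * x * c = c * b * (a * x) := by rw [mul_assoc, h2, ← mul_assoc, e1]; simp only [mul_assoc]
  have k3 : (a * x) ^ 3 * b = b * (a * x) ^ 3 := by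
    rw [pow_three']
    generalize a * x = r at *
    rw [mul_assoc, k1, mul_assoc r r, ← mul_assoc r c, k2]
    simp only [← mul_assoc]
    rw [k2, mul_assoc (c * b), k1, ← h5]
    simp only [mul_assoc, cn sc]
  have h6 : Od a x := by
    by_contra k
    have := hD.pow4 ha hx k
    rw [show 2 ^ 2 = 3 + 1 from rfl, pow_succ, mul_eq_one_iff_eq_inv] at this
    rw [this, inv_mul_eq_iff_eq_mul, ← mul_assoc, k1, mul_inv_cancel_right] at k3
    rw [← k3, h1, mul_assoc, sa, mul_one, left_eq_mul] at h3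
    exact hb h3
  refine ⟨h6, orderOf_eq_prime (by_contra fun k => ?_) fun e => h6.1 (by rw [← cn sa x, e, mul_one])⟩
  have h7 := od_of_inv sa (by simpa only [hD.inv ha] using conj_pow_of_inv (left_inverts sa sx) 3)
    (h6.2.of_dvd_nat (orderOf_pow_dvd 3)) k
  have h8 : (a * x) ^ 3 * a * ((a * x) ^ 3)⁻¹ ∈ D := hD.cjc (pow_mem (mul_mem (subset_closure ha) (subset_closure hx)) 3) ha
  refine hD.K h8 sa hab hb ?_ h1.symm h7.symm
  exact ((Commute.mul_left k3 h1).mul_left (Commute.inv_left k3)).symm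

theorem isPGroup_pair [Finite G] (hx : x ∈ D) (hy : y ∈ D) (h : ¬ Od x y) : IsPGroup 2 (closure {x, y}) := fun ⟨g, hg⟩ => by
  obtain ⟨k, rfl | rfl⟩ := (mem_closure_invols_iff (hD.sq hx) (hD.sq hy) g).1 hg
  · exact ⟨2, Subtype.ext (by simp only [SubgroupClass.coe_pow]; rw [← zpow_natCast, ← zpow_mul, mul_comm, zpow_mul, zpow_natCast,
      hD.pow4 hx hy h, one_zpow]; rfl)⟩
  · exact ⟨1, Subtype.ext (by
      simp only [pow_one, pow_two, coe_mul, mul_zpow_mul_self (left_inverts (hD.sq hx) (hD.sq hy)), hD.sq hx]; rfl)⟩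

/-- Baer–Suzuki for root involutions. -/
theorem mem_core [Finite G] {L : Subgroup G} (hx : x ∈ D) (h1 : x ∈ L) (h : ∀ g ∈ L, g * x * g⁻¹ ∈ D ∧ ¬ Od x (g * x * g⁻¹)) :
    x ∈ (pCore 2 L).map L.subtype :=
  Core.baer_suzuki_of_le Nat.prime_two (A := zpowers x) (zpowers_le_of_mem h1) (fun g hg => (hD.isPGroup_pair hx (h g hg).1 (h g hg).2).to_le (by
    rw [MonoidHom.map_zpowers]
    exact sup_le (zpowers_le_of_mem (subset_closure (by simp))) (zpowers_le_of_mem (subset_closure (by simp))))) (mem_zpowers x)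

theorem isPGroup_closure [Finite G] {S : Set G} (h1 : S ⊆ D) (h2 : ∀ x ∈ S, ∀ y ∈ S, y * x * y ∈ S) (h3 : ∀ x ∈ S, ∀ y ∈ S, ¬ Od x y) :
    IsPGroup 2 (closure S) := by
  have k : ∀ g ∈ closure S, ∀ x ∈ S, g * x * g⁻¹ ∈ S := fun g hg => by
    induction hg using closure_induction'' with
    | mem x hx => exact fun y h => by simpa only [hD.inv (h1 hx)] using h2 y h x hx
    | inv_mem x hx => exact fun y h => by simpa only [hD.inv (h1 hx)] using h2 y h x hx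
    | one => simp
    | mul x y _ _ h1 h2 => exact fun z h => by simpa only [mul_assoc, mul_inv_rev] using h1 _ (h2 z h)
  exact ((Core.isPGroup_pCore 2 (closure S)).map _).to_le ((closure_le _).2 fun x hx =>
    hD.mem_core (h1 hx) (subset_closure hx) fun g hg => ⟨h1 (k g hg x hx), h3 x hx _ (k g hg x hx)⟩)

theorem not_od_of_pgroup {P : Subgroup G} (hP : IsPGroup 2 P) (hx : x ∈ D) (h : x * y ∈ P) : ¬ Od x y :=
  let ⟨k, hk⟩ := hP ⟨_, h⟩
  hD.not_od_of_pow hx (k := k) (congrArg Subtype.val hk)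

theorem not_od_of_mem {P : Subgroup G} [P.Normal] (hP : IsPGroup 2 P) (hx : x ∈ D) (hy : y ∈ D) (h : x ∈ P) : ¬ Od x y := fun k =>
  hD.not_od_of_pgroup hP hx (mul_mem h (by simpa only [hD.inv hy] using Normal.conj_mem ‹_› x h y)) (hD.od_cj hx hy k)

theorem od_of_cent (hd : d ∈ D) (he : e ∈ D) (hx : x ∈ D) (h : ∀ y ∈ D, y * d = d * y → y * e = e * y) (h1 : Od e x) : Od d x := by
  by_contra k
  by_cases h2 : x * d = d * x
  · exact hD.nc h1 he hx (h x hx h2).symm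
  have h3 := (hD.mem hx hd (fun e => k e.symm) h2).2
  refine hD.K he (hD.sq hx) (b := x * d * x * d) (by simpa only [mul_assoc, cn (hD.sq hx)] using hD.cj' hx hd) (hD.ne h3)
    (h _ h3 (hD.c2 hx hd fun e => k e.symm).symm) (hD.c1 hx hd fun e => k e.symm).symm h1

theorem mid (hx : x ∈ D) (hy : y ∈ D) (h : Od x y) : ∃ g ∈ closure {x, y}, g * x * g⁻¹ ∈ D ∧ g * x * g⁻¹ * x * (g * x * g⁻¹) = y :=
  let ⟨k, hk⟩ := exists_mid (hD.sq hx) (hD.sq hy) h.2
  ⟨_, pow_mem (mul_mem (subset_closure (by simp)) (subset_closure (by simp))) k,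
    hD.cjc (pow_mem (mul_mem (subset_closure hx) (subset_closure hy)) k) hx, hk⟩

end RI

/-- Classes of root involutions without isolated vertices. -/
structure CL (D : Set G) : Prop extends RI D where
  cls : ∀ a ∈ D, ∀ b ∈ D, ∃ g ∈ closure D, g * a * g⁻¹ = b
  ni : ∀ a ∈ D, ∃ x ∈ D, Od a x

namespace CL

variable [Finite G] (hD : CL D)
include hD

theorem sub_symm (ha : a ∈ D) (hb : b ∈ D) (h : ∀ x ∈ D, Od a x → Od b x) (hx : x ∈ D) (h1 : Od b x) : Od a x := by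
  obtain ⟨g, hg, rfl⟩ := hD.cls a ha b hb
  have := Set.eq_of_subset_of_ncard_le (s := {x | x ∈ D ∧ Od a x}) (t := {x | x ∈ D ∧ Od (g * a * g⁻¹) x}) (fun x hx => ⟨hx.1, h x hx.1 hx.2⟩)
    (Set.ncard_le_ncard_of_injOn (fun x => g⁻¹ * x * g⁻¹⁻¹) (fun x hx => ⟨hD.cjc (inv_mem hg) hx.1, by
      simpa [mul_assoc] using hx.2.conj g⁻¹⟩) fun x _ y _ e => by simpa using e)
  exact (this.ge ⟨hx, h1⟩).2

theorem sub_comm (he : e ∈ D) (hy : y ∈ D) (hn : ¬ Od e y) (h1 : e * y ≠ y * e) (h : ∀ x ∈ D, Od (y * e * y) x → Od e x) (hx : x ∈ D) :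
    Od (e * y * e * y) x ↔ Od e x := by
  have h2 := (hD.mem he hy hn h1).2
  have k : ∀ x ∈ D, Od (e * y * e * y) x → Od e x := fun x hx h3 =>
    (hD.L h2 he (by rw [← hD.c1 he hy hn]; simpa only [mul_assoc, cn (hD.sq he)] using hD.cj' he hy) hx h3).elim id fun h4 =>
      h x hx (by rwa [← hD.c1 he hy hn, ← mul_assoc, ← mul_assoc, ← mul_assoc, hD.sq he, one_mul] at h4)
  exact ⟨k x hx, hD.sub_symm h2 he k hx⟩

theorem comm_of_same (he : e ∈ D) (hy : y ∈ D) (h : ∀ x ∈ D, Od y x ↔ Od e x) : e * y = y * e := by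
  by_contra h1
  let S := {u | u ∈ D ∧ ∀ x ∈ D, Od u x ↔ Od e x}
  have k0 : ∀ g ∈ closure D, ∀ u ∈ S, g * u * g⁻¹ ∈ S → ∀ v ∈ S, g * v * g⁻¹ ∈ S := fun g hg u hu h1 v hv =>
    ⟨hD.cjc hg hv.1, fun x hx => by
      have := hD.cjc (inv_mem hg) hx
      rw [← h1.2 x hx, ← od_conj (g := g⁻¹), ← od_conj (g := g⁻¹) (x := g * u * g⁻¹)]
      simpa only [mul_assoc, inv_mul_cancel_left, inv_inv, inv_mul_cancel, mul_one] using (hv.2 _ this).trans (hu.2 _ this).symm⟩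
  have k1 : ∀ u ∈ S, ∀ v ∈ S, v * u * v ∈ S := fun u hu v hv => by
    simpa only [hD.inv hv.1] using k0 v (subset_closure hv.1) v hv (by simpa using hv) u hu
  have k2 : ∀ u ∈ S, ∀ v ∈ S, ¬ Od u v := fun u hu v hv k => not_od_self ((hv.2 v hv.1).2 ((hu.2 v hv.1).1 k))
  have hP := hD.isPGroup_closure (fun u hu => hu.1) k1 k2
  have h2 : e ∈ S := ⟨he, fun _ _ => Iff.rfl⟩
  have h3 : y ∈ S := ⟨hy, h⟩
  have h4 : e * y * e * y ∈ S := ⟨(hD.mem he hy (k2 _ h2 _ h3) h1).2, fun x hx =>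
    hD.sub_comm he hy (k2 _ h2 _ h3) h1 (fun x hx => ((k1 _ h2 _ h3).2 x hx).1) hx⟩
  have := Fact.mk Nat.prime_two
  have := hP.isNilpotent
  refine hD.ne he (mem_bot.1 (eq_bot_of_perfect (K := closure S) ((commutator_le_self _).antisymm
    ((closure_le _).2 fun u hu => ?_)) inferInstance ▸ subset_closure h2))
  obtain ⟨g, hg, rfl⟩ := hD.cls _ h4.1 u hu.1
  have h6 := k0 g hg _ h4 hu
  simpa only [commutatorElement_def, mul_inv_rev, inv_inv, hD.inv he, hD.inv hy, mul_assoc, inv_mul_cancel_left, SetLike.mem_coe]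
    using commutator_mem_commutator (subset_closure (h6 _ h2)) (subset_closure (h6 _ h3))

theorem cent_of_same (hd : d ∈ D) (he : e ∈ D) (h : ∀ x ∈ D, Od d x ↔ Od e x) (hy : y ∈ D) (h1 : y * d = d * y) : y * e = e * y := by
  by_contra h2
  have h3 : ¬ Od e y := fun k => hD.no hd hy h1.symm ((h y hy).2 k)
  have h4 := (hD.mem he hy h3 (Ne.symm h2)).2
  have h5 := fun x (hx : x ∈ D) => hD.sub_comm he hy h3 (Ne.symm h2) (fun x hx k => (h x hx).1 (by
    have := (h _ (hD.cj' hx hy)).2 (by simpa only [mul_assoc, hD.inv hy, cn (hD.sq hy), hD.sq hy, mul_one] using k.conj y)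
    simpa only [mul_assoc, hD.inv hy, cn (hD.sq hy), hD.sq hy, mul_one, ← h1] using this.conj y)) hx
  have c1 := hD.c1 he hy h3
  have c2 := hD.c2 he hy h3
  have e0 : y * e = e * y * e * y * (e * y) := by
    rw [hD.four he hy h3]; simp only [mul_assoc, cn (hD.sq he), hD.sq hy, mul_one]
  have h6 : e * y * e * y * y ∈ D := by simpa only [mul_assoc, hD.sq hy, mul_one] using hD.cj' hy he
  generalize e * y * e * y = z at *
  by_cases h7 : ∀ x ∈ D, Od z x → Od y x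
  · exact h2 (hD.comm_of_same he hy fun x hx => ⟨fun k => (h5 x hx).1 (hD.sub_symm h4 hy h7 hx k), fun k => h7 x hx ((h5 x hx).2 k)⟩).symm
  push Not at h7
  obtain ⟨x, hx, h8, h9⟩ := h7
  obtain ⟨c, hc, -, h10, e1⟩ := hD.exists_comm hx h4 h8.symm hy h6 h9
  have h11 : ¬ Od e c := fun k => h10 ((h5 c hc).2 k).symm
  have c3 : Commute c y := e1 ▸ hD.c2 h4 hc fun k => h10 k.symm
  have c4 : Commute c (e * c * e * c) := hD.c2 he hc h11
  have c5 : Commute (c * e * c) (c * z * c) := by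
    simpa only [hD.inv hc] using (show Commute e z from c1).conj c
  have e2 : c * z * c = z * y := by rw [e1]; simp only [mul_assoc, cn (hD.sq h4)]
  have e3 : c * e * c = e * (e * c * e * c) := by simp only [mul_assoc, cn (hD.sq he)]
  rw [e2, e3] at c5
  generalize e * c * e * c = w at *
  have e4 : z = w⁻¹ * (y * w * y) := by
    have := c5.eq
    rw [mul_assoc z y, ← mul_assoc y, e0, mul_assoc z, cn (hD.sq h4), mul_assoc, mul_assoc, mul_right_inj] at this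
    rw [← this]; simp only [mul_assoc, hD.sq hy, mul_one, inv_mul_cancel_left]
  have c6 : c * z = z * c := e4 ▸ c4.inv_right.mul_right ((c3.mul_right c4).mul_right c3)
  rw [mul_assoc, mul_assoc, ← mul_assoc c, c6, mul_assoc, hD.sq hc, mul_one, hD.sq h4] at e1
  exact hD.ne hy e1

theorem exists_sep (ha : a ∈ D) (hb : b ∈ D) (hy : y ∈ D) (h : ¬ (y * a = a * y ↔ y * b = b * y)) : ∃ x ∈ D, Od a x ∧ ¬ Od b x := by
  by_contra! k
  have k' := fun x (hx : x ∈ D) => Iff.intro (k x hx) (hD.sub_symm ha hb k hx)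
  exact h ⟨hD.cent_of_same ha hb k' hy, hD.cent_of_same hb ha (fun x hx => (k' x hx).symm) hy⟩

theorem exists_c (ha : a ∈ D) (hb : b ∈ D) (hab : a * b ∈ D) (hx : x ∈ D) (h1 : Od a x) (h2 : ¬ Od b x) :
    ∃ c ∈ D, ¬ Od a c ∧ b = a * c * a * c :=
  let ⟨c, hc, _, h3, e⟩ := hD.exists_comm hx ha h1.symm hb hab h2
  ⟨c, hc, fun k => h3 k.symm, e⟩

theorem exists_three (ha : a ∈ D) (hb : b ∈ D) (hc : c ∈ D) (hn : ¬ Od a c) (e : b = a * c * a * c) :
    ∃ x ∈ D, ¬ Od b x ∧ c = b * x * b * x ∧ Od a x ∧ orderOf (a * x) = 3 := by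
  have h1 : a * b = b * a := e ▸ hD.c1 ha hc hn
  have h2 : c * b = b * c := e ▸ hD.c2 ha hc hn
  have h3 : b * c = a * c * a := by rw [e, mul_assoc, hD.sq hc, mul_one]
  obtain ⟨u, hu, h4, h5⟩ := hD.exists_sep hb hc ha fun k => hD.ne hb (by
    rw [e, k.1 h1, mul_assoc, mul_assoc, cn (hD.sq ha), hD.sq hc])
  obtain ⟨x, hx, h6, e1⟩ := hD.exists_c hb hc (h3 ▸ hD.cj' hc ha) hu h4 h5
  exact ⟨x, hx, h6, e1, hD.three ha hx (by simpa only [e, mul_assoc, cn (hD.sq ha)] using hD.cj' ha hc) (hD.ne hb) h1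
    (e1 ▸ hD.c2 hb hx h6) (h3.symm.trans h2.symm) (by rw [e1]; simp only [mul_assoc, cn (hD.sq hb)]) h2.symm⟩

theorem exists_three' (ha : a ∈ D) (hb : b ∈ D) (hab : a * b ∈ D) (hy : y ∈ D) (h : ¬ (y * a = a * y ↔ y * b = b * y)) :
    ∃ x ∈ D, ¬ Od b x ∧ b * x ≠ x * b ∧ Od a x ∧ orderOf (a * x) = 3 := by
  obtain ⟨u, hu, h4, h5⟩ := hD.exists_sep ha hb hy h
  obtain ⟨c, hc, h6, e1⟩ := hD.exists_c ha hb hab hu h4 h5
  obtain ⟨x, hx, h7, e, h8⟩ := hD.exists_three ha hb hc h6 e1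
  exact ⟨x, hx, h7, fun k => hD.ne hc (by rw [e, k, mul_assoc, mul_assoc, cn (hD.sq hb), hD.sq hx]), h8⟩

end CL

theorem odAdj : OddAdj D a b ↔ a ∈ D ∧ b ∈ D ∧ Od a b := Iff.rfl

theorem isolated_iff : IsIsolatedElem (OddAdj D) D w ↔ w ∈ D ∧ ∀ x ∈ D, ¬ Od w x :=
  and_congr_right fun hw => ⟨fun h x hx k => (h x).1 ⟨hw, hx, k⟩,
    fun h x => ⟨fun k => h x k.2.1 k.2.2, fun k => h x k.1 (Od.symm k.2.2)⟩⟩

theorem oc_symm (h : Relation.ReflTransGen (OddAdj D) a b) : Relation.ReflTransGen (OddAdj D) b a := by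
  induction h with
  | refl => rfl
  | tail _ h ih => exact ih.head ⟨h.2.1, h.1, Od.symm h.2.2⟩

theorem RI.cj_of_oc (hD : RI D) (h : Relation.ReflTransGen (OddAdj D) a b) : ∃ g ∈ closure D, g * a * g⁻¹ = b := by
  induction h with
  | refl => exact ⟨1, one_mem _, by simp⟩
  | tail _ h ih =>
    obtain ⟨g, hg, rfl⟩ := ih
    obtain ⟨m, hm⟩ := exists_conj_of_odd (hD.sq h.1) (hD.sq h.2.1) h.2.2.2
    exact ⟨_, mul_mem (pow_mem (mul_mem (subset_closure h.1) (subset_closure h.2.1)) m) hg, by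
      simpa only [mul_assoc, mul_inv_rev] using hm⟩

theorem RI.cl_of_conn (hD : RI D) (hc : IsConnectedSet (OddAdj D) D) (ha : a ∈ D) (hb : b ∈ D) (hab : a ≠ b) : CL D :=
  { hD with
    cls := fun a ha b hb => hD.cj_of_oc (hc a ha b hb)
    ni := fun c hc' => by
      obtain ⟨d, hd, h⟩ : ∃ d ∈ D, c ≠ d := by
        by_cases e : c = a
        exacts [⟨b, hb, e ▸ hab⟩, ⟨a, ha, e⟩]
      obtain e | ⟨x, hx, -⟩ := (hc c hc' d hd).cases_head
      exacts [absurd e h, ⟨x, hx.2.1, hx.2.2⟩] }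

theorem RI.cl_of_cls (hD : RI D) (hc : ∀ a ∈ D, ∀ b ∈ D, ∃ g ∈ closure D, g * a * g⁻¹ = b) (ha : a ∈ D) (hb : b ∈ D) (h : Od a b) :
    CL D :=
  { hD with
    cls := hc
    ni := fun c hc' => let ⟨g, hg, e⟩ := hc a ha c hc'; ⟨_, hD.cjc hg hb, e ▸ h.conj g⟩ }

theorem cl_of_class (hD : IsRootInvolutionClass D) (ha : a ∈ D) (hb : b ∈ D) (h : Od a b) : CL D :=
  (ri hD.1).cl_of_cls (fun a ha b hb => let ⟨g, e⟩ := hD.2.2 a ha b hb; ⟨g, hD.1.2.ge (mem_top g), e.symm⟩) ha hb h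

theorem RI.oc_of_prod (hD : RI D) (ha : a ∈ D) (he : e ∈ D) (hae : a * e ∈ D) (hx : x ∈ D) (h : Od a x) (hy : y ∈ D) (h1 : Od e y) :
    Relation.ReflTransGen (OddAdj D) a e := by
  have k : Relation.ReflTransGen (OddAdj D) a x := .single ⟨ha, hx, h⟩
  obtain h2 | h2 := hD.L ha he hae hx h
  · exact k.tail ⟨hx, he, h2.symm⟩
  obtain h3 | h3 := hD.L he ha (hD.pc ha he hae ▸ hae) hy h1
  · exact .tail (.single ⟨ha, hy, h3⟩) ⟨hy, he, h1.symm⟩
  · exact ((k.tail ⟨hx, hae, h2.symm⟩).tail ⟨hae, hy, hD.pc ha he hae ▸ h3⟩).tail ⟨hy, he, h1.symm⟩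

theorem same_iff : e ∈ sameCommutingClass D d ↔ e ∈ D ∧ ∀ y ∈ D, y * d = d * y ↔ y * e = e * y :=
  and_congr_right fun _ => Set.ext_iff.trans (forall_congr' fun _ => and_congr_right_iff)

theorem exists_four (h : (D ∩ commutingProducts D).Nonempty) : ∃ a ∈ D, ∃ b ∈ D, a * b ∈ D :=
  let ⟨_, h1, a, ha, b, hb, _, _, e⟩ := h
  ⟨a, ha, b, hb, e ▸ h1⟩

theorem CL.exists_prod (hD : CL D) (h : ∃ a ∈ D, ∃ b ∈ D, a * b ∈ D) (hd : d ∈ D) : ∃ b ∈ D, d * b ∈ D := by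
  obtain ⟨a, ha, b, hb, hab⟩ := h
  obtain ⟨g, hg, rfl⟩ := hD.cls a ha d hd
  exact ⟨_, hD.cjc hg hb, by rw [conj_mul]; exact hD.cjc hg hab⟩

/-- Proper normal subgroups are central modulo `O₂`. -/
theorem CL.le_twoZCore [Finite G] (hD : CL D) (hG : closure D = ⊤) (h : ∃ a ∈ D, ∃ b ∈ D, a * b ∈ D) {N : Subgroup G} [hN : N.Normal]
    (hne : N ≠ ⊤) : N ≤ twoZCore G := by
  have h0 : ∀ d ∈ D, d ∉ N := fun d hd k => hne (eq_top_iff.2 (hG ▸ (closure_le _).2 fun e he => by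
    obtain ⟨g, -, rfl⟩ := hD.cls d hd e he
    exact hN.conj_mem d k g))
  have h1 : ∀ x ∈ D, ∀ y ∈ D, ∀ z ∈ D, (x : G ⧸ N) * y = z → ¬ Od x y := fun x hx y hy z hz e k => by
    have h2 : ((z : G ⧸ N)) ^ orderOf (x * y) = 1 := by rw [← e, ← QuotientGroup.mk_mul, ← QuotientGroup.mk_pow, pow_orderOf_eq_one]; rfl
    rw [← QuotientGroup.mk_pow, pow_odd_of_sq (hD.sq hz) k.2, QuotientGroup.eq_one_iff] at h2
    exact h0 z hz h2
  have h2 : ∀ x ∈ D, ∀ y ∈ D, (x : G ⧸ N) = y → x * y = y * x := fun x hx y hy e => by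
    obtain ⟨b, hb, h3⟩ := hD.exists_prod h hx
    have s : (x : G ⧸ N) * x = 1 := by rw [← QuotientGroup.mk_mul, hD.sq hx]; rfl
    have h4 : ¬ Od x y := fun k => (hD.L hx hb h3 hy k).elim
      (h1 b hb y hy _ h3 (by rw [← e, ← QuotientGroup.mk_mul, hD.pc hx hb h3]))
      (h1 _ h3 y hy b hb (by rw [← e, hD.pc hx hb h3, QuotientGroup.mk_mul, mul_assoc, s, mul_one]))
    by_contra k
    refine h0 _ (hD.mem hx hy h4 k).2 ((QuotientGroup.eq_one_iff _).1 ?_)
    simp only [QuotientGroup.mk_mul, ← e, s, one_mul]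
  intro n hn
  rw [twoZCore, mem_comap, mem_center_iff]
  intro g
  obtain ⟨g, rfl⟩ := QuotientGroup.mk_surjective g
  have hg : g ∈ closure D := hG.ge (mem_top g)
  induction hg using closure_induction with
  | one => simp
  | mul x y _ _ h1 h2 => exact Commute.mul_left h1 h2
  | inv x _ h1 => exact Commute.inv_left h1
  | mem d hd =>
    let S := {y | y ∈ D ∧ (y : G ⧸ N) = d}
    have k0 : ∀ g ∈ N, ∀ y ∈ S, g * y * g⁻¹ ∈ S := fun g hg y hy => ⟨hD.cjc (hG.ge (mem_top g)) hy.1, by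
      simp only [QuotientGroup.mk_mul, QuotientGroup.mk_inv, (QuotientGroup.eq_one_iff g).2 hg, hy.2, one_mul, inv_one, mul_one]⟩
    have k1 := hD.isPGroup_closure (S := S) (fun _ h => h.1) (fun x hx y hy => by
      rw [← h2 x hx.1 y hy.1 (hx.2.trans hy.2.symm), mul_assoc, hD.sq hy.1, mul_one]; exact hx)
      fun x hx y hy => hD.no hx.1 hy.1 (h2 x hx.1 y hy.1 (hx.2.trans hy.2.symm))
    have k2 : ((closure S ⊓ N).subgroupOf N).Normal := ⟨fun x hx g => ⟨?_, (g * x * g⁻¹).2⟩⟩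
    · have k3 : (closure S ⊓ N).subgroupOf N ≤ pCore 2 N := Core.le_pCore ((k1.to_inf_left).comap_subtype)
      have := Core.pCore_characteristic 2 N
      have k4 : (pCore 2 N).map N.subtype ≤ pCore 2 G := Core.le_pCore ((Core.isPGroup_pCore 2 N).map _)
      have k5 : (d * n)⁻¹ * (n * d) ∈ N := by
        simpa only [mul_inv_rev, mul_assoc, inv_inv] using mul_mem (inv_mem hn) (hN.conj_mem n hn d⁻¹)
      refine QuotientGroup.eq.2 (k4 ⟨⟨_, k5⟩, k3 ⟨?_, k5⟩, rfl⟩)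
      change (d * n)⁻¹ * (n * d) ∈ closure S
      simpa only [mul_inv_rev, mul_assoc, inv_inv, hD.inv hd] using
        mul_mem (subset_closure (k0 _ (inv_mem hn) d ⟨hd, rfl⟩)) (subset_closure (show d ∈ S from ⟨hd, rfl⟩))
    · have := mem_map_of_mem (MulAut.conj (g : G)).toMonoidHom hx.1
      rw [MonoidHom.map_closure] at this
      exact closure_mono (by rintro _ ⟨y, hy, rfl⟩; exact k0 _ g.2 y hy) this

theorem CL.perfect (hD : CL D) (h : ∃ a ∈ D, ∃ b ∈ D, a * b ∈ D) : ⁅closure D, closure D⁆ = closure D :=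
  (commutator_le_self _).antisymm ((closure_le _).2 fun d hd => by
    obtain ⟨b, hb, h1⟩ := hD.exists_prod h hd
    obtain ⟨g, hg, e⟩ := hD.cls b hb _ h1
    rw [← mul_inv_eq_iff_eq_mul.2 e]
    exact commutator_mem_commutator hg (subset_closure hb))

theorem solvable_twoZCore [Finite G] : Group.IsSolvable (twoZCore G) := by
  have := Fact.mk Nat.prime_two
  have := (Core.isPGroup_pCore 2 G).isNilpotent
  have := Core.isSolvable_solvableRadical G
  exact Group.isSolvable_of_isSolvable_injective (inclusion_injective (Core.comap_solvableRadical_quotient (pCore 2 G) ▸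
    comap_mono (Core.le_solvableRadical (Group.isSolvable_of_comm fun a b => Subtype.ext (mem_center_iff.1 b.2 a))) : twoZCore G ≤ solvableRadical G))

theorem CL.not_solvable (hD : CL D) (hG : closure D = ⊤) (h : ∃ a ∈ D, ∃ b ∈ D, a * b ∈ D) {N : Subgroup G} (hN : Group.IsSolvable N) :
    N ≠ ⊤ := fun e =>
  let ⟨_, ha, _⟩ := h
  hD.ne ha (mem_bot.1 (eq_bot_of_perfect (hD.perfect h) ((e.trans hG.symm) ▸ hN) ▸ subset_closure ha))

theorem CL.radical [Finite G] (hD : CL D) (hG : closure D = ⊤) (h : ∃ a ∈ D, ∃ b ∈ D, a * b ∈ D) : solvableRadical G = twoZCore G :=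
  have := Core.solvableRadical_normal G
  (hD.le_twoZCore hG h (hD.not_solvable hG h (Core.isSolvable_solvableRadical G))).antisymm (Core.le_solvableRadical solvable_twoZCore)

theorem CL.simple [Finite G] (hD : CL D) (hG : closure D = ⊤) (h : ∃ a ∈ D, ∃ b ∈ D, a * b ∈ D) : IsSimpleGroup (G ⧸ twoZCore G) := by
  have : Nontrivial (G ⧸ twoZCore G) := QuotientGroup.nontrivial_iff.2 (hD.not_solvable hG h solvable_twoZCore)
  refine ⟨fun N hN => ?_⟩
  by_cases e : N.comap (QuotientGroup.mk' (twoZCore G)) = ⊤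
  · exact .inr (comap_injective (QuotientGroup.mk'_surjective _) (e.trans (comap_top _).symm))
  · refine .inl (eq_bot_iff.2 fun x hx => ?_)
    obtain ⟨x, rfl⟩ := QuotientGroup.mk_surjective x
    exact (QuotientGroup.eq_one_iff x).2 (hD.le_twoZCore hG h e hx)

end Cfsg.Lib.RInv
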