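import Cfsg.Agent.Lib.Root.Inv
import Cfsg.Agent.Lib.Invol.Strong
import Cfsg.Agent.Lib.Invol.Classes

/-!
# Root involutions: systems of blocks with odd cross products
-/

set_option autoImplicit false
set_option linter.unusedSectionVars false

universe u

namespace Cfsg.Lib.RInv

open Subgroup Cfsg.Lib.Invol

variable {G : Type u} [Group G] {D : Set G} {a b c d e f g h j s t v w x y z : G}

theorem ncard_modEq_two {α : Type*} [Finite α] {T : Set α} {σ : α → α} (h1 : ∀ x ∈ T, σ x ∈ T) (h2 : ∀ x ∈ T, σ (σ x) = x) :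
    T.ncard ≡ {x | x ∈ T ∧ σ x = x}.ncard [MOD 2] := by
  classical
  have := Fintype.ofFinite T
  have := Fact.mk Nat.prime_two
  have h := Equiv.Perm.card_fixedPoints_modEq (α := T) (f := fun x => ⟨σ x, h1 x x.2⟩) (p := 2) (n := 1)
    (funext fun x => Subtype.ext (h2 x x.2))
  rw [← Nat.card_eq_fintype_card, ← Nat.card_eq_fintype_card, Nat.card_coe_set_eq] at h
  exact h.trans (congrArg (· % 2) ((Nat.card_congr ((Equiv.subtypeEquivRight fun x => Subtype.ext_iff).trans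
    (Equiv.subtypeSubtypeEquivSubtypeInter (· ∈ T) fun x => σ x = x))).trans (Nat.card_coe_set_eq {x | x ∈ T ∧ σ x = x})))

/-- The central involution of a dihedral group of order `4m`, `m` odd. -/
theorem exists_t (hd : d * d = 1) (hj : j * j = 1) (h : Odd (orderOf (d * (j * d * j)))) :
    ∃ g t, g * d * g⁻¹ = t * j ∧ t * d = d * t ∧ t * j = j * t ∧ t * t = 1 := by
  obtain ⟨m, hm⟩ := h
  have h1 : (d * j) ^ (2 * m + 1) * (d * j) ^ (2 * m + 1) = 1 := by
    rw [← (Commute.refl _).mul_pow, ← hm, mul_assoc, ← mul_assoc j]; exact pow_orderOf_eq_one _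
  refine ⟨(d * j) ^ m, (d * j) ^ (2 * m + 1), ?_, commute_of_inverts (conj_pow_of_inv (left_inverts hd hj) _) h1,
    commute_of_inverts (conj_pow_of_inv (right_inverts hd hj) _) h1, h1⟩
  rw [← conj_pow_of_inv (left_inverts hd hj) m, inv_eq_of_mul_eq_one_right hd, pow_succ, two_mul, pow_add]
  simp only [mul_assoc, cn hd, hj, mul_one]

theorem eq_one_of_odd_odd (hb : b * b = 1) (h : Commute a b) (h1 : Odd (orderOf a)) (h2 : Odd (orderOf (a * b))) : b = 1 := by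
  have := h.mul_pow (orderOf (a * b) * orderOf a)
  rw [pow_mul, pow_orderOf_eq_one, one_pow, mul_comm, pow_mul, pow_orderOf_eq_one, one_pow, one_mul, pow_odd_of_sq hb (h1.mul h2)] at this
  exact this.symm

/-- A system of blocks with cross products of odd order. -/
structure Blk (D : Set G) (r : G → G → Prop) : Prop extends RI D where
  cjg : ∀ g, ∀ d ∈ D, g * d * g⁻¹ ∈ D
  rfl' : ∀ d, r d d
  symm : ∀ {x y}, r x y → r y x
  trans : ∀ {x y z}, r x y → r y z → r x z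
  conj : ∀ g {x y}, r x y → r (g * x * g⁻¹) (g * y * g⁻¹)
  cross : ∀ {x y}, x ∈ D → y ∈ D → ¬ r x y → Od x y

namespace Blk

variable {r : G → G → Prop} (B : Blk D r)

/-- The stabiliser of a block. -/
def M (e : G) : Subgroup G where
  carrier := {g | r e (g * e * g⁻¹)}
  mul_mem' {x y} hx hy := B.trans hx (by simpa only [mul_assoc, mul_inv_rev] using B.conj x hy)
  one_mem' := by simpa using B.rfl' e
  inv_mem' {x} hx := B.symm (by simpa [mul_assoc] using B.conj x⁻¹ hx)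

theorem mem_M : g ∈ B.M e ↔ r e (g * e * g⁻¹) := Iff.rfl

theorem M_le (h : r e f) : B.M e ≤ B.M f := fun g hg => B.trans (B.symm h) (B.trans hg (B.conj g h))

theorem mem_M_of_comm (h : g * e = e * g) : g ∈ B.M e := B.mem_M.2 (by rw [h, mul_inv_cancel_right]; exact B.rfl' e)

include B

theorem of_comm (hx : x ∈ D) (hy : y ∈ D) (h : x * y = y * x) : r x y := by_contra fun k => B.nc (B.cross hx hy k) hx hy h

theorem exists_conj (hx : x ∈ D) (hy : y ∈ D) (h : ¬ r x y) {H : Subgroup G} (h1 : x ∈ H) (h2 : y ∈ H) : ∃ g ∈ H, g * x * g⁻¹ = y :=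
  let ⟨m, hm⟩ := exists_conj_of_odd (B.sq hx) (B.sq hy) (B.cross hx hy h).2
  ⟨_, pow_mem (mul_mem h1 h2) m, hm⟩

theorem mem_iff (hd : d ∈ D) (he : e ∈ D) : d ∈ B.M e ↔ r e d :=
  ⟨fun h => by_contra fun k => let ⟨g, hg, e1⟩ := B.exists_conj he hd k (B.mem_M_of_comm rfl) h; k (e1 ▸ hg),
    fun h => B.M_le (B.symm h) (B.mem_M_of_comm rfl)⟩

theorem of_cent (hx : x ∈ D) (hy : y ∈ D) (h : x * y = y * x) (hne : x ≠ y) (hv : v ∈ D) (h1 : v * (x * y) = x * y * v) : r x v := by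
  by_contra k
  have h2 := B.cross hx hv k
  have h3 := B.cross hy hv fun k' => k (B.trans (B.of_comm hx hy h) k')
  refine hne ?_
  have := eq_one_of_odd_odd (a := v * x) (b := x * y) (by rw [mul_assoc, ← sw h, cn (B.sq hx), B.sq hy])
    (Commute.mul_left h1 (show x * (x * y) = x * y * x by rw [mul_assoc, h])) h2.symm.2
    (by simpa only [mul_assoc, cn (B.sq hx)] using h3.symm.2)
  rw [← cn (B.sq hx) y, this, mul_one]

theorem exists_t' (hd : d ∈ D) (hj : j * j = 1) (h : j ∉ B.M d) :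
    ∃ t, t * j ∈ D ∧ t * d = d * t ∧ t * j = j * t ∧ t * t = 1 ∧ ¬ r d (t * j) := by
  have h1 : j⁻¹ = j := inv_eq_of_mul_eq_one_right hj
  obtain ⟨g, t, h2, h3, h4, h5⟩ := exists_t (B.sq hd) hj (by simpa only [h1] using (B.cross hd (B.cjg j d hd) h).2)
  refine ⟨t, h2 ▸ B.cjg g d hd, h3, h4, h5, fun k => h ?_⟩
  simpa only [cn h5] using mul_mem (B.mem_M_of_comm h3) ((B.mem_iff (h2 ▸ B.cjg g d hd) hd).2 k)

/-- A product of two commuting members fixing a second block fixes all blocks. -/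
theorem mem_all (hx : x ∈ D) (hy : y ∈ D) (h : x * y = y * x) (hne : x ≠ y) (he : e ∈ D) (h1 : ¬ r x e) (h2 : x * y ∈ B.M e) (hd : d ∈ D) :
    x * y ∈ B.M d := by
  by_contra h3
  have hj : x * y * (x * y) = 1 := by rw [mul_assoc, ← sw h, cn (B.sq hx), B.sq hy]
  obtain ⟨t, k1, k2, k3, k4, k5⟩ := B.exists_t' hd hj h3
  have k6 := B.of_cent hx hy h hne k1 (by rw [← mul_assoc (x * y) t, ← k3])
  obtain ⟨s, l1, l2, l3, l4, l5⟩ := B.exists_t' he k4 fun k =>
    h1 (B.trans k6 (B.symm ((B.mem_iff k1 he).1 (mul_mem k h2))))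
  have m1 : t * (x * y) ∈ centralizer {t} := mem_centralizer_singleton_iff.2 (by rw [mul_assoc, ← k3])
  have m2 : s * t ∈ centralizer {t} := mem_centralizer_singleton_iff.2 (by rw [← mul_assoc, ← l3])
  have m3 : d ∈ centralizer {t} := mem_centralizer_singleton_iff.2 k2.symm
  obtain ⟨c, hc, e1⟩ : ∃ c ∈ centralizer {t}, c * (t * (x * y)) * c⁻¹ = s * t := by
    by_cases k : r (t * (x * y)) (s * t)
    · obtain ⟨c, hc, e1⟩ := B.exists_conj k1 hd (fun k => k5 (B.symm k)) m1 m3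
      obtain ⟨c', hc', e2⟩ := B.exists_conj hd l1 (fun k' => k5 (B.trans k' (B.symm k))) m3 m2
      exact ⟨c' * c, mul_mem hc' hc, by rw [← e2, ← e1]; group⟩
    · exact B.exists_conj k1 l1 k m1 m2
  have e2 : c * x * c⁻¹ * (c * y * c⁻¹) = s := by
    rw [← conj_mul, mem_centralizer_singleton_iff.1 hc, mul_inv_cancel_right, l3, mul_right_inj] at e1
    rw [conj_mul, e1]
  have k := fun v (hv : v ∈ D) (h1 : v * s = s * v) => B.of_cent (B.cjg c x hx) (B.cjg c y hy) (by rw [conj_mul, conj_mul, h])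
    (fun e => hne (by simpa using e)) hv (by rwa [e2])
  exact l5 (B.trans (B.symm (k e he l2.symm)) (k _ l1 (by rw [mul_assoc, l3])))

theorem mem_inf : g ∈ (⨅ d ∈ D, B.M d) ↔ ∀ d ∈ D, g ∈ B.M d := by simp only [mem_iInf]

theorem normal_inf : (⨅ d ∈ D, B.M d).Normal := ⟨fun n hn g => B.mem_inf.2 fun d hd => B.mem_M.2 (by
  simpa only [mul_assoc, mul_inv_rev, inv_inv, mul_inv_cancel_left, mul_inv_cancel, mul_one] using
    B.conj g (B.mem_inf.1 hn _ (B.cjg g⁻¹ d hd)))⟩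

theorem noJ [IsSimpleGroup G] (hx : x ∈ D) (hy : y ∈ D) (h : x * y = y * x) (hne : x ≠ y) (he : e ∈ D) (h2 : x * y ∈ B.M e) : r x e := by
  by_contra h1
  obtain k | k := B.normal_inf.eq_bot_or_eq_top
  · have := k.le (B.mem_inf.2 fun d hd => B.mem_all hx hy h hne he h1 h2 hd)
    exact hne (by rw [← cn (B.sq hx) y, mem_bot.1 this, mul_one])
  · exact h1 ((B.mem_iff he hx).1 (B.mem_inf.1 (k.ge (mem_top e)) x hx))

theorem odd_card [Finite G] [IsSimpleGroup G] (he : e ∈ D) (hf : f ∈ D) (h : ¬ r e f) : Odd D.ncard := by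
  let S := {s | s ∈ D ∧ r f (s * e * s⁻¹)}
  have k1 : ∀ s ∈ S, ¬ r e s := fun s hs k => h (B.trans ((B.mem_iff hs.1 he).2 k) (B.symm hs.2))
  have k2 : ∀ s ∈ S, r e (s * f * s⁻¹) := fun s hs => B.symm (by
    simpa only [mul_assoc, B.inv hs.1, cn (B.sq hs.1), B.sq hs.1, mul_one] using B.conj s hs.2)
  have k3 : ∀ v ∈ D, ¬ r e v → ∃ s ∈ D, s * e * s⁻¹ = v := fun v hv k =>
    let ⟨g, _, h1, h2⟩ := B.mid he hv (B.cross he hv k); ⟨_, h1, by rw [B.inv h1, h2]⟩
  have h1 : S.ncard = {v | v ∈ D ∧ r f v}.ncard := by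
    refine Set.ncard_congr (fun s _ => s * e * s⁻¹) (fun s hs => ⟨B.cjg s e he, hs.2⟩) (fun s s' hs hs' e1 => ?_) fun v hv => ?_
    · by_contra hne
      have h2 : Commute (s * s') e := by
        rw [B.inv hs.1, B.inv hs'.1] at e1
        rw [Commute, SemiconjBy, ← mul_left_inj s', mul_assoc s, mul_assoc s, ← e1]
        simp only [mul_assoc, cn (B.sq hs.1), B.sq hs'.1, mul_one]
      have h3 : e * s * (s * s') * (e * s)⁻¹ = (s * s')⁻¹ := by
        rw [mul_inv_rev, mul_assoc e, mul_assoc e, ← mul_assoc (s * (s * s')), left_inverts (B.sq hs.1) (B.sq hs'.1),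
          h2.inv_left.inv_right, mul_inv_cancel_left]
      have h4 := conj_odd_pow_of_swap h3 (by rw [← inv_inj, ← conj_inv, inv_inv, h3]) (B.cross he hs.1 (k1 s hs)).2
      rw [pow_orderOf_eq_one, one_mul, inv_one, mul_one, mul_inv_rev, B.inv hs.1, B.inv hs'.1] at h4
      exact k1 s hs (B.symm (B.of_cent hs.1 hs'.1 h4 hne he h2.symm))
    · obtain ⟨s, hs, rfl⟩ := k3 v hv.1 fun k => h (B.trans k (B.symm hv.2))
      exact ⟨s, ⟨hs, hv.2⟩, rfl⟩
  obtain ⟨s, hs, e1⟩ := k3 f hf h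
  have hs' : s ∈ S := ⟨hs, e1 ▸ B.rfl' f⟩
  have inv2 : ∀ s ∈ D, ∀ x, s * (s * x * s⁻¹) * s⁻¹ = x := fun s hs x => by
    simp only [mul_assoc, B.inv hs, cn (B.sq hs), B.sq hs, mul_one]
  have h2 := ncard_modEq_two (T := S) (σ := fun x => s * x * s⁻¹) (fun x hx => ⟨B.cjg s x hx.1, by
    have := B.conj s (B.trans (k2 x hx) (B.conj x hs'.2))
    rw [show s * e * s⁻¹ = f from e1] at this
    simpa only [← e1, mul_assoc, mul_inv_rev, B.inv hs] using this⟩) fun x _ => inv2 s hs x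
  rw [h1, show {x | x ∈ S ∧ s * x * s⁻¹ = x} = {s} from Set.ext fun x => ⟨fun k => by_contra fun hne =>
    k1 s hs' (B.symm (B.noJ hs k.1.1 (mul_inv_eq_iff_eq_mul.1 k.2) (Ne.symm hne) he (B.mem_M.2 (by
      simpa only [mul_assoc, mul_inv_rev] using B.trans (k2 s hs') (B.conj s k.1.2))))),
    fun k => by rw [show x = s from k]; exact ⟨hs', by simp⟩⟩, Set.ncard_singleton] at h2
  have h3 := ncard_modEq_two (T := {v | v ∈ D ∧ ¬ r f v}) (σ := fun x => f * x * f⁻¹) (fun x hx => ⟨B.cjg f x hx.1, fun k => hx.2 (by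
    simpa only [inv2 f hf, mul_inv_cancel_right] using B.conj f k)⟩) fun x _ => inv2 f hf x
  rw [show {x | x ∈ {v | v ∈ D ∧ ¬ r f v} ∧ f * x * f⁻¹ = x} = ∅ from Set.eq_empty_of_forall_notMem fun x k =>
    k.1.2 (B.of_comm hf k.1.1 (mul_inv_eq_iff_eq_mul.1 k.2)), Set.ncard_empty] at h3
  rw [← Set.ncard_inter_add_ncard_sdiff_eq_ncard D {v | r f v}]
  exact Odd.add_even (Nat.odd_iff.2 h2) (Nat.even_iff.2 h3)

end Blk

theorem exists_two_central [Finite G] (h2 : ∀ d ∈ D, orderOf d = 2) (hc : ∀ g, ∀ d ∈ D, g * d * g⁻¹ ∈ D) (h : Odd D.ncard) :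
    ∃ z ∈ D, ∃ S : Sylow 2 G, z ∈ S ∧ ∀ s ∈ S, Commute s z := by
  have := Fact.mk Nat.prime_two
  obtain ⟨S⟩ : Nonempty (Sylow 2 G) := inferInstance
  let _ : MulAction S D :=
    { smul := fun s d => ⟨s * d * (s : G)⁻¹, hc _ _ d.2⟩
      one_smul := fun d => Subtype.ext (by change ((1 : S) : G) * d * ((1 : S) : G)⁻¹ = d; simp)
      mul_smul := fun s t d => Subtype.ext (by
        change ((s * t : S) : G) * d * ((s * t : S) : G)⁻¹ = s * (t * d * (t : G)⁻¹) * (s : G)⁻¹; simp [mul_assoc]) }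
  obtain ⟨z, hz⟩ := S.isPGroup'.nonempty_fixed_point_of_prime_not_dvd_card D (by
    rw [Nat.card_coe_set_eq]; exact fun k => Nat.not_even_iff_odd.2 h (even_iff_two_dvd.2 k))
  have k : ∀ s ∈ S, Commute s (z : G) := fun s hs => mul_inv_eq_iff_eq_mul.1 (congrArg Subtype.val (hz ⟨s, hs⟩))
  refine ⟨z, z.2, S, ?_, k⟩
  have := S.is_maximal' (isPGroup_sup_zpowers (k := 1) S.isPGroup' (x := (z : G)) (by simpa using sq_of_two (h2 _ z.2))
    (centralizer_le_normalizer _ fun s hs => k s hs)) le_sup_left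
  exact this.le (mem_sup_right (mem_zpowers _))

/-- Aschbacher's criterion (S1175). -/
def ASC : Prop := ∀ (G : Type u) [Group G] [Finite G] [IsSimpleGroup G] (M : Subgroup G), M ≠ ⊤ → ∀ z : G, orderOf z = 2 → z ∈ M →
  (∃ S : Sylow 2 G, z ∈ S ∧ ∀ s ∈ S, Commute s z) → (∀ g : G, g * z * g⁻¹ ∈ M → g ∈ M) →
  (∀ g : G, Commute z (g * z * g⁻¹) → g * z * g⁻¹ ≠ z → centralizer ({z * (g * z * g⁻¹)} : Set G) ≤ M) →
  ∃ H : Subgroup G, Cfsg.IsStronglyEmbedded H

theorem Blk.exists_se [Finite G] [IsSimpleGroup G] (hA : ASC.{u}) {r : G → G → Prop} (B : Blk D r) (he : e ∈ D) (hf : f ∈ D)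
    (h : ¬ r e f) : ∃ H : Subgroup G, Cfsg.IsStronglyEmbedded H := by
  obtain ⟨z, hz, h1⟩ := exists_two_central B.two B.cjg (B.odd_card he hf h)
  refine hA G (B.M z) (fun k => h (B.trans (B.symm ((B.mem_iff he hz).1 (k.ge (mem_top e)))) ((B.mem_iff hf hz).1 (k.ge (mem_top f)))))
    z (B.two z hz) (B.mem_M_of_comm rfl) h1 (fun g hg => (B.mem_iff (B.cjg g z hz) hz).1 hg) fun g h2 h3 c hc => ?_
  refine B.of_cent hz (B.cjg g z hz) h2 h3.symm (B.cjg c z hz) ?_
  have h4 : Commute c (z * (g * z * g⁻¹)) := mem_centralizer_singleton_iff.1 hc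
  exact (h4.mul_left ((Commute.refl z).mul_right h2)).mul_left h4.inv_left

end Cfsg.Lib.RInv
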