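import Cfsg.Agent.Lib.Root.Sets

/-!
# Lines of abstract root subgroups
-/

set_option autoImplicit false
set_option linter.unusedSectionVars false

namespace Cfsg.Lib.Root

open Subgroup Cfsg.Lib.Transfer
open scoped commutatorElement

variable {G : Type*} [Group G] {S : Set (Subgroup G)} {A B C D E F N P Q R : Subgroup G} {a a' b b' c d e f g p q r x y z : G}

/-- A rank one group acting on an abelian subgroup quadratically. -/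
theorem sp_of_norm (h : RK A B) [IsMulCommutative N] (hN : ∀ x ∈ A ⊔ B, cj x N = N)
    (hq : ∀ a ∈ A, ∀ a' ∈ A, ∀ n ∈ N, a' * ⁅a, n⁆ = ⁅a, n⁆ * a')
    (hX : ∃ x ∈ A ⊔ B, ∃ y ∈ A ⊔ B, ∃ n ∈ N, y * ⁅x, n⁆ ≠ ⁅x, n⁆ * y) : Sp A B := by
  open scoped IsMulCommutative in
  let _ : DistribMulAction ↥(A ⊔ B) (Additive N) :=
    { smul x n := Additive.ofMul ⟨x * n.toMul * x⁻¹, (hN x x.2).le (conj_mem_cj.2 n.toMul.2)⟩
      one_smul n := Subtype.ext (by show 1 * _ * 1⁻¹ = _; simp; rfl)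
      mul_smul x y n := Subtype.ext (by show (x * y : G) * _ * (x * y : G)⁻¹ = x * (y * _ * (y : G)⁻¹) * (x : G)⁻¹; group)
      smul_zero x := Subtype.ext (by show (x : G) * 1 * (x : G)⁻¹ = 1; simp)
      smul_add x m n := Subtype.ext (conj_mul (b := (x : G))).symm }
  have e : ∀ (x y : ↥(A ⊔ B)) (n : Additive N), y • (x • n - n) = x • n - n ↔ y * ⁅x.1, n.toMul.1⁆ = ⁅x.1, n.toMul.1⁆ * y :=
    fun x y n => by rw [sub_eq_add_neg, ← mul_inv_eq_iff_eq_mul]; exact Subtype.ext_iff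
  obtain ⟨x, hx, y, hy, n, hn, h1⟩ := hX
  simpa only [map_subgroupOf_eq_of_le le_sup_left, map_subgroupOf_eq_of_le le_sup_right] using
      (sp_of_module (V := Additive N) (h.subgroupOf le_sup_left le_sup_right) (sup_subgroupOf_sup A B)
        (fun a ha v a' ha' => (e _ _ _).2 (hq _ ha _ ha' _ v.toMul.2))
        ⟨⟨x, hx⟩, ⟨y, hy⟩, .ofMul ⟨n, hn⟩, (e _ _ _).not.2 h1⟩).map (A ⊔ B).subtype (by
          simpa only [map_subgroupOf_eq_of_le le_sup_left, map_subgroupOf_eq_of_le le_sup_right] using h.ne)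

/-- Line partners. -/
abbrev Ln (S : Set (Subgroup G)) (A B : Subgroup G) : Prop := B ∈ Cfsg.linePartners S A

theorem Ln.symm (h : Ln S A B) (hA : A ∈ S) : Ln S B A :=
  ⟨⟨hA, h.1.2.1.symm, Layer.commutator_eq_bot_symm h.1.2.2⟩, sup_comm A B ▸ h.2⟩

theorem Ln.eq (h : Ln S A B) (hP : P ∈ Cfsg.membersIn S (A ⊔ B)) (hQ : Q ∈ Cfsg.membersIn S (A ⊔ B)) (h1 : x ∈ P) (h2 : x ∈ Q)
    (h3 : x ≠ 1) : P = Q := by_contra fun e => h3 ((h.2.2.2 P hP Q hQ e).le ⟨h1, h2⟩)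

theorem Ln.conj (hS : RS S) (h : Ln S A B) (g : G) : Ln S (cj g A) (cj g B) := by
  have e : ∀ {P}, P ∈ Cfsg.membersIn S (cj g A ⊔ cj g B) → cj g⁻¹ P ∈ Cfsg.membersIn S (A ⊔ B) := fun hP =>
    ⟨hS.cj_mem hP.1 _, cj_le_iff_le_cj_inv.2 (by rw [inv_inv, cj_sup]; exact hP.2)⟩
  refine ⟨⟨hS.cj_mem h.1.1 g, cj_inj.not.2 h.1.2.1, by rw [← cj_commutator, h.1.2.2, cj_bot]⟩, fun _ h => h.2,
    fun x hx h1 => ?_, fun P hP Q hQ hne => ?_⟩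
  · obtain ⟨P, hP, h2⟩ := h.2.2.1 _ (mem_cj.1 (cj_sup g A B ▸ hx)) (by simpa [mul_assoc, inv_mul_eq_one] using h1)
    exact ⟨_, ⟨hS.cj_mem hP.1 g, cj_sup g A B ▸ cj_mono g hP.2⟩, mem_cj.2 h2⟩
  · rw [← cj_eq_bot (g := g⁻¹), cj_inf, h.2.2.2 _ (e hP) _ (e hQ) (cj_inj.not.2 hne)]

/-- Connectedness in the graph of rank one pairs. -/
abbrev Cn (S : Set (Subgroup G)) : Subgroup G → Subgroup G → Prop := Relation.ReflTransGen (Cfsg.FAdj S)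

theorem Cn.symm (h : Cn S A B) : Cn S B A := by
  induction h with
  | refl => exact .refl
  | tail _ h ih => exact .head ⟨h.2.1, h.1, h.2.2.symm⟩ ih

theorem Cn.conj (hS : RS S) (h : Cn S A B) (g : G) : Cn S (cj g A) (cj g B) :=
  h.lift (cj g) fun _ _ h => ⟨hS.cj_mem h.1 g, hS.cj_mem h.2.1 g, h.2.2.conj g⟩

theorem Cn.exists_cj (h : Cn S A B) : ∃ g, B = cj g A := by
  induction h with
  | refl => exact ⟨1, (cj_one _).symm⟩
  | tail _ h ih =>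
    obtain ⟨g, rfl⟩ := ih
    obtain ⟨x, -, e⟩ := h.2.2.exists_cj
    exact ⟨x * g, by rw [cj_mul, e]⟩

theorem Cn.ni (h : Cn S A B) (hne : A ≠ B) : NI S A :=
  let ⟨C, h, _⟩ := (Relation.ReflTransGen.cases_head h).resolve_left hne
  ⟨C, h.2⟩

end Cfsg.Lib.Root

namespace Cfsg.IsRootSubgroupSet

open Subgroup Cfsg.Lib.Transfer Cfsg.Lib.Root
open scoped commutatorElement

variable {G : Type*} [Group G] {S : Set (Subgroup G)} {A B C D E F P Q R : Subgroup G} {a a' b b' c d e f g p q r x y z : G}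
  (hS : RS S)
include hS

theorem not_rk_cj (hF : F ∈ S) (hQ : Q ∈ S) (hR : R ∈ S) (h1 : ¬ RK F Q) (h2 : ¬ RK F R) (hq : q ∈ Q) (hr : r ∈ R) :
    ¬ RK (cj r F) (cj q F) := fun h => by
  have h3 := hS.cj_comm hF hQ h1 hq
  obtain h4 | h4 := hS.tri' hF hR h2
  · rw [cj_eq_of_commute fun a ha => (comm_bot_iff.1 h4 a ha r hr).symm] at h
    exact h.comm_ne_bot h3
  obtain ⟨f, hf, h5⟩ := hS.exists_ne_one hF
  refine h5 (inv_eq_one.1 (hS.central_translate h (hS.cj_mem hF q) h4.mem (fun x hx => ?_) (conj_mem_cj.2 hf)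
    (by simpa using h5) ?_))
  · exact comm_bot_iff.1 (Lib.Layer.commutator_eq_bot_symm (Lib.Layer.commutator_sup_eq_bot
      (Lib.Layer.commutator_eq_bot_symm (hS.cj_comm hF hR h2 hr)) (Lib.Layer.commutator_eq_bot_symm h3))) _ (inv_mem hf) x hx
  · simpa [commutatorElement_def, mul_assoc] using commutator_mem_commutator (inv_mem hf) hr

/-- (L1) -/
theorem rk_of_mul (hF : F ∈ S) (hQ : Q ∈ S) (hR : R ∈ S) (h1 : RK P F) (h2 : ¬ RK Q F) (hp : p ∈ P) (h3 : p ≠ 1)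
    (hq : q ∈ Q) (hr : q * p ∈ R) : RK R F := by_contra fun hn =>
  hS.not_rk_cj hF hQ hR (fun e => h2 e.symm) (fun e => hn e.symm) hq hr (cj_mul q p F ▸ ((h1.cj_right hp h3).1.conj q).symm)

/-- (L2) -/
theorem exists_not_rk (hP : RK P F) (hQ : RK Q F) (h : ⁅P, Q⁆ = ⊥) :
    ∃ p ∈ P, ∃ q ∈ Q, p ≠ 1 ∧ q ≠ 1 ∧ ∀ R, q * p ≠ 1 → q * p ∈ R → ¬ RK R F := by
  obtain ⟨f, hf, h1⟩ := hP.symm.exists_ne_one
  obtain ⟨p, e1⟩ := hP.exists_pt' hf h1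
  obtain ⟨q, e2⟩ := hQ.exists_pt' hf h1
  refine ⟨p, e1.l, q⁻¹, inv_mem e2.l, e1.ne_one hP.ne, inv_ne_one.2 (e2.ne_one hQ.ne), fun R h2 hr e => ?_⟩
  refine ((e.cj_right hr h2).1.conj q).comm_ne_bot ?_
  rw [← cj_mul, mul_inv_cancel_left, ← e1.eq, ← e2.eq, ← cj_commutator, commutator_comm, h, cj_bot]

theorem mv (hA : A ∈ S) (hB : B ∈ S) (hC : C ∈ S) (h : RK A B) (hn : ¬ RK C B) (hc : ⁅A, C⁆ = ⊥)
    (hl : ∀ c ∈ C, c ≠ 1 → ∀ a ∈ A, a ≠ 1 → ∃ R ∈ S, c * a ∈ R) : CM S C B ∧ CM S A ⁅C, B⁆ ∧ ⁅A, ⁅C, B⁆⁆ = C := by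
  obtain ⟨b, hb, h1⟩ := h.symm.exists_ne_one
  obtain ⟨a, p⟩ := h.exists_pt' hb h1
  have hc' : ∀ c ∈ C, ∀ a ∈ A, c * a = a * c := fun c h a ha => (comm_bot_iff.1 hc a ha c h).symm
  have key : ∀ c ∈ C, c * b = b * c → c = 1 := fun c h2 e => by_contra fun h3 =>
    let ⟨_, hR, h4⟩ := hl c h2 h3 a p.l (p.ne_one h.ne)
    h3 (hS.eq_one_of_commute h hB hR (hc' c h2) p.l (p.ne_one h.ne) h4 hb h1 e)
  obtain ⟨c, h2, h3⟩ := hS.exists_ne_one hC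
  have H := (hS.tri' hC hB hn).resolve_left fun e => h3 (key c h2 (comm_bot_iff.1 e c h2 b hb))
  have k : ∀ c ∈ C, ∀ b' ∈ B, ⁅a⁻¹, ⁅b, c⁆⁆ * c * b' = b' * (⁅a⁻¹, ⁅b, c⁆⁆ * c) := fun c h2 b' hb' => by
    have h4 := hc' c h2 _ (mem_cj.1 (p.eq ▸ conj_mem_cj.2 hb'))
    have h5 := H.symm.cl (commutator_mem_commutator hb h2) hb'
    have h6 := H.symm.cr (commutator_mem_commutator hb h2) h2
    have h7 := hc' c h2 a p.l
    have e : ⁅a⁻¹, ⁅b, c⁆⁆ * c * ⁅b, c⁆ = a⁻¹ * (b * c * b⁻¹) * a := by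
      rw [mul_assoc, ← h6, ← mul_assoc, ← conj_eq_comm, conj_eq_comm b, inv_inv, mul_assoc _ a, ← h7]; simp only [mul_assoc]
    rw [← mul_left_inj ⁅b, c⁆, mul_assoc _ b', ← h5, ← mul_assoc, mul_assoc b', e]
    calc _ = a⁻¹ * b * (c * (b⁻¹ * (a * b' * a⁻¹) * b)) * b⁻¹ * a := by group
      _ = _ := by rw [h4]; group
  have H' : CM S A ⁅C, B⁆ := by
    refine (hS.tri' hA H.mem fun e => h3 ?_).resolve_left fun e => h3 (key c h2 ?_)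
    · obtain ⟨d, hd, h4⟩ := hS.exists_ne_one H.mem
      obtain ⟨b', -, e'⟩ := H.exists_cj hd h2 h3
      refine hS.central_translate e.symm hA (hS.cj_mem hC b') (fun x hx => ?_) hd h4 (by
        rw [← H.cl hd h2, ← e']; exact conj_mem_cj.2 h2)
      exact comm_bot_iff.1 (Lib.Layer.commutator_eq_bot_symm (Lib.Layer.commutator_sup_eq_bot
        (Lib.Layer.commutator_eq_bot_symm H.comm_l) hc)) c h2 x hx
    · simpa [comm_eq_one.2 (comm_bot_iff.1 e _ (inv_mem p.l) _ (commutator_comm B C ▸ commutator_mem_commutator hb h2))]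
        using k c h2 b hb
  refine ⟨H, H', (hS.eq_of_le_comm hA ⟨B, hB, h⟩ H' hC fun c h2 => by_contra fun h3 => ?_).symm⟩
  have h4 : c ≠ 1 := fun e => h3 (e ▸ one_mem _)
  have h5 : ⁅b, c⁆ ∈ ⁅C, B⁆ := commutator_comm B C ▸ commutator_mem_commutator hb h2
  have h6 := commutator_mem_commutator (inv_mem p.l) h5
  obtain ⟨a', ha', e⟩ := H'.symm.sl h5 (fun e => h4 (key c h2 (comm_eq_one.1 e).symm)) (commutator_comm A _ ▸ h6)
  have h7 : a' ≠ 1 := fun e' => h4 (key c h2 (by simpa [← e, e'] using k c h2 b hb))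
  obtain ⟨R, hR, h8⟩ := hl c h2 h4 a' ha' h7
  refine h3 (eq_inv_of_mul_eq_one_right (hS.eq_one_of_commute h hB (hS.cj_mem hR ⁅b, c⁆) (fun a'' ha'' => ?_) ha' h7 ?_ hb h1
    (k c h2 b hb)) ▸ inv_mem h6)
  · rw [mul_assoc, hc' c h2 _ ha'', ← mul_assoc, H'.cl h6 ha'', mul_assoc]
  · rw [mul_assoc, ← e, hc' c h2 _ ha', ← mul_assoc, ← conj_eq_comm, mul_assoc _ _ c, H.cl (inv_mem h5) h2,
      ← mul_assoc, mul_assoc _ a', ← hc' c h2 _ ha']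
    exact conj_mem_cj.2 h8

theorem exists_mv (hA : A ∈ S) (hF : F ∈ S) (h : Ln S A B) (h1 : RK A F) :
    ∃ R ∈ S, ¬ RK R F ∧ A ⊔ R = A ⊔ B ∧ CM S R F ∧ CM S A ⁅R, F⁆ ∧ ⁅A, ⁅R, F⁆⁆ = R := by
  have := hS.commutative A hA
  have := hS.commutative B h.1.1
  have key : ∀ R ∈ Cfsg.membersIn S (A ⊔ B), ¬ RK R F → _ := fun R hR hn => hS.mv hA hF hR.1 h1 hn
    (comm_bot_iff.2 fun a ha c hc => comm_sup_of_comm h.1.2.2 (mem_sup_left ha) (hR.2 hc)) fun c hc h2 a ha h3 =>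
      let ⟨P, hP, e⟩ := h.2.2.1 _ (mul_mem (hR.2 hc) (mem_sup_left ha)) fun e => hn (h.eq hR ⟨hA, le_sup_left⟩ hc
        (eq_inv_of_mul_eq_one_left e ▸ inv_mem ha) h2 ▸ h1)
      ⟨P, hP.1, e⟩
  by_cases h2 : RK B F
  swap
  · exact ⟨B, h.1.1, h2, rfl, key B ⟨h.1.1, le_sup_right⟩ h2⟩
  obtain ⟨p, hp, q, hq, -, h3, h4⟩ := hS.exists_not_rk h1 h2 h.1.2.2
  have h5 : q * p ≠ 1 := fun e => h.1.2.1 (h.eq ⟨h.1.1, le_sup_right⟩ ⟨hA, le_sup_left⟩ hq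
    (eq_inv_of_mul_eq_one_left e ▸ inv_mem hp) h3)
  obtain ⟨R, hR, e⟩ := h.2.2.1 _ (mul_mem (mem_sup_right hq) (mem_sup_left hp)) h5
  have h6 := key R hR (h4 R h5 e)
  refine ⟨R, hR.1, h4 R h5 e, le_antisymm (sup_le le_sup_left hR.2) (sup_le le_sup_left ?_), h6⟩
  obtain ⟨P, hP, e'⟩ := (hS.partition_comm hA ⟨F, hF, h1⟩ h6.2.1).2.1 q (by
    rw [h6.2.2, ← mul_inv_cancel_right q p]; exact mul_mem (mem_sup_right e) (mem_sup_left (inv_mem hp))) h3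
  rw [h6.2.2] at hP
  exact h.eq ⟨hP.1, hP.2.trans (sup_le le_sup_left hR.2)⟩ ⟨h.1.1, le_sup_right⟩ e' hq h3 ▸ hP.2

/-- Every line partner is a commutator. -/
theorem exists_comm_eq (hn : ∀ A ∈ S, NI S A) (hA : A ∈ S) (h : Ln S A B) : ∃ E ∈ S, CM S A E ∧ ⁅A, E⁆ = B := by
  obtain ⟨F, hF, h1⟩ := hn A hA
  obtain ⟨R, hR, -, e1, H1, H2, e2⟩ := hS.exists_mv hA hF h h1
  by_cases e : B = R
  · exact ⟨_, H1.mem, H2, e2.trans e.symm⟩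
  obtain ⟨F', hF', h2⟩ := hn R hR
  obtain ⟨R', hR', h3, e3, H3, H4, e4⟩ := hS.exists_mv hR hF' (e2 ▸ hS.line_comm hA (hn A hA) H2) h2
  have m := fun E => hS.members_comm (E := E) hA (hn A hA) H2
  simp only [e2] at m
  obtain ⟨b, hb, rfl⟩ := ((m B).1 ⟨h.1.1, e1 ▸ le_sup_right⟩).resolve_right e
  obtain ⟨r, hr, rfl⟩ := ((m R').1 ⟨hR', sup_comm R A ▸ e3 ▸ le_sup_right⟩).resolve_right fun e => h3 (e ▸ h2)
  have h4 : cj (b * r⁻¹) R = R := e2 ▸ H2.cj_comm (mul_mem hb (inv_mem hr))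
  have H5 := H4.conj hS (b * r⁻¹)
  replace e4 := congrArg (cj (b * r⁻¹)) e4
  replace e3 := congrArg (cj (b * r⁻¹)) e3
  rw [cj_commutator, h4, ← cj_mul, inv_mul_cancel_right] at e4
  rw [cj_sup, h4, ← cj_mul, inv_mul_cancel_right, sup_comm R A, ← e2, H2.cj_sup (mul_mem hb (inv_mem hr)), e2] at e3
  rw [h4] at H5
  obtain ⟨x, hx, e5⟩ := ((hS.members_comm hR (hn R hR) H5).1 ⟨hA, by rw [e4, e3]; exact le_sup_left⟩).resolve_right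
    (e4 ▸ h.1.2.1.symm)
  refine ⟨_, hS.cj_mem H3.mem _, by simpa only [e5, cj_eq_of_mem hx] using H5.conj hS x, ?_⟩
  rw [← e4, ← H5.cj_comm hx, cj_commutator x R, e5, cj_eq_of_mem hx]

theorem line_of_mem (hn : ∀ A ∈ S, NI S A) (hA : A ∈ S) (h : Ln S A B) (hP : P ∈ Cfsg.membersIn S (A ⊔ B))
    (hQ : Q ∈ Cfsg.membersIn S (A ⊔ B)) (hne : P ≠ Q) : P ⊔ Q = A ⊔ B ∧ Ln S P Q := by
  have := hS.commutative A hA
  have := hS.commutative B h.1.1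
  suffices P ⊔ Q = A ⊔ B from ⟨this, ⟨hQ.1, hne.symm, comm_bot_iff.2 fun _ ha _ hc =>
    comm_sup_of_comm h.1.2.2 (hP.2 ha) (hQ.2 hc)⟩, this ▸ h.2⟩
  obtain ⟨E, hE, H, rfl⟩ := hS.exists_comm_eq hn hA h
  obtain ⟨p, hp, rfl⟩ | rfl := (hS.members_comm hA (hn A hA) H).1 hP <;>
    obtain ⟨q, hq, rfl⟩ | rfl := (hS.members_comm hA (hn A hA) H).1 hQ
  · rw [← H.cj_sup hp, ← H.sup_cj (mul_mem (inv_mem hp) hq) fun e => hne (by rw [inv_mul_eq_one.1 e]), cj_sup, ← cj_mul,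
      mul_inv_cancel_left]
  · rw [← H.cj_sup hp, cj_sup, H.cj_comm hp]
  · rw [← H.cj_sup hq, cj_sup, H.cj_comm hq, sup_comm]
  · exact absurd rfl hne

/-- A group fixing a point of a line and transitive on the other points. -/
theorem exists_move (hn : ∀ A ∈ S, NI S A) (hA : A ∈ S) (h : Ln S A B) (hP : P ∈ Cfsg.membersIn S (A ⊔ B))
    (hQ : Q ∈ Cfsg.membersIn S (A ⊔ B)) (hR : R ∈ Cfsg.membersIn S (A ⊔ B)) (h1 : P ≠ R) (h2 : Q ≠ R) :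
    ∃ E ∈ S, ⁅R, E⁆ = ⊥ ∧ (∀ e ∈ E, cj e (A ⊔ B) = A ⊔ B) ∧ ∃ e ∈ E, cj e P = Q := by
  obtain ⟨e, h3⟩ := hS.line_of_mem hn hA h hP hR h1
  obtain ⟨E, hE, H, rfl⟩ := hS.exists_comm_eq hn hP.1 h3
  rw [← e] at hQ ⊢
  exact ⟨E, hE, Lib.Layer.commutator_eq_bot_symm H.comm_r, fun _ => H.cj_sup,
    ((hS.members_comm hP.1 (hn P hP.1) H).1 hQ).resolve_right h2⟩

theorem cn_cj (hA : A ∈ S) (hn : NI S A) (g : G) : Cn S A (cj g A) := by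
  refine hS.ind g (fun B hB b hb => ?_) (by rw [cj_one]) fun x y hx hy => hx.trans (cj_mul x y A ▸ hy.conj hS x)
  obtain h | h | h := hS.tri hA hB
  · rw [cj_eq_of_commute fun a ha => (comm_bot_iff.1 h a ha b hb).symm]
  · exact .tail (.single ⟨hA, hB, h⟩) ⟨hB, hS.cj_mem hA b, by simpa only [cj_eq_of_mem hb] using h.symm.conj b⟩
  obtain ⟨F, hF, h1⟩ := hn
  have e : Cn S A F := .single ⟨hA, hF, h1⟩
  by_cases h2 : RK ⁅A, B⁆ F
  · replace e : Cn S A _ := e.tail ⟨hF, h.mem, h2.symm⟩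
    exact e.trans (by simpa only [h.cj_comm hb] using (e.conj hS b).symm)
  · obtain ⟨a, ha, h3⟩ := h1.exists_ne_one
    exact e.tail ⟨hF, hS.cj_mem hA b, (hS.rk_of_mul hF h.mem (hS.cj_mem hA b) h1 h2 ha h3
      (commutator_comm B A ▸ commutator_mem_commutator hb ha) (conj_eq_comm b a ▸ conj_mem_cj.2 ha)).symm⟩

theorem inf_cent (hB : B ∈ S) (H : CM S A B) : (A ⊔ ⁅A, B⁆) ⊓ centralizer (B : Set G) = ⁅A, B⁆ := by
  refine le_antisymm (fun x hx => ?_) (le_inf le_sup_right fun c hc b hb => (H.cr hc hb).symm)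
  obtain ⟨c, hc, a, ha, rfl⟩ := mem_sup_of_comm H.comm_l hx.1
  obtain rfl : a = 1 := by_contra fun h => by
    obtain ⟨c', hc', h1⟩ := hS.exists_ne_one H.mem
    obtain ⟨b, hb, rfl⟩ := H.sl ha h hc'
    exact h1 (comm_eq_one.2 (mul_left_cancel (a := c) (by rw [← mul_assoc, ← hx.2 b hb, ← mul_assoc, ← H.cr hc hb, mul_assoc])))
  rwa [mul_one]

theorem rk_of_opp (hB : B ∈ S) (hD : D ∈ S) (H : CM S A B) (H' : CM S ⁅A, B⁆ D) (e : ⁅⁅A, B⁆, D⁆ = A) : RK B D := by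
  by_contra hn
  obtain ⟨b, hb, h1⟩ := hS.exists_ne_one hB
  obtain ⟨c, hc, h2⟩ := hS.exists_ne_one H.mem
  obtain ⟨a, ha, rfl⟩ := H.symm.sl (inv_mem hb) (inv_ne_one.2 h1) (commutator_comm A B ▸ hc)
  have h3 : ∀ a ∈ A, ∀ d ∈ D, Commute d a := fun a ha d hd => (H'.cr (e.ge ha) hd).symm
  refine hS.ne_bot _ H'.mem (comm_bot_iff.2 fun c' hc' d' hd' => ?_)
  obtain ⟨a', ha', rfl⟩ := H.symm.sl hb h1 (commutator_comm A B ▸ hc')
  obtain ⟨d, hd, e'⟩ := H'.symm.sr hc h2 (commutator_comm _ D ▸ e.ge ha')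
  have h4 : Commute d' (b * d * b⁻¹) := comm_bot_iff.1 (hS.cj_comm hD hB (fun h => hn h.symm) hb) _ hd' _ (conj_mem_cj.2 hd)
  have h5 := h3 a ha d' hd'
  have h6 : b * a' * b⁻¹ = b * d * b⁻¹ * a * (b * d * b⁻¹)⁻¹ * a⁻¹ := by
    rw [← e', commutatorElement_def, commutatorElement_def, mul_assoc (d * _), ← mul_inv_rev, mul_assoc _ a⁻¹ d, ← mul_assoc d,
      ← (h3 _ (inv_mem ha) d hd).eq, mul_assoc d _ a⁻¹]
    group
  exact (Commute.mul_right (h6 ▸ ((h4.mul_right h5).mul_right h4.inv_right).mul_right h5.inv_right)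
    (h3 a' ha' d' hd').inv_right).symm

end Cfsg.IsRootSubgroupSet
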