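import Cfsg.Agent.Lib.Root.Class

/-!
# Triangle configurations of abstract root subgroups
-/

set_option autoImplicit false
set_option linter.unusedSectionVars false

namespace Cfsg.Lib.Root

open Subgroup Cfsg.Lib.Transfer
open scoped commutatorElement

variable {G : Type*} [Group G] {S : Set (Subgroup G)} {A B C E F : Subgroup G} {a a' b b' c e t u x y z : G}

theorem _root_.Cfsg.IsRankOnePair.central_of_cent (h : RK A B) (h1 : ∀ a ∈ A, x * a = a * x) (h2 : cj x B = B)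
    (hy : y ∈ A ⊔ B) : y * x = x * y :=
  h.central_of_fix (fun F hF => by
    obtain rfl | ⟨a, ha, rfl⟩ := h.mem_iff.1 hF
    · exact cj_eq_of_commute h1
    · rw [← cj_mul, h1 a ha, cj_mul, h2]) hy

/-- `u` centralises `A` and moves `B` to a subgroup commuting with it. -/
structure Tw (A B : Subgroup G) (u : G) : Prop where
  rk : RK A B
  cb : IsMulCommutative B
  ca : IsMulCommutative A
  cen : ∀ a ∈ A, u * a = a * u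
  par : ⁅B, cj u B⁆ = ⊥

namespace Tw

variable (h : Tw A B u)
include h

theorem par' (hF : F ∈ unipotentSubgroups A B) : ⁅F, cj u F⁆ = ⊥ := by
  obtain rfl | ⟨a, ha, rfl⟩ := h.rk.mem_iff.1 hF
  · rw [cj_eq_of_commute h.cen, commutator_self_eq_bot_iff.2 h.ca]
  · rw [← cj_mul, h.cen a ha, cj_mul, ← cj_commutator, h.par, cj_bot]

theorem comm (hb : b ∈ B) (hx : x ∈ B ⊔ cj u B) : ⁅b, u⁆ * x = x * ⁅b, u⁆ :=
  have := h.cb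
  have : IsMulCommutative (cj u B) := map_isMulCommutative _ _
  comm_sup_of_comm h.par (by
    rw [commutatorElement_def, mul_assoc, mul_assoc, ← mul_assoc u]
    exact mul_mem (mem_sup_left hb) (mem_sup_right (conj_mem_cj.2 (inv_mem hb)))) hx

theorem mul (hb : b ∈ B) (hb' : b' ∈ B) : ⁅b * b', u⁆ = ⁅b, u⁆ * ⁅b', u⁆ := by
  rw [comm_mul_left, ← h.comm hb' (mem_sup_left hb), mul_inv_cancel_right, h.comm hb' (x := ⁅b, u⁆)]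
  rw [commutatorElement_def, mul_assoc, mul_assoc, ← mul_assoc u]
  exact mul_mem (mem_sup_left hb) (mem_sup_right (conj_mem_cj.2 (inv_mem hb)))

theorem inv (hb : b ∈ B) : ⁅b⁻¹, u⁆ = ⁅b, u⁆⁻¹ := eq_inv_of_mul_eq_one_left (by rw [← h.mul (inv_mem hb) hb]; simp)

theorem cj_eq (b : G) : cj ⁅b, u⁆ A = cj b (cj u (cj b⁻¹ A)) := by
  rw [commutatorElement_def, cj_mul, ← cj_eq_iff_eq_cj.1 (cj_eq_of_commute h.cen), cj_mul, cj_mul]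

theorem next (hb : b ∈ B) : Tw B A ⁅b, u⁆ :=
  ⟨h.rk.symm, h.ca, h.cb, fun _ hb' => h.comm hb (mem_sup_left hb'), by
    have := congrArg (cj b) (h.par' (IsRankOnePair.cj_mem (inv_mem (mem_sup_right hb)) IsRankOnePair.left_mem))
    rwa [cj_commutator, cj_cj_inv, ← h.cj_eq, cj_bot] at this⟩

theorem next_ne (hn : cj u B ≠ B) (hb : b ∈ B) (h1 : b ≠ 1) : cj ⁅b, u⁆ A ≠ A := fun e => by
  obtain ⟨a, p⟩ := h.rk.exists_pt' (inv_mem hb) (inv_ne_one.2 h1)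
  rw [h.cj_eq, cj_eq_iff_eq_cj, p.eq, ← cj_mul, h.cen a p.l, cj_mul, cj_inj] at e
  exact hn e

theorem par_next (hb : b ∈ B) (hb' : b' ∈ B) : ⁅cj ⁅b, u⁆ A, cj ⁅b', u⁆ A⁆ = ⊥ := by
  rw [← mul_inv_cancel_left b b', h.mul hb (mul_mem (inv_mem hb) hb'), cj_mul, ← cj_commutator,
    (h.next (mul_mem (inv_mem hb) hb')).par, cj_bot]

theorem back (p : Pt A B a b) : cj ⁅a, ⁅b, u⁆⁆ B = cj u B := by
  obtain ⟨v, hv⟩ : ∃ v, a * v * a⁻¹ = b * u * b⁻¹ := ⟨a⁻¹ * (b * u * b⁻¹) * a, by group⟩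
  have h1 : ∀ y ∈ B, v * y = y * v := fun y hy => by
    obtain rfl : v = a⁻¹ * (b * u * b⁻¹) * a := by rw [← hv]; group
    calc _ = a⁻¹ * b * (u * (b⁻¹ * (a * y * a⁻¹) * b)) * b⁻¹ * a := by group
      _ = _ := by rw [h.cen _ (mem_cj.1 (p.eq ▸ conj_mem_cj.2 hy))]; group
  have H : Tw B A v := ⟨h.rk.symm, h.ca, h.cb, h1, by
    have := congrArg (cj (a⁻¹ * b)) (h.par' (IsRankOnePair.cj_mem (inv_mem (mem_sup_right p.r)) IsRankOnePair.left_mem))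
    rwa [cj_commutator, cj_bot, ← cj_mul, mul_inv_cancel_right, cj_eq_of_mem (inv_mem p.l), ← cj_mul, ← cj_mul,
      mul_assoc a⁻¹, mul_assoc a⁻¹, ← hv, mul_assoc a, inv_mul_cancel_left, cj_mul, cj_eq_of_mem (inv_mem p.l)] at this⟩
  rw [conj_eq_comm, conj_eq_comm] at hv
  have h2 : cj v A = cj ⁅b, u⁆ A := by
    rw [← cj_eq_of_commute fun x hx => H.comm p.l (mem_sup_right hx), ← cj_mul, hv, cj_mul, cj_eq_of_commute h.cen]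
  have h3 := h.rk.symm.central_of_cent (x := ⁅b, u⁆⁻¹ * v) (fun y hy => by
    rw [mul_assoc, h1 y hy, ← mul_assoc, ← h.inv p.r, (h.next (inv_mem p.r)).cen y hy, mul_assoc])
    (cj_eq_cj_iff.1 h2) (mem_sup_right p.l)
  have h4 : ⁅a, v⁆ = ⁅a, ⁅b, u⁆⁆ := by
    rw [← mul_inv_cancel_left ⁅b, u⁆ v, comm_mul_right, comm_eq_one.2 h3, mul_one, mul_inv_cancel, mul_one]
  rw [← h4, ← cj_eq_of_commute h1, ← cj_mul, hv, cj_mul, cj_eq_of_commute h1,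
    cj_eq_of_commute fun x hx => h.comm p.r (mem_sup_right hx)]

theorem sp (hS : RS S) (hA : A ∈ S) (hB : B ∈ S) (hn : cj u B ≠ B) : Sp A B := by
  refine ⟨h.rk, fun {a b} p => by_contra fun e => hn ?_⟩
  have H := h.next p.r
  have h1 := h.rk.central_of_cent (x := ⁅a, ⁅b, u⁆⁆⁻¹ * u) (fun y hy => by
    rw [mul_assoc, h.cen y hy, ← mul_assoc, ← H.inv p.l, (H.next (inv_mem p.l)).cen y hy, mul_assoc])
    (cj_eq_cj_iff.1 (h.back p).symm) (mem_sup_right p.r)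
  have h2 := h.inv p.r
  have h3 := H.inv p.l
  have h4 := h.cen a p.l
  have h5 := H.cen b p.r
  have e1 := (conj_eq_comm b u).symm
  have e2 := (conj_eq_comm a ⁅b, u⁆).symm
  have e3 := (conj_eq_comm b⁻¹ u).symm
  have e4 := (conj_eq_comm a⁻¹ ⁅b, u⁆).symm
  rw [h2] at e3
  rw [h3] at e4
  generalize ⁅b, u⁆ = t at *
  generalize ⁅a, t⁆ = n at *
  have k1 : a * b * a⁻¹ * u * (a * b * a⁻¹)⁻¹ = n * t * u := by
    calc _ = a * (b * (a⁻¹ * (u * a)) * b⁻¹) * a⁻¹ := by group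
      _ = a * t * (u * a⁻¹) := by rw [h4, inv_mul_cancel_left, ← e1]; group
      _ = _ := by rw [h.cen _ (inv_mem p.l), ← mul_assoc, e2]
  have k2 : b * a⁻¹ * b⁻¹ * u * (b * a⁻¹ * b⁻¹)⁻¹ = n * t * u := by
    have k3 : b * n⁻¹ * b⁻¹ = n⁻¹ * t⁻¹ := by
      rw [← mul_left_inj (t * u), mul_assoc n⁻¹, inv_mul_cancel_left, e1, conj_mul, h1, mul_inv_cancel_right]
    calc _ = b * (a⁻¹ * (b⁻¹ * u * b⁻¹⁻¹) * a) * b⁻¹ := by group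
      _ = b * (a⁻¹ * t * a⁻¹⁻¹)⁻¹ * (a⁻¹ * (u * a)) * b⁻¹ := by rw [← e3]; group
      _ = (b * t * b⁻¹)⁻¹ * (b * n⁻¹ * b⁻¹)⁻¹ * (b * u * b⁻¹) := by rw [← e4, h4]; group
      _ = _ := by rw [k3, ← e1, ← h5]; group
  have h6 : (a * b * a⁻¹)⁻¹ * (b * a⁻¹ * b⁻¹) ∈ cj b A := mul_mem (inv_mem (p.eq ▸ conj_mem_cj.2 p.r)) (conj_mem_cj.2 (inv_mem p.l))
  have h7 := hS.eq_of_mem (NI.conj hS ⟨B, hB, h.rk⟩ b) (hS.cj_mem (hS.cj_mem hA b) u⁻¹) h6 (mem_cj.2 (by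
    convert h6 using 1
    calc _ = u * (a * b * a⁻¹)⁻¹ * (b * a⁻¹ * b⁻¹ * u * (b * a⁻¹ * b⁻¹)⁻¹)⁻¹ * (b * a⁻¹ * b⁻¹) := by group
      _ = _ := by rw [k2, ← k1]; group)) fun e' => e (by
      rw [inv_mul_eq_one] at e'
      calc _ = a⁻¹ * (b * a⁻¹ * b⁻¹) * b := by group
        _ = _ := by rw [← e']; group)
  rwa [cj_eq_iff_eq_cj, inv_inv, p.eq, ← cj_mul, h4, cj_mul, cj_inj, eq_comm] at h7

/-- The cubic relation. -/
theorem cube {X : Subgroup G} (hn : cj u B ≠ B) (hX : ∀ C, (∃ g, C = cj g A) → C ≠ A → ⁅A, C⁆ = ⊥ → C ≤ X) (ha : a ∈ A)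
    {b₁ b₂ b₃ : G} (h1 : b₁ ∈ B) (h2 : b₂ ∈ B) (h3 : b₃ ∈ B) (n1 : b₁ ≠ 1) (n2 : b₂ ≠ 1) (n3 : b₃ ≠ 1) (n4 : b₂ * b₁ ≠ 1)
    (n5 : b₃ * b₁ ≠ 1) (n6 : b₃ * b₂ ≠ 1) (n7 : b₃ * (b₂ * b₁) ≠ 1) : a ∈ X := by
  obtain ⟨a₀, ha₀, n0⟩ := h.rk.exists_ne_one
  obtain ⟨b₀, p⟩ := h.rk.exists_pt ha₀ n0
  have H := (h.next h1).next ha₀
  have e0 := (h.next h1).back p.symm
  replace hn := (h.next h1).next_ne (h.next_ne hn h1 n1) ha₀ n0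
  obtain ⟨v, hv⟩ : ∃ v, v = ⁅a₀, ⁅b₁, u⁆⁆ := ⟨_, rfl⟩
  rw [← hv] at H e0 hn
  have k : ∀ b ∈ B, b ≠ 1 → ⁅b, v⁆ * a * ⁅b, v⁆⁻¹ ∈ X := fun b hb h1 =>
    hX _ ⟨_, rfl⟩ (H.next_ne hn hb h1) (H.next hb).par (conj_mem_cj.2 ha)
  obtain ⟨a₁, q⟩ := h.rk.exists_pt' h1 n1
  have c1 : ∀ y, Commute y a → (∀ b ∈ B, Commute y (⁅b, v⁆ * a * ⁅b, v⁆⁻¹)) → Commute y ⁅⁅b₂, v⁆, ⁅a, ⁅b₁, v⁆⁆⁆ := fun y k1 k2 => by
    have := ((k2 _ h2).mul_right (k2 _ (mul_mem h2 h1)).inv_right).mul_right (k1.mul_right (k2 _ h1).inv_right).inv_right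
    rw [H.mul h2 h1] at this
    refine (congrArg (Commute y) ?_).mpr this
    simp only [commutatorElement_def]; group
  have c2 : Commute v ⁅⁅b₂, v⁆, ⁅a, ⁅b₁, v⁆⁆⁆ := by
    have c3 : ∀ b ∈ B, ∀ y ∈ cj ⁅b, v⁆ A, Commute y ⁅⁅b₂, v⁆, ⁅a, ⁅b₁, v⁆⁆⁆ := fun b hb y hy =>
      c1 y (comm_bot_iff.1 (H.next hb).par a ha y hy).symm fun b' hb' => comm_bot_iff.1 (H.par_next hb hb') y hy _ (conj_mem_cj.2 ha)
    rw [show v = a₀ * (⁅b₁, u⁆ * a₀⁻¹ * ⁅b₁, u⁆⁻¹) by rw [hv, commutatorElement_def]; group] at c3 ⊢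
    exact (c3 1 (one_mem _) a₀ (by simpa [cj_one] using ha₀)).mul_left (c3 _ p.r _ (by
      rw [show a₀ * (⁅b₁, u⁆ * a₀⁻¹ * ⁅b₁, u⁆⁻¹) = v by rw [hv, commutatorElement_def]; group, e0]
      exact conj_mem_cj.2 (inv_mem ha₀)))
  have c4 : ∀ b ∈ B, Commute b ⁅⁅b₂, v⁆, ⁅a, ⁅b₁, v⁆⁆⁆ := fun b hb => by
    have k1 : cj ⁅a, ⁅b₁, v⁆⁆⁻¹ B ≤ centralizer {⁅b₂, v⁆} := fun y hy => mem_centralizer_singleton_iff.2 (by
      rw [← (H.next h1).inv ha] at hy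
      have k2 := comm_bot_iff.1 ((H.next h1).par_next (inv_mem ha) q.l) y hy
      have k3 := comm_bot_iff.1 ((H.next h1).next (inv_mem ha)).par
      rw [H.back q] at k2
      rw [commutatorElement_def, mul_assoc b₂, mul_assoc b₂]
      exact Commute.mul_right (k3 _ h2 y hy).symm (k2 _ (conj_mem_cj.2 (inv_mem h2))))
    have k2 := mem_centralizer_singleton_iff.1 (k1 (conj_mem_cj.2 hb))
    have k3 := (H.next h2).cen b hb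
    generalize ⁅b₂, v⁆ = t at k2 k3
    generalize ⁅a, ⁅b₁, v⁆⁆ = n at k2
    calc b * ⁅t, n⁆ = t * n * t⁻¹ * (t * (n⁻¹ * (t⁻¹ * (b * t)) * n⁻¹⁻¹) * t⁻¹) * n⁻¹ := by rw [commutatorElement_def]; group
      _ = _ := by rw [← k3, inv_mul_cancel_left, ← k2, commutatorElement_def]; group
  have c5 : Commute ⁅b₃, v⁆ ⁅⁅b₂, v⁆, ⁅a, ⁅b₁, v⁆⁆⁆ :=
    (((c4 _ h3).mul_left c2).mul_left (c4 _ h3).inv_left).mul_left c2.inv_left
  have m1 := mul_mem (mul_mem (k _ (mul_mem h3 h2) n6) (inv_mem (k _ (mul_mem h3 (mul_mem h2 h1)) n7)))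
    (inv_mem (mul_mem (k _ h3 n3) (inv_mem (k _ (mul_mem h3 h1) n5))))
  have m2 := mul_mem (mul_mem (inv_mem m1) (mul_mem (k _ h2 n2) (inv_mem (k _ (mul_mem h2 h1) n4)))) (k _ h1 n1)
  rw [H.mul h3 h2, H.mul h3 (mul_mem h2 h1), H.mul h2 h1, H.mul h3 h1] at m2
  convert m2 using 1
  have := mul_inv_eq_iff_eq_mul.2 c5.eq
  generalize ⁅b₁, v⁆ = t₁ at *
  generalize ⁅b₂, v⁆ = t₂ at *
  generalize ⁅b₃, v⁆ = t₃ at *
  calc a = (t₃ * ⁅t₂, ⁅a, t₁⁆⁆ * t₃⁻¹)⁻¹ * ⁅t₂, ⁅a, t₁⁆⁆ * a := by rw [this]; group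
    _ = _ := by simp only [commutatorElement_def]; group

end Tw

theorem exists_tw (hS : RS S) (hA : A ∈ S) (hB : B ∈ S) (hC : C ∈ S) (h1 : RK A B) (h2 : RK C B) (h : ⁅A, C⁆ = ⊥) (hne : C ≠ A) :
    ∃ u, Tw A B u ∧ cj u B ≠ B := by
  obtain ⟨b, hb, h3⟩ := h1.symm.exists_ne_one
  obtain ⟨a, p⟩ := h1.exists_pt' hb h3
  obtain ⟨c, q⟩ := h2.exists_pt' hb h3
  refine ⟨a⁻¹ * c, ⟨h1, hS.commutative B hB, hS.commutative A hA, fun x hx => ?_, ?_⟩, fun e => hne ?_⟩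
  · rw [mul_assoc, ← comm_bot_iff.1 h x hx c q.l, ← mul_assoc, hS.comm hA (inv_mem p.l) hx, mul_assoc]
  · rw [← cj_eq_bot (g := a), cj_commutator, cj_mul, cj_cj_inv, ← p.eq, ← q.eq, ← cj_commutator, h, cj_bot]
  · exact (hS.eq_of_cj h1 hB hC q.l p.l (p.ne_one h1.ne) (cj_eq_cj_iff.2 e)
      (cj_eq_of_commute fun x hx => (comm_bot_iff.1 h x hx c q.l).symm)).1

end Cfsg.Lib.Root
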